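import Mathlib
import Cfsg.Prelude.Def_Solvable

set_option autoImplicit false

namespace Cfsg.Agent.Lib.Helper10

variable {G : Type*} [Group G]

theorem fitting_normal : (Cfsg.fittingSubgroup G).Normal :=
  Subgroup.sSup_normal _ (fun _ h => h.1)

theorem le_fitting {N : Subgroup G} (hN : N.Normal) (hn : Group.IsNilpotent N) :
    N ≤ Cfsg.fittingSubgroup G :=
  le_sSup ⟨hN, hn⟩

/-- a subgroup of class at most two is nilpotent -/
theorem isNilpotent_of_comm_comm_eq_bot (A : Subgroup G) (h : ⁅⁅A, A⁆, A⁆ = ⊥) :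
    Group.IsNilpotent A :=
  (Subgroup.isNilpotent_iff_lowerCentralSeries A).mpr ⟨2, h⟩

/-- every normal subgroup of a finite solvable group centralizing `F(G)` lies in `F(G)` -/
theorem normal_le_fitting_of_le_centralizer [Finite G] [Group.IsSolvable G] (A : Subgroup G)
    (hAn : A.Normal) (hA : A ≤ Subgroup.centralizer (Cfsg.fittingSubgroup G : Set G)) :
    A ≤ Cfsg.fittingSubgroup G := by
  induction A using WellFoundedLT.induction with
  | ind A ih =>
  by_cases hb : A = ⊥
  · rw [hb]; exact bot_le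
  · have hlt : ⁅A, A⁆ < A := Group.IsSolvable.commutator_lt_of_ne_bot hb
    haveI := hAn
    have hn : (⁅A, A⁆ : Subgroup G).Normal := inferInstance
    have h1 : ⁅A, A⁆ ≤ Cfsg.fittingSubgroup G := ih _ hlt hn (hlt.le.trans hA)
    apply le_fitting hAn
    apply isNilpotent_of_comm_comm_eq_bot
    rw [eq_bot_iff]
    calc ⁅⁅A, A⁆, A⁆ ≤ ⁅Cfsg.fittingSubgroup G,
          Subgroup.centralizer (Cfsg.fittingSubgroup G : Set G)⁆ := Subgroup.commutator_mono h1 hA
      _ = ⊥ := by
          rw [Subgroup.commutator_comm, Subgroup.commutator_eq_bot_iff_le_centralizer]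

/-- in a finite solvable group, `C_G(F(G)) ≤ F(G)` -/
theorem centralizer_fitting_le [Finite G] [Group.IsSolvable G] :
    Subgroup.centralizer (Cfsg.fittingSubgroup G : Set G) ≤ Cfsg.fittingSubgroup G := by
  haveI : (Cfsg.fittingSubgroup G).Normal := fitting_normal
  exact normal_le_fitting_of_le_centralizer _ inferInstance le_rfl

end Cfsg.Agent.Lib.Helper10
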