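import Mathlib

set_option autoImplicit false

namespace Cfsg.Agent.Lib.Helper10

/-- A nontrivial finite solvable group has a nontrivial normal abelian `q`-subgroup
for some prime `q`. -/
theorem exists_normal_pgroup_of_solvable {G : Type*} [Group G] [Finite G] [hs : Group.IsSolvable G]
    [Nontrivial G] : ∃ (q : ℕ) (N : Subgroup G), q.Prime ∧ N.Normal ∧ N ≠ ⊥ ∧ IsPGroup q N ∧
      IsMulCommutative N ∧ q ∣ Nat.card G := by
  classical
  obtain ⟨n, hn⟩ := hs.solvable
  have hex : ∃ n, derivedSeries G n = ⊥ := ⟨n, hn⟩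
  set m := Nat.find hex with hm
  have hm_spec : derivedSeries G m = ⊥ := Nat.find_spec hex
  have hm0 : m ≠ 0 := by
    intro h0
    rw [h0, derivedSeries_zero] at hm_spec
    exact top_ne_bot hm_spec
  obtain ⟨k, hk⟩ : ∃ k, m = k + 1 := ⟨m - 1, by omega⟩
  set A := derivedSeries G k with hA
  have hAne : A ≠ ⊥ := by
    intro h
    have := Nat.find_min' hex h
    omega
  have hAcomm : IsMulCommutative A := by
    rw [← Subgroup.commutator_self_eq_bot_iff]
    rw [hk, derivedSeries_succ] at hm_spec
    exact hm_spec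
  haveI hAn : A.Normal := derivedSeries_normal G k
  have hcard : Nat.card A ≠ 1 := by
    intro h1
    exact hAne (Subgroup.card_eq_one.mp h1)
  obtain ⟨q, hq, hqdvd⟩ := Nat.exists_prime_and_dvd hcard
  haveI : Fact q.Prime := ⟨hq⟩
  obtain ⟨Q⟩ := (Sylow.nonempty : Nonempty (Sylow q A))
  have hQn : (Q : Subgroup A).Normal := inferInstance
  haveI hQc : (Q : Subgroup A).Characteristic := Q.characteristic_of_normal hQn
  refine ⟨q, (Q : Subgroup A).map A.subtype, hq, inferInstance, ?_, Q.2.map _, inferInstance,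
    hqdvd.trans (Subgroup.card_subgroup_dvd_card A)⟩
  intro hbot
  have h1 : (Q : Subgroup A) = ⊥ := by
    rw [eq_bot_iff]
    intro x hx
    have : (x : G) ∈ (Q : Subgroup A).map A.subtype := ⟨x, hx, rfl⟩
    rw [hbot, Subgroup.mem_bot] at this
    rw [Subgroup.mem_bot]
    exact Subtype.ext this
  have h2 := Q.card_eq_multiplicity
  rw [h1, Subgroup.card_bot] at h2
  have h3 := (hq.dvd_iff_one_le_factorization Nat.card_pos.ne').mp hqdvd
  have : 1 < q ^ (Nat.card A).factorization q := Nat.one_lt_pow (by omega) hq.one_lt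
  omega

end Cfsg.Agent.Lib.Helper10
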