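import Mathlib
import Cfsg.Agent.Lib.Helper10.Solvable

set_option autoImplicit false

namespace Cfsg.Agent.Lib.Helper10

/-- below a nontrivial normal subgroup of a finite group there is a minimal normal subgroup -/
theorem exists_minimal_normal_le {G : Type*} [Group G] [Finite G] (D : Subgroup G) [hD : D.Normal]
    (hne : D ≠ ⊥) : ∃ K : Subgroup G, K.Normal ∧ K ≠ ⊥ ∧ K ≤ D ∧
      ∀ L : Subgroup G, L.Normal → L ≤ K → L = ⊥ ∨ L = K := by
  obtain ⟨K, hK, hmin⟩ := Set.exists_min_image {K : Subgroup G | K.Normal ∧ K ≠ ⊥ ∧ K ≤ D}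
    (fun K => Nat.card K) (Set.toFinite _) ⟨D, hD, hne, le_rfl⟩
  refine ⟨K, hK.1, hK.2.1, hK.2.2, ?_⟩
  intro L hL hLK
  by_cases hLb : L = ⊥
  · exact Or.inl hLb
  · right
    exact Subgroup.eq_of_le_of_card_ge hLK (hmin L ⟨hL, hLb, hLK.trans hK.2.2⟩)

/-- A nontrivial finite solvable group has a minimal normal subgroup that is an abelian
`q`-group for some prime `q`. -/
theorem exists_min_normal_pgroup_of_solvable {G : Type*} [Group G] [Finite G] [Group.IsSolvable G]
    [Nontrivial G] : ∃ (q : ℕ) (N : Subgroup G), q.Prime ∧ N.Normal ∧ N ≠ ⊥ ∧ IsPGroup q N ∧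
      IsMulCommutative N ∧ q ∣ Nat.card G ∧
      ∀ L : Subgroup G, L.Normal → L ≤ N → L = ⊥ ∨ L = N := by
  obtain ⟨q, N₀, hq, hNn, hNne, hNp, hNc, hqdvd⟩ := exists_normal_pgroup_of_solvable (G := G)
  haveI := hNn
  obtain ⟨N, hN1, hN2, hN3, hN4⟩ := exists_minimal_normal_le N₀ hNne
  refine ⟨q, N, hq, hN1, hN2, hNp.to_le hN3, ?_, hqdvd, hN4⟩
  have h := isMulCommutative_iff_of_setLike.mp hNc
  exact IsMulCommutative.of_setLike_mul_comm fun a ha b hb => h a (hN3 ha) b (hN3 hb)

/-- the intersection of an abelian normal subgroup `N` with a supplement `M` is normal -/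
theorem inf_normal_of_abelian_normal_sup_eq_top {G : Type*} [Group G] [Finite G] (N M : Subgroup G)
    [hNn : N.Normal] (hNc : IsMulCommutative N) (hsup : M ⊔ N = ⊤) : (N ⊓ M).Normal := by
  have hcomm := isMulCommutative_iff_of_setLike.mp hNc
  have : Subgroup.normalizer ((N ⊓ M : Subgroup G) : Set G) = ⊤ := by
    rw [eq_top_iff, ← hsup]
    apply sup_le
    · intro h hh
      apply Subgroup.mem_normalizer_fintype
      intro n hn
      exact ⟨hNn.conj_mem n hn.1 h, M.mul_mem (M.mul_mem hh hn.2) (M.inv_mem hh)⟩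
    · intro a ha
      apply Subgroup.mem_normalizer_fintype
      intro n hn
      have : a * n * a⁻¹ = n := by rw [hcomm a ha n hn.1]; group
      rw [this]; exact hn
  exact Subgroup.normalizer_eq_top_iff.mp this

end Cfsg.Agent.Lib.Helper10
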