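import Mathlib

set_option autoImplicit false

namespace Cfsg.Agent.Lib.Helper10

open Pointwise

variable {G : Type*} [Group G]

/-- The product formula `|HK| * |H ∩ K| = |H| * |K|` for the product set of two subgroups. -/
theorem card_mul_set_mul_card_inf [Finite G] (H K : Subgroup G) :
    Nat.card ((H : Set G) * (K : Set G) : Set G) * Nat.card ↥(H ⊓ K) = Nat.card H * Nat.card K := by
  classical
  let S : Set G := (H : Set G) * (K : Set G)
  let f : H × K → S := fun x => ⟨x.1 * x.2, Set.mul_mem_mul x.1.2 x.2.2⟩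
  have hfib : ∀ y : S, Nat.card {x // f x = y} = Nat.card ↥(H ⊓ K) := by
    rintro ⟨y, hy⟩
    obtain ⟨h₀, hh₀, k₀, hk₀, rfl⟩ := Set.mem_mul.mp hy
    apply Nat.card_congr
    refine
      { toFun := fun x => ⟨h₀⁻¹ * x.1.1, ?_, ?_⟩
        invFun := fun z => ⟨(⟨h₀ * z, H.mul_mem hh₀ z.2.1⟩, ⟨z⁻¹ * k₀, K.mul_mem (K.inv_mem z.2.2) hk₀⟩), ?_⟩
        left_inv := ?_
        right_inv := ?_ }
    · exact H.mul_mem (H.inv_mem hh₀) x.1.1.2
    · have hx : (x.1.1 : G) * x.1.2 = h₀ * k₀ := congrArg Subtype.val x.2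
      have : h₀⁻¹ * (x.1.1 : G) = k₀ * (x.1.2 : G)⁻¹ := by
        have : (x.1.1 : G) = h₀ * k₀ * (x.1.2 : G)⁻¹ := eq_mul_inv_of_mul_eq hx
        rw [this]; group
      show h₀⁻¹ * (x.1.1 : G) ∈ K
      rw [this]
      exact K.mul_mem hk₀ (K.inv_mem x.1.2.2)
    · apply Subtype.ext
      show h₀ * (z : G) * ((z : G)⁻¹ * k₀) = h₀ * k₀
      group
    · rintro ⟨⟨⟨h, hh⟩, ⟨k, hk⟩⟩, hx⟩
      have hx' : h * k = h₀ * k₀ := congrArg Subtype.val hx
      apply Subtype.ext
      apply Prod.ext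
      · apply Subtype.ext
        show h₀ * (h₀⁻¹ * h) = h
        group
      · apply Subtype.ext
        show (h₀⁻¹ * h)⁻¹ * k₀ = k
        have : k₀ = h₀⁻¹ * (h * k) := by rw [hx']; group
        rw [this]; group
    · rintro ⟨z, hz⟩
      apply Subtype.ext
      show h₀⁻¹ * (h₀ * z) = z
      group
  have h1 : Nat.card (H × K) = Nat.card (Σ y : S, {x // f x = y}) :=
    Nat.card_congr (Equiv.sigmaFiberEquiv f).symm
  have : Fintype S := Fintype.ofFinite S
  have h2 : Nat.card H * Nat.card K = Nat.card (H × K) := (Nat.card_prod _ _).symm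
  rw [h2, h1, Nat.card_sigma]
  simp only [hfib, Finset.sum_const, Finset.card_univ, smul_eq_mul]
  rw [← Nat.card_eq_fintype_card]

/-- if `H ∩ K = 1` then `|H| * |K| ≤ |G|` -/
theorem card_mul_card_le_of_disjoint [Finite G] {H K : Subgroup G} (h : H ⊓ K = ⊥) :
    Nat.card H * Nat.card K ≤ Nat.card G := by
  rw [← card_mul_set_mul_card_inf, h, Subgroup.card_bot, mul_one]
  exact Nat.card_le_card_of_injective _ Subtype.val_injective

/-- if `H` normalizes `K` the product set is the join -/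
theorem mul_set_eq_sup_of_le_normalizer {H K : Subgroup G} (h : H ≤ Subgroup.normalizer (K : Set G)) :
    (H : Set G) * (K : Set G) = ((H ⊔ K : Subgroup G) : Set G) := by
  have := Subgroup.sup_eq_closure_mul H K
  apply Set.Subset.antisymm
  · rintro _ ⟨a, ha, b, hb, rfl⟩
    exact Subgroup.mul_mem _ ((le_sup_left : H ≤ H ⊔ K) ha) ((le_sup_right : K ≤ H ⊔ K) hb)
  · intro x hx
    rw [SetLike.mem_coe, this] at hx
    induction hx using Subgroup.closure_induction with
    | mem x hx => exact hx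
    | one => exact ⟨1, H.one_mem, 1, K.one_mem, by simp⟩
    | mul x y _ _ ihx ihy =>
      obtain ⟨a, ha, b, hb, rfl⟩ := ihx
      obtain ⟨c, hc, d, hd, rfl⟩ := ihy
      refine ⟨a * c, H.mul_mem ha hc, c⁻¹ * b * c * d, ?_, by simp only []; group⟩
      apply K.mul_mem _ hd
      have := (Subgroup.mem_normalizer_iff''.mp (h hc) b).mp hb
      exact this
    | inv x _ ih =>
      obtain ⟨a, ha, b, hb, rfl⟩ := ih
      refine ⟨a⁻¹, H.inv_mem ha, a * b⁻¹ * a⁻¹, ?_, by simp only []; group⟩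
      exact (Subgroup.mem_normalizer_iff.mp (h ha) b⁻¹).mp (K.inv_mem hb)

theorem card_sup_mul_card_inf [Finite G] {H K : Subgroup G} (h : H ≤ Subgroup.normalizer (K : Set G)) :
    Nat.card ↥(H ⊔ K) * Nat.card ↥(H ⊓ K) = Nat.card H * Nat.card K := by
  have := card_mul_set_mul_card_inf H K
  rw [mul_set_eq_sup_of_le_normalizer h] at this
  exact this

end Cfsg.Agent.Lib.Helper10
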