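import Mathlib
import Cfsg.Prelude.Def_Transfer

set_option autoImplicit false

namespace Cfsg.Agent.Lib.Helper10

open Cfsg

variable {G : Type*} [Group G]

theorem elemAb_comm {p : ℕ} {A : Subgroup G} (hA : IsElementaryAbelian p A) :
    ∀ x ∈ A, ∀ y ∈ A, x * y = y * x :=
  isMulCommutative_iff_of_setLike.mp hA.1

theorem elemAb_closure {p : ℕ} {S : Set G} (hcomm : ∀ x ∈ S, ∀ y ∈ S, x * y = y * x)
    (hpow : ∀ x ∈ S, x ^ p = 1) : IsElementaryAbelian p (Subgroup.closure S) := by
  have hc : IsMulCommutative (Subgroup.closure S) := Subgroup.isMulCommutative_closure hcomm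
  refine ⟨hc, ?_⟩
  have hcm := isMulCommutative_iff_of_setLike.mp hc
  intro a ha
  induction ha using Subgroup.closure_induction with
  | mem x hx => exact hpow x hx
  | one => simp
  | mul x y hx hy ihx ihy =>
    have : Commute x y := hcm x hx y hy
    rw [this.mul_pow, ihx, ihy, one_mul]
  | inv x hx ih => rw [inv_pow, ih, inv_one]

theorem elemAb_bot (p : ℕ) : IsElementaryAbelian p (⊥ : Subgroup G) := by
  refine ⟨IsMulCommutative.of_setLike_mul_comm ?_, ?_⟩
  · intro a ha b hb
    rw [Subgroup.mem_bot] at ha hb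
    rw [ha, hb]
  · intro a ha
    rw [Subgroup.mem_bot] at ha
    rw [ha, one_pow]

theorem elemAb_of_le {p : ℕ} {A B : Subgroup G} (hA : IsElementaryAbelian p A) (h : B ≤ A) :
    IsElementaryAbelian p B :=
  ⟨IsMulCommutative.of_setLike_mul_comm fun a ha b hb => elemAb_comm hA a (h ha) b (h hb),
    fun a ha => hA.2 a (h ha)⟩

theorem elemAb_isPGroup {p : ℕ} {A : Subgroup G} (hA : IsElementaryAbelian p A) : IsPGroup p A := by
  intro a
  refine ⟨1, ?_⟩
  have := hA.2 a a.2
  apply Subtype.ext
  simpa using this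

theorem elemAb_map {H : Type*} [Group H] {p : ℕ} {A : Subgroup G} (hA : IsElementaryAbelian p A)
    (f : G →* H) : IsElementaryAbelian p (A.map f) := by
  refine ⟨IsMulCommutative.of_setLike_mul_comm ?_, ?_⟩
  · rintro _ ⟨a, ha, rfl⟩ _ ⟨b, hb, rfl⟩
    rw [← map_mul, ← map_mul, elemAb_comm hA a ha b hb]
  · rintro _ ⟨a, ha, rfl⟩
    rw [← map_pow, hA.2 a ha, map_one]

theorem elemAb_comap {H : Type*} [Group H] {p : ℕ} {A : Subgroup H} (hA : IsElementaryAbelian p A)
    (f : G →* H) (hf : Function.Injective f) : IsElementaryAbelian p (A.comap f) := by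
  refine ⟨IsMulCommutative.of_setLike_mul_comm ?_, ?_⟩
  · intro a ha b hb
    apply hf
    rw [map_mul, map_mul]
    exact elemAb_comm hA _ ha _ hb
  · intro a ha
    apply hf
    rw [map_pow, map_one]
    exact hA.2 _ ha

/-- In a finite group there is an elementary abelian subgroup of maximal order. -/
theorem exists_maxElemAb (p : ℕ) [Finite G] : ∃ A : Subgroup G, A ∈ maxElementaryAbelianSubgroups p G := by
  classical
  have hfin : (Set.univ : Set (Subgroup G)).Finite := Set.finite_univ
  have hne : ({A : Subgroup G | IsElementaryAbelian p A}).Nonempty := ⟨⊥, elemAb_bot p⟩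
  obtain ⟨A, hA, hmax⟩ := Set.exists_max_image {A : Subgroup G | IsElementaryAbelian p A}
    (fun A => Nat.card A) (Set.toFinite _) hne
  exact ⟨A, hA, fun B hB => hmax B hB⟩

theorem maxElemAb_le_thompson {p : ℕ} {A : Subgroup G} (hA : A ∈ maxElementaryAbelianSubgroups p G) :
    A ≤ thompsonSubgroup p G :=
  le_sSup hA

/-- adjoining a commuting element of order dividing `p` to an elementary abelian subgroup -/
theorem elemAb_sup_zpowers {p : ℕ} {A : Subgroup G} (hA : IsElementaryAbelian p A) {x : G}
    (hx : ∀ a ∈ A, a * x = x * a) (hxp : x ^ p = 1) :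
    IsElementaryAbelian p (A ⊔ Subgroup.zpowers x) := by
  have h : A ⊔ Subgroup.zpowers x = Subgroup.closure ((A : Set G) ∪ {x}) := by
    rw [Subgroup.closure_union, Subgroup.closure_eq, Subgroup.zpowers_eq_closure]
  rw [h]
  apply elemAb_closure
  · rintro a (ha | ha) b (hb | hb)
    · exact elemAb_comm hA a ha b hb
    · rw [Set.mem_singleton_iff] at hb; subst hb; exact hx a ha
    · rw [Set.mem_singleton_iff] at ha; subst ha; exact (hx b hb).symm
    · rw [Set.mem_singleton_iff] at ha hb; subst ha; subst hb; rfl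
  · rintro a (ha | ha)
    · exact hA.2 a ha
    · rw [Set.mem_singleton_iff] at ha; subst ha; exact hxp

end Cfsg.Agent.Lib.Helper10
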