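import Mathlib
import Cfsg.Prelude.Def_Transfer
import Cfsg.Agent.Lib.Helper10.Thompson

set_option autoImplicit false

namespace Cfsg.Agent.Lib.Helper10

open Cfsg

variable {G : Type*} [Group G]

theorem card_subgroupOf_of_le {A U : Subgroup G} (h : A ≤ U) :
    Nat.card (A.subgroupOf U) = Nat.card A :=
  Nat.card_congr (Subgroup.subgroupOfEquivOfLe h).toEquiv

theorem card_map_subtype {U : Subgroup G} (B : Subgroup U) :
    Nat.card (B.map U.subtype) = Nat.card B :=
  Subgroup.card_map_of_injective U.subtype_injective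

theorem elemAb_subgroupOf {p : ℕ} {A : Subgroup G} (hA : IsElementaryAbelian p A) (U : Subgroup G) :
    IsElementaryAbelian p (A.subgroupOf U) :=
  elemAb_comap hA U.subtype U.subtype_injective

/-- a maximal elementary abelian subgroup of `G` lying in `U` is one of `U` -/
theorem maxElemAb_subgroupOf {p : ℕ} {A U : Subgroup G}
    (hA : A ∈ maxElementaryAbelianSubgroups p G) (hAU : A ≤ U) :
    A.subgroupOf U ∈ maxElementaryAbelianSubgroups p U := by
  refine ⟨elemAb_subgroupOf hA.1 U, ?_⟩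
  intro B hB
  rw [card_subgroupOf_of_le hAU, ← card_map_subtype B]
  exact hA.2 _ (elemAb_map hB _)

/-- if `U` contains a maximal elementary abelian subgroup of `G`, the maximal ones of `U`
are maximal ones of `G` -/
theorem maxElemAb_map_subtype {p : ℕ} {A₀ U : Subgroup G}
    (hA₀ : A₀ ∈ maxElementaryAbelianSubgroups p G) (hAU : A₀ ≤ U) {B : Subgroup U}
    (hB : B ∈ maxElementaryAbelianSubgroups p U) :
    B.map U.subtype ∈ maxElementaryAbelianSubgroups p G := by
  refine ⟨elemAb_map hB.1 _, ?_⟩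
  intro C hC
  have h1 := hB.2 _ (maxElemAb_subgroupOf hA₀ hAU).1
  rw [card_subgroupOf_of_le hAU] at h1
  rw [card_map_subtype]
  exact (hA₀.2 C hC).trans h1

/-- if `U` contains a maximal elementary abelian subgroup of `G` then `J(U) ≤ J(G)` -/
theorem thompsonSubgroupOf_le {p : ℕ} {A₀ U : Subgroup G}
    (hA₀ : A₀ ∈ maxElementaryAbelianSubgroups p G) (hAU : A₀ ≤ U) :
    thompsonSubgroupOf p U ≤ thompsonSubgroup p G := by
  unfold thompsonSubgroupOf thompsonSubgroup
  rw [Subgroup.map_le_iff_le_comap]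
  apply sSup_le
  intro B hB
  rw [← Subgroup.map_le_iff_le_comap]
  exact le_sSup (maxElemAb_map_subtype hA₀ hAU hB)

/-- a maximal elementary abelian subgroup of `G` inside `U` lies in `J(U)` -/
theorem maxElemAb_le_thompsonSubgroupOf {p : ℕ} {A U : Subgroup G}
    (hA : A ∈ maxElementaryAbelianSubgroups p G) (hAU : A ≤ U) :
    A ≤ thompsonSubgroupOf p U := by
  unfold thompsonSubgroupOf thompsonSubgroup
  rw [← Subgroup.map_subgroupOf_eq_of_le hAU]
  exact Subgroup.map_mono (le_sSup (maxElemAb_subgroupOf hA hAU))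

/-- automorphisms permute the maximal elementary abelian subgroups -/
theorem maxElemAb_map_equiv {p : ℕ} {A : Subgroup G}
    (hA : A ∈ maxElementaryAbelianSubgroups p G) (φ : G ≃* G) :
    A.map φ.toMonoidHom ∈ maxElementaryAbelianSubgroups p G := by
  refine ⟨elemAb_map hA.1 _, ?_⟩
  intro B hB
  have h1 : Nat.card (A.map φ.toMonoidHom) = Nat.card A :=
    Subgroup.card_map_of_injective φ.injective
  rw [h1]
  exact hA.2 B hB

/-- every Sylow `p`-subgroup contains a maximal elementary abelian subgroup of `G` -/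
theorem exists_maxElemAb_le_sylow {p : ℕ} [Fact p.Prime] [Finite G] (S : Sylow p G) :
    ∃ A : Subgroup G, A ∈ maxElementaryAbelianSubgroups p G ∧ A ≤ S := by
  obtain ⟨A₁, hA₁⟩ := exists_maxElemAb (G := G) p
  obtain ⟨S₁, hS₁⟩ := (elemAb_isPGroup hA₁.1).exists_le_sylow
  obtain ⟨g, hg⟩ := MulAction.exists_smul_eq G S₁ S
  refine ⟨A₁.map (MulAut.conj g).toMonoidHom, maxElemAb_map_equiv hA₁ _, ?_⟩
  rw [← hg]
  rintro _ ⟨a, ha, rfl⟩
  rw [Sylow.coe_subgroup_smul, Subgroup.mem_pointwise_smul_iff_inv_smul_mem]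
  have e : (MulAut.conj g)⁻¹ • (MulAut.conj g).toMonoidHom a = a := by
    simp [MulAut.smul_def, mul_assoc]
  rw [e]
  exact hS₁ ha

end Cfsg.Agent.Lib.Helper10
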