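import Mathlib
import Cfsg.Agent.Lib.Helper10.Thompson
import Cfsg.Agent.Lib.Helper10.ThompsonSub

set_option autoImplicit false

namespace Cfsg.Agent.Lib.Helper10

open Cfsg

variable {G : Type*} [Group G]

/-- the elementary abelian subgroups of `G` inside `T` of largest order -/
def maxElemAbIn (p : ℕ) (T : Subgroup G) : Set (Subgroup G) :=
  {A | A ≤ T ∧ IsElementaryAbelian p A ∧
    ∀ B : Subgroup G, B ≤ T → IsElementaryAbelian p B → Nat.card B ≤ Nat.card A}

theorem maxElemAbIn_of_sub {p : ℕ} {T : Subgroup G} {B : Subgroup T}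
    (hB : B ∈ maxElementaryAbelianSubgroups p T) : B.map T.subtype ∈ maxElemAbIn p T := by
  refine ⟨Subgroup.map_subtype_le B, elemAb_map hB.1 _, ?_⟩
  intro C hCT hC
  rw [card_map_subtype, ← card_subgroupOf_of_le hCT]
  exact hB.2 _ (elemAb_subgroupOf hC T)

theorem sub_of_maxElemAbIn {p : ℕ} {T A : Subgroup G} (hA : A ∈ maxElemAbIn p T) :
    A.subgroupOf T ∈ maxElementaryAbelianSubgroups p T := by
  refine ⟨elemAb_subgroupOf hA.2.1 T, ?_⟩
  intro B hB
  rw [card_subgroupOf_of_le hA.1, ← card_map_subtype B]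
  exact hA.2.2 _ (Subgroup.map_subtype_le B) (elemAb_map hB _)

/-- `J(T)`, computed inside `G` -/
theorem thompsonSubgroupOf_eq_sSup (p : ℕ) (T : Subgroup G) :
    thompsonSubgroupOf p T = sSup (maxElemAbIn p T) := by
  unfold thompsonSubgroupOf thompsonSubgroup
  apply le_antisymm
  · rw [Subgroup.map_le_iff_le_comap]
    apply sSup_le
    intro B hB
    rw [← Subgroup.map_le_iff_le_comap]
    exact le_sSup (maxElemAbIn_of_sub hB)
  · apply sSup_le
    intro A hA
    rw [← Subgroup.map_subgroupOf_eq_of_le hA.1]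
    exact Subgroup.map_mono (le_sSup (sub_of_maxElemAbIn hA))

theorem thompsonSubgroupOf_le_self (p : ℕ) (T : Subgroup G) : thompsonSubgroupOf p T ≤ T := by
  unfold thompsonSubgroupOf
  exact Subgroup.map_subtype_le _

theorem exists_maxElemAbIn (p : ℕ) [Finite G] (T : Subgroup G) : ∃ A, A ∈ maxElemAbIn p T := by
  obtain ⟨A, hA, hmax⟩ := Set.exists_max_image {A : Subgroup G | A ≤ T ∧ IsElementaryAbelian p A}
    (fun A => Nat.card A) (Set.toFinite _) ⟨⊥, bot_le, elemAb_bot p⟩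
  exact ⟨A, hA.1, hA.2, fun B hBT hB => hmax B ⟨hBT, hB⟩⟩

/-- if `J(S) ≤ T ≤ S` then `J(T) = J(S)` -/
theorem thompsonSubgroupOf_eq_of_le (p : ℕ) [Finite G] {S T : Subgroup G}
    (hJT : thompsonSubgroupOf p S ≤ T) (hTS : T ≤ S) :
    thompsonSubgroupOf p T = thompsonSubgroupOf p S := by
  rw [thompsonSubgroupOf_eq_sSup, thompsonSubgroupOf_eq_sSup]
  rw [thompsonSubgroupOf_eq_sSup] at hJT
  obtain ⟨A₀, hA₀⟩ := exists_maxElemAbIn p S
  have hA₀T : A₀ ≤ T := (le_sSup hA₀).trans hJT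
  congr 1
  ext A
  constructor
  · intro hA
    refine ⟨hA.1.trans hTS, hA.2.1, ?_⟩
    intro B hBS hB
    exact (hA₀.2.2 B hBS hB).trans (hA.2.2 A₀ hA₀T hA₀.2.1)
  · intro hA
    refine ⟨(le_sSup hA).trans hJT, hA.2.1, ?_⟩
    intro B hBT hB
    exact hA.2.2 B (hBT.trans hTS) hB

theorem maxElemAbIn_map {p : ℕ} {T A : Subgroup G} (φ : G ≃* G) (hA : A ∈ maxElemAbIn p T) :
    A.map φ.toMonoidHom ∈ maxElemAbIn p (T.map φ.toMonoidHom) := by
  refine ⟨Subgroup.map_mono hA.1, elemAb_map hA.2.1 _, ?_⟩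
  intro B hBT hB
  have h1 : B.map φ.symm.toMonoidHom ≤ T := by
    rintro _ ⟨b, hb, rfl⟩
    obtain ⟨t, ht, rfl⟩ := hBT hb
    simpa using ht
  have h2 := hA.2.2 _ h1 (elemAb_map hB _)
  rw [Subgroup.card_map_of_injective φ.symm.injective] at h2
  rw [Subgroup.card_map_of_injective φ.injective]
  exact h2

theorem map_thompsonSubgroupOf_le (p : ℕ) (T : Subgroup G) (φ : G ≃* G) :
    (thompsonSubgroupOf p T).map φ.toMonoidHom ≤ thompsonSubgroupOf p (T.map φ.toMonoidHom) := by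
  rw [thompsonSubgroupOf_eq_sSup, thompsonSubgroupOf_eq_sSup, Subgroup.map_le_iff_le_comap]
  apply sSup_le
  intro A hA
  rw [← Subgroup.map_le_iff_le_comap]
  exact le_sSup (maxElemAbIn_map φ hA)

/-- `J` commutes with automorphisms of the ambient group -/
theorem map_thompsonSubgroupOf (p : ℕ) (T : Subgroup G) (φ : G ≃* G) :
    (thompsonSubgroupOf p T).map φ.toMonoidHom = thompsonSubgroupOf p (T.map φ.toMonoidHom) := by
  apply le_antisymm (map_thompsonSubgroupOf_le p T φ)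
  have h := map_thompsonSubgroupOf_le p (T.map φ.toMonoidHom) φ.symm
  have e : (T.map φ.toMonoidHom).map φ.symm.toMonoidHom = T := by
    ext x
    constructor
    · rintro ⟨_, ⟨t, ht, rfl⟩, rfl⟩
      simpa using ht
    · intro hx
      exact ⟨φ x, ⟨x, hx, rfl⟩, by simp⟩
  rw [e] at h
  intro x hx
  have := h ⟨x, hx, rfl⟩
  exact ⟨_, this, by simp⟩

end Cfsg.Agent.Lib.Helper10
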