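import Mathlib

set_option autoImplicit false

namespace Cfsg.Agent.Lib.Helper10

variable {G : Type*} [Group G]

/-- Dedekind + nongenerators: if `N ≤ Φ(H)` is normal in `G` and `M N = G` then `H ≤ M`. -/
theorem le_of_sup_frattini_sub_eq_top [Finite G] (H N M : Subgroup G) [N.Normal]
    (hN : N ≤ (frattini H).map H.subtype) (hM : M ⊔ N = ⊤) : H ≤ M := by
  have hNH : N ≤ H := hN.trans (Subgroup.map_subtype_le _)
  have key : M.subgroupOf H ⊔ frattini H = ⊤ := by
    rw [eq_top_iff]
    rintro ⟨h, hh⟩ -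
    have h1 : h ∈ M ⊔ N := by rw [hM]; exact Subgroup.mem_top h
    rw [← SetLike.mem_coe, Subgroup.mul_normal] at h1
    obtain ⟨m, hm, n, hn, hmn⟩ := Set.mem_mul.mp h1
    obtain ⟨n', hn', hn'n⟩ := hN hn
    have hmH : m ∈ H := by
      have : m = h * n⁻¹ := by rw [← hmn]; group
      rw [this]
      exact H.mul_mem hh (H.inv_mem (hNH hn))
    have e : (⟨h, hh⟩ : H) = ⟨m, hmH⟩ * n' := by
      apply Subtype.ext
      show h = m * (n' : G)
      rw [← hmn]
      congr 1
      exact hn'n.symm
    rw [e]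
    exact Subgroup.mul_mem _
      ((le_sup_left : M.subgroupOf H ≤ M.subgroupOf H ⊔ frattini H)
        (by rw [Subgroup.mem_subgroupOf]; exact hm))
      ((le_sup_right : frattini H ≤ M.subgroupOf H ⊔ frattini H) hn')
  have h2 := frattini_nongenerating key
  intro h hh
  have : (⟨h, hh⟩ : H) ∈ M.subgroupOf H := by rw [h2]; exact Subgroup.mem_top _
  rwa [Subgroup.mem_subgroupOf] at this

/-- A normal subgroup of `G` contained in the Frattini subgroup of some subgroup `H`
lies in the Frattini subgroup of `G`. -/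
theorem le_frattini_of_normal_le_frattini_sub [Finite G] (H N : Subgroup G) [N.Normal]
    (hN : N ≤ (frattini H).map H.subtype) : N ≤ frattini G := by
  have hNH : N ≤ H := hN.trans (Subgroup.map_subtype_le _)
  unfold frattini Order.radical
  apply le_iInf₂
  intro M hM
  by_contra hNM
  have hlt : M < M ⊔ N := left_lt_sup.mpr hNM
  have htop : M ⊔ N = ⊤ := hM.2 _ hlt
  exact hNM (hNH.trans (le_of_sup_frattini_sub_eq_top H N M hN htop))

/-- if `N` is normal and not inside the coatom `M` then `M N = G` -/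
theorem sup_eq_top_of_coatom_not_le {M N : Subgroup G} (hM : IsCoatom M) (h : ¬ N ≤ M) :
    M ⊔ N = ⊤ :=
  hM.2 _ (left_lt_sup.mpr h)

end Cfsg.Agent.Lib.Helper10
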