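import Mathlib

set_option autoImplicit false

namespace Cfsg.Agent.Lib.Helper10

open scoped commutatorElement

/-- A nontrivial normal subgroup of a nilpotent group meets the centre nontrivially. -/
theorem normal_inf_center_ne_bot {N : Type*} [Group N] [hN : Group.IsNilpotent N] (M : Subgroup N)
    [hMn : M.Normal] (hM : M ≠ ⊥) : M ⊓ Subgroup.center N ≠ ⊥ := by
  classical
  obtain ⟨n, hn⟩ := hN.nilpotent'
  have hex : ∃ k, M ⊓ Subgroup.upperCentralSeries N k ≠ ⊥ := ⟨n, by rw [hn, inf_top_eq]; exact hM⟩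
  have hk := Nat.find_spec hex
  set k := Nat.find hex with hkdef
  rcases Nat.eq_zero_or_pos k with h0 | hpos
  · rw [h0, Subgroup.upperCentralSeries_zero, inf_bot_eq] at hk
    exact absurd rfl hk
  · obtain ⟨j, hj⟩ : ∃ j, k = j + 1 := ⟨k - 1, by omega⟩
    have hjbot : M ⊓ Subgroup.upperCentralSeries N j = ⊥ := by
      by_contra hne
      have := Nat.find_min' hex hne
      omega
    intro hbot
    apply hk
    rw [eq_bot_iff]
    intro x hx
    rw [← hbot]
    refine ⟨hx.1, ?_⟩
    show x ∈ Subgroup.center N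
    rw [Subgroup.mem_center_iff]
    intro y
    have hx2 : x ∈ Subgroup.upperCentralSeries N (j + 1) := by rw [← hj]; exact hx.2
    have h1 : ⁅x, y⁆ ∈ Subgroup.upperCentralSeries N j :=
      Subgroup.mem_upperCentralSeries_succ_iff.mp hx2 y
    have h2 : ⁅x, y⁆ ∈ M := by
      rw [commutatorElement_def]
      have : x * y * x⁻¹ * y⁻¹ = x * (y * x⁻¹ * y⁻¹) := by group
      rw [this]
      exact M.mul_mem hx.1 (hMn.conj_mem _ (M.inv_mem hx.1) y)
    have h3 : ⁅x, y⁆ ∈ M ⊓ Subgroup.upperCentralSeries N j := ⟨h2, h1⟩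
    rw [hjbot, Subgroup.mem_bot, commutatorElement_def] at h3
    have : y * x = (x * y * x⁻¹ * y⁻¹)⁻¹ * (x * y) := by group
    rw [this, h3, inv_one, one_mul]

/-- A normal nilpotent subgroup centralizes every minimal normal subgroup. -/
theorem normal_nilpotent_le_centralizer_of_minimal_normal {G : Type*} [Group G]
    (N M : Subgroup G) [hNn : N.Normal] [hMn : M.Normal] (hN : Group.IsNilpotent N) (hM : M ≠ ⊥)
    (hmin : ∀ K : Subgroup G, K.Normal → K ≤ M → K = ⊥ ∨ K = M) :
    N ≤ Subgroup.centralizer (M : Set G) := by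
  have hinf : (N ⊓ M).Normal := inferInstance
  rcases hmin (N ⊓ M) hinf inf_le_right with h | h
  · rw [← Subgroup.commutator_eq_bot_iff_le_centralizer, eq_bot_iff, ← h]
    exact Subgroup.commutator_le_inf N M
  · have hMN : M ≤ N := by rw [← h]; exact inf_le_left
    -- the centre of `N` viewed in `G`
    set Z : Subgroup G := (Subgroup.center N).map N.subtype with hZ
    have hZn : Z.Normal := inferInstance
    have hMZn : (M ⊓ Z).Normal := inferInstance
    have hMsub : (M.subgroupOf N).Normal := inferInstance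
    have hMsub_ne : M.subgroupOf N ≠ ⊥ := by
      intro hb
      apply hM
      rw [eq_bot_iff]
      intro m hm
      have : (⟨m, hMN hm⟩ : N) ∈ M.subgroupOf N := by rw [Subgroup.mem_subgroupOf]; exact hm
      rw [hb, Subgroup.mem_bot] at this
      rw [Subgroup.mem_bot]
      exact congrArg Subtype.val this
    have hne := normal_inf_center_ne_bot (M.subgroupOf N) hMsub_ne
    have hMZ_ne : M ⊓ Z ≠ ⊥ := by
      intro hb
      apply hne
      rw [eq_bot_iff]
      intro x hx
      have h1 : (x : G) ∈ M ⊓ Z := ⟨by simpa [Subgroup.mem_subgroupOf] using hx.1, ⟨x, hx.2, rfl⟩⟩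
      rw [hb, Subgroup.mem_bot] at h1
      rw [Subgroup.mem_bot]
      exact Subtype.ext h1
    rcases hmin (M ⊓ Z) hMZn inf_le_left with h' | h'
    · exact absurd h' hMZ_ne
    · have hMleZ : M ≤ Z := by rw [← h']; exact inf_le_right
      intro n hn
      rw [Subgroup.mem_centralizer_iff]
      intro m hm
      obtain ⟨z, hz, rfl⟩ := hMleZ hm
      have := (Subgroup.mem_center_iff.mp hz) ⟨n, hn⟩
      exact (congrArg Subtype.val this).symm

end Cfsg.Agent.Lib.Helper10
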