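import Mathlib
import Cfsg.Prelude.Def_OddOrderLocal
import Cfsg.Agent.Lib.Helper63.BG10
import Cfsg.Agent.Lib.Helper33.Conj
import Cfsg.Agent.Lib.Helper19.FpfPrime
import Cfsg.Agent.Lib.Helper49.RankOneCyclic

/-!
# Bender–Glauberman 13.3-type statement (S1429), armed on the statements of S1350, S1405, S1417

For a prime `p` dividing `|M|` outside `σ(M) ∪ κ(M)` and a Sylow `p`-subgroup `S` of `M`:
`Ω₁(S)` has order at most `p²`, centralizes no non-identity element of `M_σ`, and `M_σ` is nilpotent.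
-/

set_option autoImplicit false
set_option linter.style.haveILetI false
set_option linter.unusedSectionVars false
set_option linter.unusedVariables false

namespace Cfsg.Agent.Lib.Helper10.BG13

open Subgroup Cfsg
open Cfsg.Agent.Lib.Helper33 (cj cj_def mem_cj mem_cj' card_cj cj_eq_self_iff conj_mem_cj)
open Cfsg.Agent.Lib.Helper63
open scoped Pointwise

universe u

/-- statement of S1350 -/
def Stmt1350 (G : Type u) [Group G] : Prop :=
  ∀ (M : Subgroup G), IsCoatom M →
    Cfsg.IsPiHallOf (Cfsg.sigma M) (Cfsg.sigmaCore M) M ∧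
      Cfsg.IsPiHall (Cfsg.sigma M) (Cfsg.sigmaCore M) ∧
      ∀ N : Subgroup G, M ≤ Subgroup.normalizer (N : Set G) →
        Cfsg.IsPiHallOf (Cfsg.sigma M) N M → N = Cfsg.sigmaCore M

/-- statement of S1405 -/
def Stmt1405 (G : Type u) [Group G] : Prop :=
  ∀ (M : Subgroup G), IsCoatom M →
    Cfsg.IsPiHallOf (Cfsg.alpha M) (Cfsg.alphaCore M) M ∧
      Cfsg.IsPiHall (Cfsg.alpha M) (Cfsg.alphaCore M) ∧
      Cfsg.alphaCore M ≤ Cfsg.sigmaCore M ∧
      Cfsg.RankLE 2 (↥M ⧸ Cfsg.piCore (Cfsg.alpha M) ↥M) ∧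
      Group.IsNilpotent
        ↥((commutator ↥M).map (QuotientGroup.mk' (Cfsg.piCore (Cfsg.alpha M) ↥M)))

/-- statement of S1417 -/
def Stmt1417 (G : Type u) [Group G] : Prop :=
  ∀ (M : Subgroup G), IsCoatom M → ∀ (p : ℕ) [Fact p.Prime], p ∈ Cfsg.tau2 M →
    ∀ (A : Subgroup G), (A ≤ M ∧ Cfsg.IsElementaryAbelian p A ∧ Nat.card A = p ^ 2) →
    Group.IsNilpotent (Cfsg.sigmaCore M) ∧
      (∀ P : Sylow p M, IsMulCommutative (P : Subgroup M) ∧
        (A ≤ (P : Subgroup M).map M.subtype →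
          (∀ x ∈ (P : Subgroup M).map M.subtype, x ^ p = 1 ↔ x ∈ A) ∧
          ¬ Subgroup.normalizer ((((P : Subgroup M).map M.subtype : Subgroup G)) : Set G) ≤ M)) ∧
      M ≤ Subgroup.normalizer ((Cfsg.sigmaCore M ⊔ A : Subgroup G) : Set G) ∧
      Cfsg.sigmaCore M ⊓ Subgroup.centralizer (A : Set G) = ⊥ ∧
      (∀ Mstar : Subgroup G, IsCoatom Mstar → Mstar ≠ M → A ≤ Mstar →
        Cfsg.sigmaCore M ⊓ Mstar = ⊥) ∧
      ∃ A₁ : Subgroup G, A₁ ≤ A ∧ Nat.card A₁ = p ∧
        Cfsg.sigmaCore M ⊓ Subgroup.centralizer (A₁ : Set G) = ⊥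

variable {G : Type u} [Group G]

/-- `M_σ` is normalized by `M` (elementwise form) -/
theorem sigmaCore_conj_mem' (M : Subgroup G) {m s : G} (hm : m ∈ M) (hs : s ∈ sigmaCore M) :
    m * s * m⁻¹ ∈ sigmaCore M := by
  obtain ⟨s', hs', rfl⟩ := hs
  have h1 : (⟨m, hm⟩ : ↥M) * s' * (⟨m, hm⟩ : ↥M)⁻¹ ∈ piCore (sigma M) ↥M :=
    (inferInstance : (piCore (sigma M) ↥M).Normal).conj_mem s' hs' ⟨m, hm⟩
  exact ⟨_, h1, rfl⟩

theorem sigmaCore_le (M : Subgroup G) : sigmaCore M ≤ M := by
  rintro _ ⟨s, -, rfl⟩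
  exact s.2

theorem cj_sigmaCore (M : Subgroup G) {m : G} (hm : m ∈ M) : cj m (sigmaCore M) = sigmaCore M := by
  apply le_antisymm
  · intro x hx
    obtain ⟨s, hs, rfl⟩ := mem_cj'.mp hx
    exact sigmaCore_conj_mem' M hm hs
  · intro x hx
    rw [mem_cj]
    have := sigmaCore_conj_mem' M (M.inv_mem hm) hx
    simpa using this

/-- iterates of conjugation -/
theorem conj_iterate (x : G) (i : ℕ) (g : G) :
    (⇑(MulAut.conj x))^[i] g = x ^ i * g * (x ^ i)⁻¹ := by
  induction i generalizing g with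
  | zero => simp
  | succ i ih =>
    rw [Function.iterate_succ_apply, ih, MulAut.conj_apply, pow_succ]
    group

/-- an element `x` of prime order `p` normalizing `K` and commuting with no non-identity element
of `K` forces `K` nilpotent (Thompson). -/
theorem nilpotent_of_fpf_elt [Finite G] {p : ℕ} (hp : p.Prime) (K : Subgroup G) (x : G)
    (hxK : cj x K = K) (hxp : x ^ p = 1) (hfpf : ∀ y ∈ K, x * y = y * x → y = 1) :
    Group.IsNilpotent ↥K := by
  have hK : K.map (MulAut.conj x).toMonoidHom = K := hxK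
  refine Cfsg.Agent.Lib.Helper19.thompson_fpf hp
    (Cfsg.Agent.Lib.Helper19.resAut (MulAut.conj x) K hK) ⟨?_, ?_⟩
  · intro g hg
    have h1 := congrArg Subtype.val hg
    rw [Cfsg.Agent.Lib.Helper19.resAut_coe, MulAut.conj_apply] at h1
    have h2 : x * (g : G) = (g : G) * x := by
      calc x * (g : G) = x * (g : G) * x⁻¹ * x := by group
        _ = (g : G) * x := by rw [h1]
    exact Subtype.ext (hfpf g g.2 h2)
  · intro g
    apply Subtype.ext
    rw [Cfsg.Agent.Lib.Helper19.resAut_iterate, conj_iterate, hxp]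
    simp


theorem card_mul_relIndex' {H K : Subgroup G} (h : H ≤ K) :
    Nat.card H * H.relIndex K = Nat.card K := by
  have := Subgroup.relIndex_mul_relIndex (⊥ : Subgroup G) H K bot_le h
  rwa [Subgroup.relIndex_bot_left, Subgroup.relIndex_bot_left] at this

/-- `α(M) ⊆ σ(M)` on prime divisors, from the statements of S1350 and S1405 -/
theorem mem_sigma_of_mem_alpha (h1350 : Stmt1350 G) (h1405 : Stmt1405 G) {M : Subgroup G}
    (hM : IsCoatom M) {p : ℕ} (hpM : p ∣ Nat.card M) (hα : p ∈ alpha M) : p ∈ sigma M := by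
  obtain ⟨⟨hσle, hσpr, hσidx⟩, -, -⟩ := h1350 M hM
  obtain ⟨⟨hαle, hαpr, hαidx⟩, -, hασ, -, -⟩ := h1405 M hM
  have hpp : p.Prime := hα.1
  have h1 : ¬ p ∣ (alphaCore M).relIndex M := hαidx p hpp hα
  have h2 := card_mul_relIndex' hαle
  have h3 : p ∣ Nat.card (alphaCore M) := by
    rw [← h2] at hpM
    exact (hpp.dvd_mul.mp hpM).resolve_right h1
  have h4 : p ∣ Nat.card (sigmaCore M) := h3.trans (Subgroup.card_dvd_of_le hασ)
  exact hσpr p hpp h4

/-- **S1429** from the statements of S1350, S1405, S1417. -/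
theorem bg13_3 [Finite G] (hG : IsMinSimpleOddOrder G) (h1350 : Stmt1350 G) (h1405 : Stmt1405 G)
    (h1417 : Stmt1417 G) (M : Subgroup G) (hM : IsCoatom M) (p : ℕ) [Fact p.Prime]
    (hpM : p ∣ Nat.card M) (hp : p ∉ Cfsg.sigma M ∪ Cfsg.kappa M) (S : Sylow p M) :
    Nat.card ↥(closure {x : G | x ∈ (S : Subgroup M).map M.subtype ∧ x ^ p = 1}) ≤ p ^ 2 ∧
      sigmaCore M ⊓ centralizer ((closure {x : G | x ∈ (S : Subgroup M).map M.subtype ∧ x ^ p = 1} :
        Subgroup G) : Set G) = ⊥ ∧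
      Group.IsNilpotent (sigmaCore M) := by
  have hpσ : p ∉ sigma M := fun h => hp (Or.inl h)
  have hpκ : p ∉ kappa M := fun h => hp (Or.inr h)
  have hpp : p.Prime := Fact.out
  have hr2 : PRankLE p 2 M := by
    by_contra h
    exact hpσ (mem_sigma_of_mem_alpha h1350 h1405 hM hpM ⟨hpp, h⟩)
  by_cases hr1 : PRankLE p 1 M
  · -- rank one: Sylow subgroups cyclic
    have hp2 : p ≠ 2 := by
      rintro rfl
      have hodd : Odd (Nat.card ↥M) := Odd.of_dvd_nat hG.1 (Subgroup.card_subgroup_dvd_card M)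
      rw [← Nat.not_even_iff_odd] at hodd
      exact hodd (even_iff_two_dvd.mpr hpM)
    have hcyc : ∀ P : Sylow p M, IsCyclic ↥(P : Subgroup M) := by
      intro P
      apply Cfsg.Agent.Lib.Helper49.isCyclic_of_isPGroup_rankLEOne hp2 P.isPGroup'
      have := BG10.pRankLE_of_injective (P : Subgroup M).subtype (Subgroup.subtype_injective _) hr1
      intro A hA hAe
      have h := this A hA hAe
      rwa [pow_one] at h
    have hκ : ∃ P : Sylow p M, ¬ ∃ x : M, x ∈ (P : Subgroup M) ∧ x ≠ 1 ∧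
        ∃ y ∈ sigmaCore M, y ≠ 1 ∧ (x : G) * y = y * x := by
      by_contra hcon
      push Not at hcon
      exact hpκ ⟨hpp, hpM, hpσ, fun P => ⟨hcyc P, hcon P⟩⟩
    obtain ⟨P, hP⟩ := hκ
    obtain ⟨m, hm⟩ := MulAction.exists_smul_eq M S P
    -- key: elements of `S` commute with no non-identity element of `M_σ`
    have key : ∀ x : G, x ∈ (S : Subgroup M).map M.subtype → x ≠ 1 →
        ∀ y ∈ sigmaCore M, x * y = y * x → y = 1 := by
      rintro _ ⟨x, hxS, rfl⟩ hx1 y hy hxy
      by_contra hy1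
      apply hP
      have hx' : m * x * m⁻¹ ∈ (P : Subgroup M) := by
        rw [← hm, Sylow.coe_subgroup_smul]
        have := Subgroup.smul_mem_pointwise_smul x (MulAut.conj m) (S : Subgroup M) hxS
        simpa [MulAut.smul_def] using this
      refine ⟨m * x * m⁻¹, hx', ?_, (m : G) * y * (m : G)⁻¹, sigmaCore_conj_mem' M m.2 hy, ?_, ?_⟩
      · intro h
        apply hx1
        have h1 : x = 1 := by
          have : m⁻¹ * (m * x * m⁻¹) * m = x := by group
          rw [← this, h]; group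
        rw [M.subtype_apply, h1]; rfl
      · intro h
        apply hy1
        have : (m : G)⁻¹ * ((m : G) * y * (m : G)⁻¹) * (m : G) = y := by group
        rw [← this, h]; group
      · have hxy' : (x : G) * y = y * (x : G) := hxy
        push_cast
        calc (m : G) * (x : G) * (m : G)⁻¹ * ((m : G) * y * (m : G)⁻¹)
            = (m : G) * ((x : G) * y) * (m : G)⁻¹ := by group
          _ = (m : G) * (y * (x : G)) * (m : G)⁻¹ := by rw [hxy']
          _ = (m : G) * y * (m : G)⁻¹ * ((m : G) * (x : G) * (m : G)⁻¹) := by group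
    set A := closure {x : G | x ∈ (S : Subgroup M).map M.subtype ∧ x ^ p = 1} with hAdef
    have hAS : A ≤ (S : Subgroup M).map M.subtype := by
      rw [hAdef, closure_le]
      rintro x ⟨hx, -⟩
      exact hx
    have hSM : (S : Subgroup M).map M.subtype ≤ M := Subgroup.map_subtype_le _
    -- `S` is commutative
    haveI := hcyc S
    have hScomm : ∀ a ∈ (S : Subgroup M).map M.subtype, ∀ b ∈ (S : Subgroup M).map M.subtype,
        a * b = b * a := by
      rintro _ ⟨a, ha, rfl⟩ _ ⟨b, hb, rfl⟩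
      obtain ⟨g, hg⟩ := IsCyclic.exists_generator (α := ↥(S : Subgroup M))
      obtain ⟨i, hi⟩ := Subgroup.mem_zpowers_iff.mp (hg ⟨a, ha⟩)
      obtain ⟨j, hj⟩ := Subgroup.mem_zpowers_iff.mp (hg ⟨b, hb⟩)
      have hab : (⟨a, ha⟩ : ↥(S : Subgroup M)) * ⟨b, hb⟩ = ⟨b, hb⟩ * ⟨a, ha⟩ := by
        rw [← hi, ← hj]
        exact (Commute.zpow_zpow_self g i j).eq
      have h2 : a * b = b * a := congrArg Subtype.val hab
      simp only [M.subtype_apply]
      exact_mod_cast congrArg Subtype.val h2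
    have hAel : IsElementaryAbelian p A := by
      refine ⟨⟨⟨fun a b => Subtype.ext (hScomm a.1 (hAS a.2) b.1 (hAS b.2))⟩⟩, ?_⟩
      intro a ha
      rw [hAdef] at ha
      induction ha using Subgroup.closure_induction with
      | mem x hx => exact hx.2
      | one => simp
      | mul x y hx hy hx' hy' =>
        have hc : Commute x y := hScomm x (hAS hx) y (hAS hy)
        rw [hc.mul_pow, hx', hy', one_mul]
      | inv x hx hx' => rw [inv_pow, hx', inv_one]
    have hAcard : Nat.card A ≤ p ^ 2 := by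
      have h1 := BG10.card_le_of_pRankLE hr1 (hAS.trans hSM) hAel
      rw [pow_one] at h1
      calc Nat.card A ≤ p := h1
        _ ≤ p ^ 2 := by nlinarith [hpp.one_lt]
    -- an element of order `p` in `S`
    obtain ⟨x, hx⟩ := exists_prime_orderOf_dvd_card' (G := ↥(S : Subgroup M)) p
      (S.dvd_card_of_dvd_card hpM)
    have hxS : ((x : M) : G) ∈ (S : Subgroup M).map M.subtype := ⟨x, x.2, rfl⟩
    have hxp : ((x : M) : G) ^ p = 1 := by
      have h1 : x ^ p = 1 := by
        have := pow_orderOf_eq_one x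
        rwa [hx] at this
      have h2 : ((x : M) : G) ^ p = ((x ^ p : ↥(S : Subgroup M)) : M) := by push_cast; rfl
      rw [h2, h1]; rfl
    have hx1 : ((x : M) : G) ≠ 1 := by
      intro h
      have h1 : x = 1 := by
        apply Subtype.ext; apply Subtype.ext; exact h
      rw [h1, orderOf_one] at hx
      exact hpp.one_lt.ne hx
    have hxA : ((x : M) : G) ∈ A := by
      rw [hAdef]; exact subset_closure ⟨hxS, hxp⟩
    refine ⟨hAcard, ?_, ?_⟩
    · rw [eq_bot_iff]
      rintro y ⟨hyσ, hyc⟩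
      rw [Subgroup.mem_bot]
      have hcomm := (Subgroup.mem_centralizer_iff.mp hyc) _ hxA
      exact key _ hxS hx1 y hyσ hcomm
    · exact nilpotent_of_fpf_elt hpp (sigmaCore M) ((x : M) : G)
        (cj_sigmaCore M (x : M).2) hxp (fun y hy hxy => key _ hxS hx1 y hy hxy)
  · -- rank two: `p ∈ τ₂(M)`
    have hτ2 : p ∈ tau2 M := ⟨hpp, hpσ, hr2, hr1⟩
    obtain ⟨A, hAM, hA, hAc⟩ := BG10.exists_elemAb_sq_le hr1
    have hAp' : IsPGroup p ↥(A.subgroupOf M) := by
      have hAp : IsPGroup p A := BG10.isPGroup_of_elemAb hA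
      exact hAp.of_equiv (Subgroup.subgroupOfEquivOfLe hAM).symm
    obtain ⟨Q, hQ⟩ := hAp'.exists_le_sylow
    obtain ⟨m, hm⟩ := MulAction.exists_smul_eq M Q S
    have hA'S : cj (m : G) A ≤ (S : Subgroup M).map M.subtype := by
      intro y hy
      obtain ⟨a, ha, rfl⟩ := mem_cj'.mp hy
      have haQ : (⟨a, hAM ha⟩ : M) ∈ (Q : Subgroup M) := hQ (Subgroup.mem_subgroupOf.mpr ha)
      have h1 : m * ⟨a, hAM ha⟩ * m⁻¹ ∈ (S : Subgroup M) := by
        rw [← hm, Sylow.coe_subgroup_smul]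
        have := Subgroup.smul_mem_pointwise_smul _ (MulAut.conj m) (Q : Subgroup M) haQ
        simpa [MulAut.smul_def] using this
      exact ⟨_, h1, by simp⟩
    have hA'M : cj (m : G) A ≤ M := hA'S.trans (Subgroup.map_subtype_le _)
    have hA' : IsElementaryAbelian p (cj (m : G) A) := BG10.map_elemAb _ hA
    have hA'c : Nat.card (cj (m : G) A) = p ^ 2 := by rw [card_cj]; exact hAc
    obtain ⟨hnil, hsyl, -, hcent, -, -⟩ := h1417 M hM p hτ2 (cj (m : G) A) ⟨hA'M, hA', hA'c⟩
    obtain ⟨-, hS2⟩ := hsyl S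
    obtain ⟨hΩ, -⟩ := hS2 hA'S
    have hcl : closure {x : G | x ∈ (S : Subgroup M).map M.subtype ∧ x ^ p = 1} = cj (m : G) A := by
      apply le_antisymm
      · rw [closure_le]
        rintro x ⟨hx, hxp⟩
        exact (hΩ x hx).mp hxp
      · intro x hx
        exact subset_closure ⟨hA'S hx, (hΩ x (hA'S hx)).mpr hx⟩
    rw [hcl]
    exact ⟨hA'c.le, hcent, hnil⟩

end Cfsg.Agent.Lib.Helper10.BG13
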