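import Mathlib

set_option autoImplicit false

namespace Cfsg.Agent.Lib.Helper10

variable {G : Type*} [Group G]

/-- a `q`-group `Q` acting by conjugation on a normal subgroup `L` with trivial fixed points:
`|L| ≡ 1 (mod q)` -/
theorem card_modEq_one_of_fixedPoints_trivial [Finite G] {q : ℕ} [Fact q.Prime] (Q L : Subgroup G)
    [L.Normal] (hQ : IsPGroup q Q)
    (hfix : L ⊓ Subgroup.centralizer (Q : Set G) = ⊥) : Nat.card L ≡ 1 [MOD q] := by
  letI : MulAction ↥Q ↥L :=
    MulAction.compHom ↥L ((MulAut.conjNormal (H := L)).comp Q.subtype)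
  have hsmul : ∀ (g : Q) (x : L), ((g • x : L) : G) = (g : G) * (x : G) * (g : G)⁻¹ :=
    fun g x => MulAut.conjNormal_apply (g : G) x
  have h1 := hQ.card_modEq_card_fixedPoints ↥L
  have h2 : MulAction.fixedPoints ↥Q ↥L = {1} := by
    ext x
    rw [MulAction.mem_fixedPoints, Set.mem_singleton_iff]
    constructor
    · intro hx
      have hmem : (x : G) ∈ L ⊓ Subgroup.centralizer (Q : Set G) := by
        refine Subgroup.mem_inf.mpr ⟨x.2, ?_⟩
        rw [Subgroup.mem_centralizer_iff]
        intro g hg
        have := congrArg Subtype.val (hx ⟨g, hg⟩)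
        rw [hsmul] at this
        calc g * (x : G) = (g * (x : G) * g⁻¹) * g := by group
          _ = (x : G) * g := by rw [this]
      rw [hfix, Subgroup.mem_bot] at hmem
      exact Subtype.ext hmem
    · rintro rfl g
      apply Subtype.ext
      rw [hsmul]
      simp
  rw [h2] at h1
  simpa using h1

end Cfsg.Agent.Lib.Helper10
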