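import Mathlib
import Cfsg.Prelude.Def_OddOrderLocal
import Cfsg.Agent.Lib.Helper63.BG10
import Cfsg.Agent.Lib.Helper33.Conj
import Cfsg.Agent.Lib.Helper49.RankOneCyclic
import Cfsg.Agent.Lib.Helper19.BG124a
import Cfsg.Agent.Lib.Helper96.BG127
import Cfsg.Agent.Lib.Helper76.BGSigU3
import Cfsg.Agent.Lib.Helper50.CoprimeHyperplane

/-!
# Lemma R (B&G §12, towards 12.8(b) = S1421(b)/S1360)

`M` maximal, `p ∈ τ₂(M)`, `E` a complement of `M_σ`, `A ≤ E` elementary abelian of order `p²`,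
`x ∈ E` an `r`-element (`r ≠ p`) normalizing no subgroup of order `p` of `A`.
Then no non-identity element of `⟨x⟩` centralizes `A`.
Armed on the statements of S1417, S1418, S1423, S1427.
-/

set_option autoImplicit false
set_option linter.style.haveILetI false
set_option linter.unusedSectionVars false
set_option linter.unusedVariables false

namespace Cfsg.Agent.Lib.Helper10.BG13

open Subgroup Cfsg
open Cfsg.Agent.Lib.Helper33 (cj cj_def mem_cj mem_cj' card_cj cj_eq_self_iff conj_mem_cj)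
open Cfsg.Agent.Lib.Helper63
open scoped Pointwise commutatorElement

universe u

/-- statement of S1417 (copy; the same text as `Stmt1417` of `BG133`) -/
def StmtR1417 (G : Type u) [Group G] : Prop :=
  ∀ (M : Subgroup G), IsCoatom M → ∀ (p : ℕ) [Fact p.Prime], p ∈ Cfsg.tau2 M →
    ∀ (A : Subgroup G), (A ≤ M ∧ Cfsg.IsElementaryAbelian p A ∧ Nat.card A = p ^ 2) →
    Group.IsNilpotent (Cfsg.sigmaCore M) ∧
      (∀ P : Sylow p M, IsMulCommutative (P : Subgroup M) ∧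
        (A ≤ (P : Subgroup M).map M.subtype →
          (∀ x ∈ (P : Subgroup M).map M.subtype, x ^ p = 1 ↔ x ∈ A) ∧
          ¬ Subgroup.normalizer ((((P : Subgroup M).map M.subtype : Subgroup G)) : Set G) ≤ M)) ∧
      M ≤ Subgroup.normalizer ((Cfsg.sigmaCore M ⊔ A : Subgroup G) : Set G) ∧
      Cfsg.sigmaCore M ⊓ Subgroup.centralizer (A : Set G) = ⊥ ∧
      (∀ Mstar : Subgroup G, IsCoatom Mstar → Mstar ≠ M → A ≤ Mstar →
        Cfsg.sigmaCore M ⊓ Mstar = ⊥) ∧
      ∃ A₁ : Subgroup G, A₁ ≤ A ∧ Nat.card A₁ = p ∧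
        Cfsg.sigmaCore M ⊓ Subgroup.centralizer (A₁ : Set G) = ⊥

/-- statement of S1418 -/
def StmtR1418 (G : Type u) [Group G] : Prop :=
  ∀ (M : Subgroup G), IsCoatom M → ∀ (E : Subgroup G),
    Cfsg.IsComplIn E (Cfsg.sigmaCore M) M → ∀ (p : ℕ) [Fact p.Prime], p ∈ Cfsg.tau2 M →
    ∀ (A : Subgroup G), (A ≤ E ∧ Cfsg.IsElementaryAbelian p A ∧ Nat.card A = p ^ 2) →
    (E ≤ Subgroup.normalizer (A : Set G) ∧
        ∀ X : Subgroup G, X ≤ E → Nat.card X = p → X ≤ A) ∧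
      (Subgroup.centralizer (A : Set G) ≤ M ⊓ Subgroup.normalizer (A : Set G) ∧
        M ⊓ Subgroup.normalizer (A : Set G) = E ∧
        ¬ Subgroup.normalizer (A : Set G) ≤ M) ∧
      ∀ X : Subgroup G, X ≤ A → Nat.card X = p →
        Cfsg.sigmaCore M ⊓ Subgroup.centralizer (X : Set G) ≠ ⊥ →
        (Subgroup.centralizer (X : Set G) ≤ M ∧
          ∀ L : Subgroup G, IsCoatom L → Subgroup.centralizer (X : Set G) ≤ L → L = M)

/-- statement of S1423 -/
def StmtR1423 (G : Type u) [Group G] : Prop :=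
  ∀ (M : Subgroup G), IsCoatom M → ∀ (p : ℕ) [Fact p.Prime], p ∈ Cfsg.sigma M →
    ∀ (X : Subgroup G), X ≤ M → Nat.card X = p →
    ∀ (P : Sylow p ↥(Cfsg.sigmaCore M)),
      (p ∈ Cfsg.beta M ∨ X ≤ ⁅Cfsg.sigmaCore M, Cfsg.sigmaCore M⁆) →
    (Subgroup.centralizer (X : Set G) ≤ M ∧
        ∀ L : Subgroup G, IsCoatom L → Subgroup.centralizer (X : Set G) ≤ L → L = M) ∧
      Cfsg.InUniqueMaximal
        ((P : Subgroup ↥(Cfsg.sigmaCore M)).map (Cfsg.sigmaCore M).subtype) ∧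
      (P : Subgroup ↥(Cfsg.sigmaCore M)).map (Cfsg.sigmaCore M).subtype ≤ M

/-- statement of S1427 -/
def StmtR1427 (G : Type u) [Group G] : Prop :=
  ∀ (M : Subgroup G), IsCoatom M → ∀ (E : Subgroup G),
    Cfsg.IsComplIn E (Cfsg.sigmaCore M) M → ∀ (p : ℕ) [Fact p.Prime] (S : Sylow p E),
    (S : Subgroup E) ≠ ⊥ → IsCyclic (S : Subgroup E) →
    ∀ x ∈ (S : Subgroup E).map E.subtype, x ≠ 1 →
      Cfsg.sigmaCore M ⊓ Subgroup.centralizer ({x} : Set G) =
        Cfsg.sigmaCore M ⊓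
          Subgroup.centralizer (((S : Subgroup E).map E.subtype : Subgroup G) : Set G)

variable {G : Type u} [Group G]

/-- Schur–Zassenhaus: `M_σ` has a complement in `M` when it is a Hall subgroup -/
theorem exists_isComplIn_sigmaCore [Finite G] {L : Subgroup G}
    (hσ : IsPiHallOf (sigma L) (sigmaCore L) L) :
    ∃ E : Subgroup G, IsComplIn E (sigmaCore L) L := by
  have hcop : Nat.Coprime (Nat.card (piCore (sigma L) ↥L)) (piCore (sigma L) ↥L).index := by
    apply Nat.Coprime.symm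
    apply Nat.Coprime.symm
    rw [Nat.coprime_iff_gcd_eq_one] 
    by_contra hne
    obtain ⟨q, hq, hqd⟩ := Nat.exists_prime_and_dvd hne
    have h1 : q ∣ Nat.card (piCore (sigma L) ↥L) := hqd.trans (Nat.gcd_dvd_left _ _)
    have h2 : q ∣ (piCore (sigma L) ↥L).index := hqd.trans (Nat.gcd_dvd_right _ _)
    have h3 : q ∣ Nat.card (sigmaCore L) := by
      rw [sigmaCore, card_map_of_injective L.subtype_injective]
      exact h1
    have hqσ : q ∈ sigma L := hσ.2.1 q hq h3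
    exact Cfsg.Agent.Lib.Helper47.BG11.not_dvd_index_piCore_sigma hσ hq hqσ h2
  obtain ⟨H, hH⟩ := Subgroup.exists_left_complement'_of_coprime hcop
  refine ⟨H.map L.subtype, map_subtype_le _, hσ.1, ?_, ?_⟩
  · rw [sigmaCore, ← Subgroup.map_inf _ _ _ L.subtype_injective, hH.disjoint.eq_bot, Subgroup.map_bot]
  · intro m hm
    obtain ⟨⟨h, n⟩, hx, -⟩ := (Subgroup.isComplement_iff_existsUnique.mp hH) ⟨m, hm⟩
    refine ⟨h.1.1, ⟨h.1, h.2, rfl⟩, n.1.1, ⟨n.1, n.2, rfl⟩, ?_⟩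
    have := congrArg Subtype.val hx
    simpa using this.symm

/-- a finite subgroup mapped into itself by conjugation with `x` is normalized by `x` -/
theorem mem_normalizer_of_conj_mem [Finite G] {X : Subgroup G} {x : G}
    (h : ∀ a ∈ X, x * a * x⁻¹ ∈ X) : x ∈ normalizer (X : Set G) := by
  rw [← cj_eq_self_iff]
  apply Subgroup.eq_of_le_of_card_ge
  · intro y hy
    obtain ⟨a, ha, rfl⟩ := mem_cj'.mp hy
    exact h a ha
  · rw [card_cj]

/-- subgroups of a group of order `p²` -/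
theorem card_eq_prime_of_ne {p : ℕ} (hp : p.Prime) {A X : Subgroup G} (hA : Nat.card A = p ^ 2)
    (hXA : X ≤ A) (h1 : X ≠ ⊥) (h2 : X ≠ A) : Nat.card X = p := by
  have hfin : Finite A := Nat.finite_of_card_ne_zero (by rw [hA]; exact pow_ne_zero _ hp.ne_zero)
  have hd : Nat.card X ∣ p ^ 2 := hA ▸ Subgroup.card_dvd_of_le hXA
  obtain ⟨j, hj, hj'⟩ := (Nat.dvd_prime_pow hp).mp hd
  interval_cases j
  · exfalso; apply h1
    rw [pow_zero] at hj'
    exact Subgroup.card_eq_one.mp hj'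
  · rwa [pow_one] at hj'
  · exfalso; apply h2
    exact Subgroup.eq_of_le_of_card_ge hXA (by rw [hA, hj'])

/-- conjugation by an element of `H` preserves `⁅H, H⁆` -/
theorem conj_mem_commutator_self {H : Subgroup G} {g y : G} (hg : g ∈ H) (hy : y ∈ ⁅H, H⁆) :
    g * y * g⁻¹ ∈ ⁅H, H⁆ := by
  have hle : ⁅H, H⁆ ≤ H := Subgroup.commutator_le.mpr fun a ha b hb =>
    H.mul_mem (H.mul_mem (H.mul_mem ha hb) (H.inv_mem ha)) (H.inv_mem hb)
  have h1 : ⁅g, y⁆ ∈ ⁅H, H⁆ := Subgroup.commutator_mem_commutator hg (hle hy)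
  have h2 : g * y * g⁻¹ = ⁅g, y⁆ * y := by rw [commutatorElement_def]; group
  rw [h2]
  exact mul_mem h1 hy

theorem centralizer_zpowers' (g : G) :
    centralizer ((zpowers g : Subgroup G) : Set G) = centralizer {g} := by
  apply le_antisymm
  · apply Subgroup.centralizer_le
    intro y hy
    rw [Set.mem_singleton_iff] at hy
    rw [hy]
    exact mem_zpowers g
  · intro y hy
    rw [mem_centralizer_iff] at hy ⊢
    intro h hh
    obtain ⟨k, rfl⟩ := mem_zpowers_iff.mp hh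
    have hc : Commute g y := hy g rfl
    exact (hc.zpow_left k).eq

/-- the configuration of Lemma R -/
structure RCfg (G : Type u) [Group G] (M E A : Subgroup G) (p r : ℕ) (x : G) : Prop where
  hG : IsMinSimpleOddOrder G
  h17 : StmtR1417 G
  h18 : StmtR1418 G
  h23 : StmtR1423 G
  h27 : StmtR1427 G
  hM : IsCoatom M
  hE : IsComplIn E (sigmaCore M) M
  pp : p.Prime
  hp : p ∈ tau2 M
  hAE : A ≤ E
  hAel : IsElementaryAbelian p A
  hAc : Nat.card A = p ^ 2
  rp : r.Prime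
  hrp : r ≠ p
  hxE : x ∈ E
  hxr : IsPGroup r (zpowers x)
  hirr : ∀ X : Subgroup G, X ≤ A → Nat.card X = p → x ∉ normalizer (X : Set G)

namespace RCfg

variable [Finite G] {M E A : Subgroup G} {p r : ℕ} {x : G}

theorem irr (c : RCfg G M E A p r x) {X : Subgroup G} (hXA : X ≤ A)
    (h : ∀ a ∈ X, x * a * x⁻¹ ∈ X) : X = ⊥ ∨ X = A := by
  by_contra hcon
  push Not at hcon
  exact c.hirr X hXA (card_eq_prime_of_ne c.pp c.hAc hXA hcon.1 hcon.2)
    (mem_normalizer_of_conj_mem h)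

theorem A_ne_bot (c : RCfg G M E A p r x) : A ≠ ⊥ := by
  intro h
  have h1 : Nat.card A = 1 := by rw [h]; exact Subgroup.card_bot
  have h2 := c.hAc
  rw [h1] at h2
  have := c.pp.one_lt
  nlinarith

/-- `A` has a subgroup of order `p` -/
theorem exists_point (c : RCfg G M E A p r x) : ∃ X : Subgroup G, X ≤ A ∧ Nat.card X = p := by
  haveI : Fact p.Prime := ⟨c.pp⟩
  have hd : p ∣ Nat.card A := by rw [c.hAc]; exact dvd_pow_self p two_ne_zero
  obtain ⟨a, ha⟩ := exists_prime_orderOf_dvd_card' p hd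
  refine ⟨zpowers (a : G), ?_, ?_⟩
  · rw [zpowers_le]; exact a.2
  · rw [Nat.card_zpowers, Subgroup.orderOf_coe, ha]

/-- `x` does not centralize `A` -/
theorem not_comm (c : RCfg G M E A p r x) : ¬ ∀ a ∈ A, x * a = a * x := by
  intro h
  obtain ⟨X, hXA, hX⟩ := c.exists_point
  apply c.hirr X hXA hX
  apply mem_normalizer_of_conj_mem
  intro a ha
  rw [h a (hXA ha), mul_inv_cancel_right]
  exact ha

theorem hAM (c : RCfg G M E A p r x) : A ≤ M := c.hAE.trans c.hE.1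

theorem h18M (c : RCfg G M E A p r x) :
    (E ≤ Subgroup.normalizer (A : Set G) ∧
        ∀ X : Subgroup G, X ≤ E → Nat.card X = p → X ≤ A) ∧
      (Subgroup.centralizer (A : Set G) ≤ M ⊓ Subgroup.normalizer (A : Set G) ∧
        M ⊓ Subgroup.normalizer (A : Set G) = E ∧
        ¬ Subgroup.normalizer (A : Set G) ≤ M) ∧
      ∀ X : Subgroup G, X ≤ A → Nat.card X = p →
        Cfsg.sigmaCore M ⊓ Subgroup.centralizer (X : Set G) ≠ ⊥ →
        (Subgroup.centralizer (X : Set G) ≤ M ∧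
          ∀ L : Subgroup G, IsCoatom L → Subgroup.centralizer (X : Set G) ≤ L → L = M) :=
  haveI : Fact p.Prime := ⟨c.pp⟩
  c.h18 M c.hM E c.hE p c.hp A ⟨c.hAE, c.hAel, c.hAc⟩

end RCfg

/-- the configuration of Lemma R together with a maximal subgroup `L` over `N_G(A)` -/
structure LCfg (G : Type u) [Group G] (M E A L : Subgroup G) (p r : ℕ) (x : G) : Prop
    extends RCfg G M E A p r x where
  hL : IsCoatom L
  hNL : normalizer (A : Set G) ≤ L

theorem RCfg.exists_L [Finite G] {M E A : Subgroup G} {p r : ℕ} {x : G}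
    (c : RCfg G M E A p r x) : ∃ L : Subgroup G, LCfg G M E A L p r x := by
  have hAtop : A ≠ ⊤ := by
    intro h
    apply c.hM.1
    rw [eq_top_iff, ← h]
    exact c.hAM
  rcases eq_top_or_exists_le_coatom (normalizer (A : Set G)) with h | ⟨L, hL, hNL⟩
  · exact absurd h (BG10.normalizer_ne_top c.hG c.A_ne_bot hAtop)
  · exact ⟨L, { c with hL := hL, hNL := hNL }⟩

namespace LCfg

open Cfsg.Agent.Lib.Helper19.BG124 (sigmaHallIn uniqStmt sigmaCore_ne_bot)

variable [Finite G] {M E A L : Subgroup G} {p r : ℕ} {x : G}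

theorem hAL (c : LCfg G M E A L p r x) : A ≤ L := le_normalizer.trans c.hNL

theorem hEL (c : LCfg G M E A L p r x) : E ≤ L := c.toRCfg.h18M.1.1.trans c.hNL

theorem L_ne_M (c : LCfg G M E A L p r x) : L ≠ M := by
  intro h
  apply c.toRCfg.h18M.2.1.2.2
  rw [← h]
  exact c.hNL

theorem alpha_sub (c : LCfg G M E A L p r x) {K : Subgroup G} (hK : IsCoatom K) :
    alpha K ⊆ sigma K :=
  Cfsg.Agent.Lib.Helper23.alpha_subset_sigma c.hG (uniqStmt c.hG) hK

/-- Step 1: `p ∈ σ(L)` -/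
theorem p_mem_sigma (c : LCfg G M E A L p r x) : p ∈ sigma L := by
  by_contra hpσ
  haveI : Fact p.Prime := ⟨c.pp⟩
  have hAL : A ≤ L := c.hAL
  have hσL := sigmaHallIn c.hG c.hL
  have hpτ : p ∈ tau2 L := by
    refine ⟨c.pp, hpσ, ?_, ?_⟩
    · by_contra h2
      exact hpσ (c.alpha_sub c.hL ⟨c.pp, h2⟩)
    · intro h1
      have := BG10.card_le_of_pRankLE h1 hAL c.hAel
      rw [c.hAc, pow_one] at this
      nlinarith [c.pp.one_lt]
  obtain ⟨EL, hEL⟩ := exists_isComplIn_sigmaCore hσL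
  have hpN : ¬ p ∣ Nat.card (sigmaCore L) := fun h =>
    hpσ (Cfsg.Agent.Lib.Helper24.BG.mem_sigma_of_dvd_card_sigmaCore L c.pp h)
  obtain ⟨m, hm, hmA⟩ := Cfsg.Agent.Lib.Helper76.BGSigU.exists_conj_le_compl hEL hpN
    (BG10.isPGroup_of_elemAb c.hAel) hAL
  have hA'E : cj m⁻¹ A ≤ EL := by
    intro y hy
    obtain ⟨a, ha, rfl⟩ := mem_cj'.mp hy
    simpa using hmA a ha
  have hA'el : IsElementaryAbelian p (cj m⁻¹ A) :=
    BG10.map_elemAb (MulAut.conj m⁻¹).toMonoidHom c.hAel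
  have hA'c : Nat.card (cj m⁻¹ A) = p ^ 2 := by rw [card_cj]; exact c.hAc
  have h := (c.h18 L c.hL EL hEL p hpτ (cj m⁻¹ A) ⟨hA'E, hA'el, hA'c⟩).2.1.2.2
  apply h
  rw [Cfsg.Agent.Lib.Helper33.normalizer_cj]
  intro y hy
  obtain ⟨n, hn, rfl⟩ := mem_cj'.mp hy
  exact L.mul_mem (L.mul_mem (L.inv_mem hm) (c.hNL hn)) (by simpa using hm)

theorem A_le_sigmaCore (c : LCfg G M E A L p r x) : A ≤ sigmaCore L :=
  haveI : Fact p.Prime := ⟨c.pp⟩
  Cfsg.Agent.Lib.Helper47.BG11.le_sigmaCore_of_sigma (sigmaHallIn c.hG c.hL) c.p_mem_sigma c.hAL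
    (BG10.isPGroup_of_elemAb c.hAel)

theorem hxL (c : LCfg G M E A L p r x) : x ∈ L := c.hEL c.hxE

theorem hxN (c : LCfg G M E A L p r x) : ∀ a ∈ A, x * a * x⁻¹ ∈ A := fun a ha =>
  (mem_normalizer_iff.mp (c.toRCfg.h18M.1.1 c.hxE) a).mp ha

/-- Step 2: `r ∉ σ(L)` -/
theorem r_not_mem_sigma (c : LCfg G M E A L p r x) : r ∉ sigma L := by
  intro hrσ
  haveI : Fact p.Prime := ⟨c.pp⟩
  haveI : Fact r.Prime := ⟨c.rp⟩
  have hσL := sigmaHallIn c.hG c.hL
  have hxσ : x ∈ sigmaCore L :=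
    Cfsg.Agent.Lib.Helper47.BG11.le_sigmaCore_of_sigma hσL hrσ (zpowers_le.mpr c.hxL) c.hxr
      (mem_zpowers x)
  have hAσ := c.A_le_sigmaCore
  have hAder : A ≤ ⁅sigmaCore L, sigmaCore L⁆ := by
    have h := c.irr (X := A ⊓ ⁅sigmaCore L, sigmaCore L⁆) inf_le_left (by
      intro a ha
      exact ⟨c.hxN a ha.1, conj_mem_commutator_self hxσ ha.2⟩)
    rcases h with h | h
    · exfalso
      apply c.not_comm
      intro a ha
      have h1 : ⁅x, a⁆ ∈ A ⊓ ⁅sigmaCore L, sigmaCore L⁆ :=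
        ⟨A.mul_mem (c.hxN a ha) (A.inv_mem ha), Subgroup.commutator_mem_commutator hxσ (hAσ ha)⟩
      rw [h, mem_bot] at h1
      exact commutatorElement_eq_one_iff_mul_comm.mp h1
    · exact inf_eq_left.mp h
  obtain ⟨b, hbA, hb1⟩ : ∃ b ∈ A, b ≠ 1 := by
    by_contra hcon
    push Not at hcon
    exact c.A_ne_bot ((Subgroup.eq_bot_iff_forall A).mpr hcon)
  have hpow : ∀ a ∈ A, a ^ p = 1 := c.hAel.2
  have hcomm : ∀ a ∈ A, ∀ a' ∈ A, a * a' = a' * a := fun a ha a' ha' =>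
    congrArg Subtype.val (c.hAel.1.is_comm.comm ⟨a, ha⟩ ⟨a', ha'⟩)
  obtain ⟨a, haA, hab⟩ : ∃ a ∈ A, a ∉ zpowers b := by
    by_contra hcon
    push Not at hcon
    have hle : A ≤ zpowers b := hcon
    have h1 := Subgroup.card_le_of_le hle
    rw [c.hAc, Nat.card_zpowers] at h1
    have h2 : orderOf b ≤ p := Nat.le_of_dvd c.pp.pos (orderOf_dvd_of_pow_eq_one (hpow b hbA))
    nlinarith [c.pp.one_lt]
  have hpR : ¬ p ∣ Nat.card (sigmaCore M) := fun h =>
    c.hp.2.1 (Cfsg.Agent.Lib.Helper24.BG.mem_sigma_of_dvd_card_sigmaCore M c.pp h)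
  have hnorm : ∀ a ∈ A, a ∈ normalizer ((sigmaCore M : Subgroup G) : Set G) := fun a ha =>
    Cfsg.Agent.Lib.Helper24.BG.le_normalizer_sigmaCore M (c.hAM ha)
  obtain ⟨cc, hcc, hcne⟩ := Cfsg.Agent.Lib.Helper50.exists_mem_genSet_centralizer_ne_bot (p := p)
    (sigmaCore M) hpR (sigmaCore_ne_bot c.hG c.hM) a b (hnorm a haA) (hnorm b hbA)
    (hpow a haA) (hpow b hbA) (hcomm a haA b hbA)
  have hccA : cc ∈ A := by
    rcases hcc with rfl | ⟨n, rfl⟩
    · exact hbA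
    · exact A.mul_mem haA (A.pow_mem hbA n)
  have hcc1 : cc ≠ 1 := by
    rcases hcc with rfl | ⟨n, rfl⟩
    · exact hb1
    · intro h
      apply hab
      have : a = (b ^ n)⁻¹ := eq_inv_of_mul_eq_one_left h
      rw [this]
      exact (zpowers b).inv_mem ((zpowers b).pow_mem (mem_zpowers b) n)
  have hXc : Nat.card (zpowers cc) = p := by
    rw [Nat.card_zpowers]; exact orderOf_eq_prime (hpow cc hccA) hcc1
  have hXA : zpowers cc ≤ A := zpowers_le.mpr hccA
  have h1 := c.toRCfg.h18M.2.2 (zpowers cc) hXA hXc (by rw [centralizer_zpowers']; exact hcne)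
  obtain ⟨P⟩ : Nonempty (Sylow p ↥(sigmaCore L)) := inferInstance
  have h2 := (c.h23 L c.hL p c.p_mem_sigma (zpowers cc) (hXA.trans c.hAL) hXc P
    (Or.inr (hXA.trans hAder))).1
  exact c.L_ne_M (h1.2 L c.hL h2.1)

theorem x_ne_one (c : LCfg G M E A L p r x) : x ≠ 1 := by
  intro h
  apply c.not_comm
  intro a _
  rw [h, one_mul, mul_one]

theorem r_dvd_orderOf (c : LCfg G M E A L p r x) : r ∣ orderOf x := by
  haveI : Fact r.Prime := ⟨c.rp⟩
  obtain ⟨k, hk⟩ := IsPGroup.iff_card.mp c.hxr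
  rw [Nat.card_zpowers] at hk
  rcases Nat.eq_zero_or_pos k with rfl | hk0
  · exfalso
    rw [pow_zero, orderOf_eq_one_iff] at hk
    exact c.x_ne_one hk
  · rw [hk]; exact dvd_pow_self r hk0.ne'

/-- `x` lies in a complement of `L_σ` in `L` -/
theorem exists_EL (c : LCfg G M E A L p r x) :
    ∃ EL : Subgroup G, IsComplIn EL (sigmaCore L) L ∧ x ∈ EL := by
  haveI : Fact r.Prime := ⟨c.rp⟩
  have hσL := sigmaHallIn c.hG c.hL
  obtain ⟨E0, hE0⟩ := exists_isComplIn_sigmaCore hσL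
  apply Cfsg.Agent.Lib.Helper96.BG127.exists_compl_mem hE0 c.hxL
  obtain ⟨k, hk⟩ := IsPGroup.iff_card.mp c.hxr
  rw [Nat.card_zpowers] at hk
  rw [hk]
  apply Nat.Coprime.pow_left
  rw [Nat.Prime.coprime_iff_not_dvd c.rp]
  intro h
  exact c.r_not_mem_sigma (Cfsg.Agent.Lib.Helper24.BG.mem_sigma_of_dvd_card_sigmaCore L c.rp h)

/-- Step 3: `r ∈ τ₂(L)` if some non-identity element of `⟨x⟩` centralizes `A` -/
theorem r_mem_tau2 (c : LCfg G M E A L p r x)
    (hy : ∃ y ∈ zpowers x, y ≠ 1 ∧ ∀ a ∈ A, y * a = a * y) : r ∈ tau2 L := by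
  haveI : Fact r.Prime := ⟨c.rp⟩
  refine ⟨c.rp, c.r_not_mem_sigma, ?_, ?_⟩
  · by_contra h2
    exact c.r_not_mem_sigma (c.alpha_sub c.hL ⟨c.rp, h2⟩)
  · intro h1
    obtain ⟨EL, hEL, hxEL⟩ := c.exists_EL
    have hZ : IsPGroup r ((zpowers x).subgroupOf EL) := c.hxr.comap_subtype
    obtain ⟨S, hS⟩ := hZ.exists_le_sylow
    have hxS : (⟨x, hxEL⟩ : EL) ∈ (S : Subgroup EL) :=
      hS (by rw [mem_subgroupOf]; exact mem_zpowers x)
    have hS1 : (S : Subgroup EL) ≠ ⊥ := by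
      intro h
      rw [h, mem_bot] at hxS
      exact c.x_ne_one (congrArg Subtype.val hxS)
    have hrG : r ∣ Nat.card G := c.r_dvd_orderOf.trans (orderOf_dvd_natCard x)
    have hr2 : r ≠ 2 := BG10.ne_two_of_dvd c.hG hrG
    have hSc : IsCyclic (S : Subgroup EL) := by
      apply Cfsg.Agent.Lib.Helper49.isCyclic_of_isPGroup_rankLEOne hr2 S.isPGroup'
      have hinj : PRankLE r 1 ↥(S : Subgroup EL) :=
        BG10.pRankLE_of_injective ((Subgroup.inclusion hEL.1).comp (S : Subgroup EL).subtype)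
          ((Subgroup.inclusion_injective hEL.1).comp (S : Subgroup EL).subtype_injective) h1
      intro B hB hexp
      have := hinj B hB hexp
      rwa [pow_one] at this
    obtain ⟨y, hyx, hy1, hyA⟩ := hy
    have hxS' : x ∈ (S : Subgroup EL).map EL.subtype := ⟨⟨x, hxEL⟩, hxS, rfl⟩
    have hyS : y ∈ (S : Subgroup EL).map EL.subtype := (zpowers_le.mpr hxS') hyx
    have h27 := c.h27 L c.hL EL hEL r S hS1 hSc y hyS hy1
    apply c.not_comm
    intro a ha
    have h2 : a ∈ sigmaCore L ⊓ centralizer ({y} : Set G) := by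
      refine ⟨c.A_le_sigmaCore ha, ?_⟩
      show a ∈ centralizer ({y} : Set G)
      rw [mem_centralizer_iff]
      intro h hh
      rw [Set.mem_singleton_iff] at hh
      rw [hh]
      exact hyA a ha
    rw [h27] at h2
    exact mem_centralizer_iff.mp h2.2 x hxS'

end LCfg

/-- the configuration with `r ∈ τ₂(L)`, a complement `EL ∋ x` of `L_σ` and `B = E_{r²} ≤ EL` -/
structure L2Cfg (G : Type u) [Group G] (M E A L EL B : Subgroup G) (p r : ℕ) (x : G) : Prop
    extends LCfg G M E A L p r x where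
  hrτ : r ∈ tau2 L
  hEL' : IsComplIn EL (sigmaCore L) L
  hxEL : x ∈ EL
  hBE : B ≤ EL
  hBel : IsElementaryAbelian r B
  hBc : Nat.card B = r ^ 2

theorem LCfg.exists_L2 [Finite G] {M E A L : Subgroup G} {p r : ℕ} {x : G}
    (c : LCfg G M E A L p r x) (hy : ∃ y ∈ zpowers x, y ≠ 1 ∧ ∀ a ∈ A, y * a = a * y) :
    ∃ EL B : Subgroup G, L2Cfg G M E A L EL B p r x := by
  haveI : Fact r.Prime := ⟨c.rp⟩
  have hrτ := c.r_mem_tau2 hy
  obtain ⟨EL, hEL, hxEL⟩ := c.exists_EL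
  obtain ⟨B, hBE, hBel, hBc⟩ := Cfsg.Agent.Lib.Helper96.BG127.exists_elemAb_sq_le_compl hEL hrτ
  exact ⟨EL, B, { c with hrτ := hrτ, hEL' := hEL, hxEL := hxEL, hBE := hBE, hBel := hBel, hBc := hBc }⟩

namespace L2Cfg

open Cfsg.Agent.Lib.Helper19.BG124 (sigmaHallIn uniqStmt sigmaCore_ne_bot)

variable [Finite G] {M E A L EL B : Subgroup G} {p r : ℕ} {x : G}

theorem hBL (c : L2Cfg G M E A L EL B p r x) : B ≤ L := c.hBE.trans c.hEL'.1

/-- elements of order dividing `p` of `E` lie in `A` -/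
theorem mem_A_of_pow (c : L2Cfg G M E A L EL B p r x) {z : G} (hz : z ∈ E) (hzp : z ^ p = 1) :
    z ∈ A := by
  haveI : Fact p.Prime := ⟨c.pp⟩
  by_cases hz1 : z = 1
  · rw [hz1]; exact A.one_mem
  · have hc : Nat.card (zpowers z) = p := by
      rw [Nat.card_zpowers]; exact orderOf_eq_prime hzp hz1
    exact c.toRCfg.h18M.1.2 (zpowers z) (zpowers_le.mpr hz) hc (mem_zpowers z)

theorem centralizer_le_E (c : L2Cfg G M E A L EL B p r x) : centralizer (A : Set G) ≤ E := by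
  intro g hg
  have := c.toRCfg.h18M.2.1.1 hg
  rwa [c.toRCfg.h18M.2.1.2.1] at this

/-- Step 4: `L ≤ N_G(A)` -/
theorem L_le_normalizer (c : L2Cfg G M E A L EL B p r x) : L ≤ normalizer (A : Set G) := by
  haveI : Fact p.Prime := ⟨c.pp⟩
  haveI : Fact r.Prime := ⟨c.rp⟩
  have hσL := sigmaHallIn c.hG c.hL
  have hnil := (c.h17 L c.hL r c.hrτ B ⟨c.hBL, c.hBel, c.hBc⟩).1
  obtain ⟨PL, hPLp, hPLσ, -, hPLn, hPLall⟩ :=
    Cfsg.Agent.Lib.Helper47.BG11.Exc.exists_normal_sylow hσL hnil c.p_mem_sigma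
  have hAPL : A ≤ PL := hPLall A c.hAL (BG10.isPGroup_of_elemAb c.hAel)
  obtain ⟨z, hzPL, hzc, hzp, hz1⟩ :
      ∃ z ∈ PL, (∀ g ∈ PL, g * z = z * g) ∧ z ^ p = 1 ∧ z ≠ 1 := by
    haveI hPLnt : Nontrivial ↥PL :=
      (Subgroup.nontrivial_iff_ne_bot PL).mpr (fun h => c.A_ne_bot (le_bot_iff.mp (h ▸ hAPL)))
    haveI := hPLp.center_nontrivial
    have hcp : IsPGroup p (Subgroup.center ↥PL) := hPLp.to_subgroup _
    obtain ⟨k, hk⟩ := IsPGroup.iff_card.mp hcp
    have hk0 : k ≠ 0 := by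
      rintro rfl
      rw [pow_zero] at hk
      have := (Finite.one_lt_card_iff_nontrivial (α := Subgroup.center ↥PL)).mpr inferInstance
      omega
    have hd : p ∣ Nat.card (Subgroup.center ↥PL) := by rw [hk]; exact dvd_pow_self p hk0
    obtain ⟨w, hw⟩ := exists_prime_orderOf_dvd_card' p hd
    refine ⟨((w : ↥PL) : G), (w : ↥PL).2, ?_, ?_, ?_⟩
    · intro g hg
      have := Subgroup.mem_center_iff.mp w.2 ⟨g, hg⟩
      exact congrArg Subtype.val this
    · have h1 : w ^ p = 1 := by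
        have := pow_orderOf_eq_one w
        rwa [hw] at this
      have h2 := congrArg (fun t => (((t : Subgroup.center ↥PL) : ↥PL) : G)) h1
      simpa using h2
    · intro h
      have h1 : w = 1 := Subtype.ext (Subtype.ext h)
      rw [h1, orderOf_one] at hw
      exact c.pp.one_lt.ne hw
  have hzA : z ∈ A := by
    apply c.mem_A_of_pow _ hzp
    apply c.centralizer_le_E
    rw [mem_centralizer_iff]
    intro a ha
    exact hzc a (hAPL ha)
  have hxPL : x ∈ normalizer (PL : Set G) := hPLn c.hxL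
  have hX := c.irr (X := A ⊓ centralizer (PL : Set G)) inf_le_left (by
    intro a ha
    refine ⟨c.hxN a ha.1, ?_⟩
    show x * a * x⁻¹ ∈ centralizer (PL : Set G)
    rw [mem_centralizer_iff]
    intro g hg
    have hg' : x⁻¹ * g * x ∈ PL := by
      have := (mem_normalizer_iff.mp (inv_mem hxPL) g).mp hg
      simpa using this
    have := mem_centralizer_iff.mp ha.2 (x⁻¹ * g * x) hg'
    calc g * (x * a * x⁻¹) = x * ((x⁻¹ * g * x) * a) * x⁻¹ := by group
      _ = x * (a * (x⁻¹ * g * x)) * x⁻¹ := by rw [this]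
      _ = x * a * x⁻¹ * g := by group)
  have hXA : A ≤ centralizer (PL : Set G) := by
    rcases hX with h | h
    · exfalso
      have h1 : z ∈ A ⊓ centralizer (PL : Set G) :=
        ⟨hzA, mem_centralizer_iff.mpr (fun g hg => hzc g hg)⟩
      rw [h, mem_bot] at h1
      exact hz1 h1
    · exact inf_eq_left.mp h
  have hPLE : PL ≤ E := fun g hg => c.centralizer_le_E
    (mem_centralizer_iff.mpr (fun a ha => (mem_centralizer_iff.mp (hXA ha) g hg).symm))
  intro g hg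
  apply mem_normalizer_of_conj_mem
  intro a ha
  apply c.mem_A_of_pow
  · apply hPLE
    exact (mem_normalizer_iff.mp (hPLn hg) a).mp (hAPL ha)
  · rw [conj_pow, c.hAel.2 a ha]; group

theorem h17L (c : L2Cfg G M E A L EL B p r x) :
    Group.IsNilpotent (Cfsg.sigmaCore L) ∧
      (∀ P : Sylow r L, IsMulCommutative (P : Subgroup L) ∧
        (B ≤ (P : Subgroup L).map L.subtype →
          (∀ x ∈ (P : Subgroup L).map L.subtype, x ^ r = 1 ↔ x ∈ B) ∧
          ¬ Subgroup.normalizer ((((P : Subgroup L).map L.subtype : Subgroup G)) : Set G) ≤ L)) ∧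
      L ≤ Subgroup.normalizer ((Cfsg.sigmaCore L ⊔ B : Subgroup G) : Set G) ∧
      Cfsg.sigmaCore L ⊓ Subgroup.centralizer (B : Set G) = ⊥ ∧
      (∀ Mstar : Subgroup G, IsCoatom Mstar → Mstar ≠ L → B ≤ Mstar →
        Cfsg.sigmaCore L ⊓ Mstar = ⊥) ∧
      ∃ A₁ : Subgroup G, A₁ ≤ B ∧ Nat.card A₁ = r ∧
        Cfsg.sigmaCore L ⊓ Subgroup.centralizer (A₁ : Set G) = ⊥ :=
  haveI : Fact r.Prime := ⟨c.rp⟩
  c.h17 L c.hL r c.hrτ B ⟨c.hBL, c.hBel, c.hBc⟩

/-- Step 5a: the elements of `B` commute with `x` -/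
theorem comm_x (c : L2Cfg G M E A L EL B p r x) : ∀ b ∈ B, b * x = x * b := by
  haveI : Fact r.Prime := ⟨c.rp⟩
  have h18L := c.h18 L c.hL EL c.hEL' r c.hrτ B ⟨c.hBE, c.hBel, c.hBc⟩
  have hxB : x ∈ normalizer (B : Set G) := h18L.1.1 c.hxEL
  have hT : IsPGroup r (B ⊔ zpowers x : Subgroup G) :=
    IsPGroup.to_sup_of_normal_left' (BG10.isPGroup_of_elemAb c.hBel) c.hxr (zpowers_le.mpr hxB)
  have hT' : IsPGroup r ((B ⊔ zpowers x : Subgroup G).subgroupOf L) := hT.comap_subtype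
  obtain ⟨P, hP⟩ := hT'.exists_le_sylow
  have hPc := (c.h17L.2.1 P).1
  intro b hb
  have hbP : (⟨b, c.hBL hb⟩ : L) ∈ (P : Subgroup L) :=
    hP (by rw [mem_subgroupOf]; exact (le_sup_left : B ≤ B ⊔ zpowers x) hb)
  have hxP : (⟨x, c.hxL⟩ : L) ∈ (P : Subgroup L) :=
    hP (by rw [mem_subgroupOf]; exact (le_sup_right : zpowers x ≤ B ⊔ zpowers x) (mem_zpowers x))
  have h := hPc.is_comm.comm ⟨_, hbP⟩ ⟨_, hxP⟩
  exact congrArg (fun t => (((t : (P : Subgroup L)) : L) : G)) h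

/-- Step 5b: `B` does not centralize `A` -/
theorem B_not_cent (c : L2Cfg G M E A L EL B p r x) : ¬ ∀ b ∈ B, ∀ a ∈ A, b * a = a * b := by
  intro h
  apply c.A_ne_bot
  rw [eq_bot_iff, ← c.h17L.2.2.2.1]
  intro a ha
  refine ⟨c.A_le_sigmaCore ha, ?_⟩
  show a ∈ centralizer (B : Set G)
  rw [mem_centralizer_iff]
  intro b hb
  exact h b hb a ha

/-- an element commuting with `x` and with a non-identity element of `A` centralizes `A` -/
theorem fix_all (c : L2Cfg G M E A L EL B p r x) {g : G} (hgx : g * x = x * g)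
    (hfix : ∃ a ∈ A, a ≠ 1 ∧ g * a = a * g) : ∀ a ∈ A, g * a = a * g := by
  have hX := c.irr (X := A ⊓ centralizer ({g} : Set G)) inf_le_left (by
    intro a ha
    refine ⟨c.hxN a ha.1, ?_⟩
    show x * a * x⁻¹ ∈ centralizer ({g} : Set G)
    rw [mem_centralizer_iff]
    intro h hh
    rw [Set.mem_singleton_iff] at hh
    rw [hh]
    have h1 : g * a = a * g := mem_centralizer_iff.mp ha.2 g rfl
    have h2 : g * x⁻¹ = x⁻¹ * g := by
      calc g * x⁻¹ = x⁻¹ * (x * g) * x⁻¹ := by group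
        _ = x⁻¹ * (g * x) * x⁻¹ := by rw [hgx]
        _ = x⁻¹ * g := by group
    calc g * (x * a * x⁻¹) = (g * x) * a * x⁻¹ := by group
      _ = x * (g * a) * x⁻¹ := by rw [hgx]; group
      _ = x * a * (g * x⁻¹) := by rw [h1]; group
      _ = x * a * x⁻¹ * g := by rw [h2]; group)
  obtain ⟨a₀, ha₀, ha₀1, ha₀g⟩ := hfix
  rcases hX with h | h
  · exfalso
    have h1 : a₀ ∈ A ⊓ centralizer ({g} : Set G) := by
      refine ⟨ha₀, ?_⟩
      show a₀ ∈ centralizer ({g} : Set G)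
      rw [mem_centralizer_iff]
      intro h hh
      rw [Set.mem_singleton_iff] at hh
      rw [hh]; exact ha₀g
    rw [h, mem_bot] at h1
    exact ha₀1 h1
  · intro a ha
    have h1 : a ∈ A ⊓ centralizer ({g} : Set G) := by rw [h]; exact ha
    exact mem_centralizer_iff.mp h1.2 g rfl

/-- Step 6: `B ≤ E` -/
theorem B_le_E (c : L2Cfg G M E A L EL B p r x) : B ≤ E := by
  haveI : Fact p.Prime := ⟨c.pp⟩
  haveI : Fact r.Prime := ⟨c.rp⟩
  intro b hb
  by_cases hbA : b ∈ centralizer (A : Set G)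
  · exact c.centralizer_le_E hbA
  have hN := c.L_le_normalizer
  obtain ⟨k, hk⟩ := IsPGroup.iff_card.mp c.hxr
  rw [Nat.card_zpowers] at hk
  have hex : ∃ j : ℕ, x ^ (r ^ j) ∈ centralizer (A : Set G) :=
    ⟨k, by rw [← hk, pow_orderOf_eq_one]; exact one_mem _⟩
  classical
  set j0 := Nat.find hex with hj0
  have hj0spec : x ^ (r ^ j0) ∈ centralizer (A : Set G) := Nat.find_spec hex
  have hj0ne : j0 ≠ 0 := by
    intro h
    rw [h, pow_zero, pow_one] at hj0spec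
    apply c.not_comm
    intro a ha
    exact (mem_centralizer_iff.mp hj0spec a ha).symm
  set x1 := x ^ (r ^ (j0 - 1)) with hx1
  have hx1not : x1 ∉ centralizer (A : Set G) := Nat.find_min hex (by omega : j0 - 1 < j0)
  have hx1r : x1 ^ r ∈ centralizer (A : Set G) := by
    rw [hx1, ← pow_mul, ← pow_succ, Nat.sub_add_cancel (Nat.one_le_iff_ne_zero.mpr hj0ne)]
    exact hj0spec
  have hx1E : x1 ∈ E := E.pow_mem c.hxE _
  have hbx : Commute b x := c.comm_x b hb
  have hbx1 : b * x1 = x1 * b := (hbx.pow_right _).eq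
  have hx1x : x1 * x = x * x1 := by rw [hx1, ← pow_succ, ← pow_succ']
  have hbN : b ∈ normalizer (A : Set G) := hN (c.hBL hb)
  have hx1N : x1 ∈ normalizer (A : Set G) := hN (L.pow_mem c.hxL _)
  have hker : ∀ g : normalizer (A : Set G), (g : G) ∈ centralizer (A : Set G) →
      A.normalizerMonoidHom g = 1 := by
    intro g hg
    ext a
    show (g : G) * a * (g : G)⁻¹ = a
    rw [← mem_centralizer_iff.mp hg a a.2]
    group
  letI : CommGroup ↥A :=
    { (inferInstance : Group ↥A) with mul_comm := fun a a' => c.hAel.1.is_comm.comm a a' }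
  set α : MulAut ↥A := A.normalizerMonoidHom ⟨b, hbN⟩ with hα'
  set β : MulAut ↥A := A.normalizerMonoidHom ⟨x1, hx1N⟩ with hβ'
  have hα : α ^ r = 1 := by
    rw [hα', ← map_pow]
    apply hker
    have : (((⟨b, hbN⟩ : normalizer (A : Set G)) ^ r : normalizer (A : Set G)) : G) = b ^ r := rfl
    rw [this, c.hBel.2 b hb]
    exact one_mem _
  have hβ : β ^ r = 1 := by
    rw [hβ', ← map_pow]
    apply hker
    exact hx1r
  have hαβ : α * β = β * α := by
    rw [hα', hβ', ← map_mul, ← map_mul]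
    congr 1
    exact Subtype.ext hbx1
  have hrA : ¬ r ∣ Nat.card ↥A := by
    rw [c.hAc]
    intro h
    exact c.hrp ((Nat.prime_dvd_prime_iff_eq c.rp c.pp).mp (c.rp.dvd_of_dvd_pow h))
  obtain ⟨γ, hγ, a, haγ, ha1⟩ :
      ∃ γ ∈ Cfsg.Agent.Lib.Helper48.genSet α β, ∃ a : ↥A, γ a = a ∧ a ≠ 1 := by
    by_contra hcon
    push Not at hcon
    have hall : ∀ a : ↥A, a ∈ (⊥ : Subgroup ↥A) := fun a =>
      Cfsg.Agent.Lib.Helper48.abelian_gen (p := r) hrA α β hα hβ hαβ ⊥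
        (fun γ hγ a ha => by rw [mem_bot]; exact hcon γ hγ a ha) a
    apply c.A_ne_bot
    rw [eq_bot_iff]
    intro a ha
    have := hall ⟨a, ha⟩
    rw [mem_bot] at this
    rw [mem_bot]
    exact congrArg Subtype.val this
  obtain ⟨g, hgN, hgν, hgx, hgcase⟩ : ∃ g : G, ∃ hgN : g ∈ normalizer (A : Set G),
      γ = A.normalizerMonoidHom ⟨g, hgN⟩ ∧ g * x = x * g ∧ (g = x1 ∨ ∃ n : ℕ, g = b * x1 ^ n) := by
    rcases hγ with rfl | ⟨n, rfl⟩
    · exact ⟨x1, hx1N, rfl, hx1x, Or.inl rfl⟩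
    · refine ⟨b * x1 ^ n, (normalizer (A : Set G)).mul_mem hbN (pow_mem hx1N n), ?_, ?_,
        Or.inr ⟨n, rfl⟩⟩
      · rw [hα', hβ', ← map_pow, ← map_mul]
        rfl
      · have h1 : Commute (x1 ^ n) x := (show Commute x1 x from hx1x).pow_left n
        exact (hbx.mul_left h1).eq
  have hfix : ∃ a' ∈ A, a' ≠ 1 ∧ g * a' = a' * g := by
    refine ⟨a, a.2, fun h => ha1 (Subtype.ext h), ?_⟩
    have h1 : ((γ a : ↥A) : G) = a := congrArg Subtype.val haγ
    rw [hgν] at h1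
    have h2 : g * a * g⁻¹ = a := h1
    calc g * a = g * a * g⁻¹ * g := by group
      _ = a * g := by rw [h2]
  have hgA := c.fix_all hgx hfix
  rcases hgcase with rfl | ⟨n, rfl⟩
  · exfalso
    apply hx1not
    rw [mem_centralizer_iff]
    intro a ha
    exact (hgA a ha).symm
  · have hgE : b * x1 ^ n ∈ E :=
      c.centralizer_le_E (mem_centralizer_iff.mpr (fun a ha => (hgA a ha).symm))
    have : b = (b * x1 ^ n) * (x1 ^ n)⁻¹ := by group
    rw [this]
    exact E.mul_mem hgE (E.inv_mem (E.pow_mem hx1E n))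

/-- Step 7: the configuration is contradictory -/
theorem false_of (c : L2Cfg G M E A L EL B p r x) : False := by
  haveI : Fact p.Prime := ⟨c.pp⟩
  haveI : Fact r.Prime := ⟨c.rp⟩
  have hBE := c.B_le_E
  have hσM := sigmaHallIn c.hG c.hM
  have hrE : r ∣ Nat.card E := by
    have h1 : r ∣ Nat.card B := by rw [c.hBc]; exact dvd_pow_self r two_ne_zero
    exact h1.trans (Subgroup.card_dvd_of_le hBE)
  have hrσ : r ∉ sigma M :=
    Cfsg.Agent.Lib.Helper96.BG127.not_mem_sigma_of_dvd_card_compl hσM c.hE c.rp hrE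
  have hrτ : r ∈ tau2 M := by
    refine ⟨c.rp, hrσ, ?_, ?_⟩
    · by_contra h2
      exact hrσ (c.alpha_sub c.hM ⟨c.rp, h2⟩)
    · intro h1
      have := BG10.card_le_of_pRankLE h1 (hBE.trans c.hE.1) c.hBel
      rw [c.hBc, pow_one] at this
      nlinarith [c.rp.one_lt]
  have h18 := c.h18 M c.hM E c.hE r hrτ B ⟨hBE, c.hBel, c.hBc⟩
  have hEB : E ≤ normalizer (B : Set G) := h18.1.1
  have hEA : E ≤ normalizer (A : Set G) := c.toRCfg.h18M.1.1
  have hAB : A ⊓ B = ⊥ :=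
    (IsPGroup.disjoint_of_ne p r c.hrp.symm A B (BG10.isPGroup_of_elemAb c.hAel)
      (BG10.isPGroup_of_elemAb c.hBel)).eq_bot
  apply c.B_not_cent
  intro b hb a ha
  have h1 : b * a * b⁻¹ * a⁻¹ ∈ A :=
    A.mul_mem ((mem_normalizer_iff.mp (hEA (hBE hb)) a).mp ha) (A.inv_mem ha)
  have h2 : b * a * b⁻¹ * a⁻¹ ∈ B := by
    have h3 : a * b⁻¹ * a⁻¹ ∈ B :=
      (mem_normalizer_iff.mp (hEB (c.hAE ha)) b⁻¹).mp (B.inv_mem hb)
    have h4 : b * a * b⁻¹ * a⁻¹ = b * (a * b⁻¹ * a⁻¹) := by group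
    rw [h4]
    exact B.mul_mem hb h3
  have h5 : b * a * b⁻¹ * a⁻¹ ∈ A ⊓ B := ⟨h1, h2⟩
  rw [hAB, mem_bot] at h5
  calc b * a = b * a * b⁻¹ * a⁻¹ * (a * b) := by group
    _ = a * b := by rw [h5, one_mul]

end L2Cfg

/-- **Lemma R.** `M` maximal, `E` a complement of `M_σ`, `p ∈ τ₂(M)`, `A ≤ E` elementary abelian of
order `p²`, `x ∈ E` an `r`-element (`r ≠ p`) normalizing no subgroup of order `p` of `A`. Then no
non-identity element of `⟨x⟩` centralizes `A`.  (From the statements of S1417, S1418, S1423, S1427.) -/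
theorem lemmaR [Finite G] (hG : IsMinSimpleOddOrder G) (h17 : StmtR1417 G) (h18 : StmtR1418 G)
    (h23 : StmtR1423 G) (h27 : StmtR1427 G) {M : Subgroup G} (hM : IsCoatom M) {E : Subgroup G}
    (hE : IsComplIn E (sigmaCore M) M) {p : ℕ} [hpf : Fact p.Prime] (hp : p ∈ tau2 M)
    {A : Subgroup G} (hA : A ≤ E ∧ IsElementaryAbelian p A ∧ Nat.card A = p ^ 2)
    {r : ℕ} [hrf : Fact r.Prime] (hrp : r ≠ p) {x : G} (hxE : x ∈ E)
    (hxr : IsPGroup r (zpowers x))
    (hirr : ∀ X : Subgroup G, X ≤ A → Nat.card X = p → x ∉ normalizer (X : Set G)) :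
    ∀ y ∈ zpowers x, (∀ a ∈ A, y * a = a * y) → y = 1 := by
  intro y hyx hyA
  by_contra hy1
  have c : RCfg G M E A p r x :=
    { hG := hG, h17 := h17, h18 := h18, h23 := h23, h27 := h27, hM := hM, hE := hE,
      pp := hpf.out, hp := hp, hAE := hA.1, hAel := hA.2.1, hAc := hA.2.2, rp := hrf.out,
      hrp := hrp, hxE := hxE, hxr := hxr, hirr := hirr }
  obtain ⟨L, cL⟩ := c.exists_L
  obtain ⟨EL, B, c2⟩ := cL.exists_L2 ⟨y, hyx, hy1, hyA⟩
  exact c2.false_of

end Cfsg.Agent.Lib.Helper10.BG13
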