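import Mathlib
import Cfsg.Prelude.Def_OddOrderLocal
import Cfsg.Agent.Lib.Helper21.BG139Cfg
import Cfsg.Agent.Lib.Helper10.BGLemR
import Cfsg.Agent.Lib.Helper63.BG13a
import Cfsg.Agent.Lib.Helper63.PrimeParts
import Cfsg.Agent.Lib.Helper23.BetaNil
import Cfsg.Agent.Lib.Helper19.PNil
import Cfsg.Agent.Lib.Helper19.BG124a
import Cfsg.Agent.Lib.Helper49.RankOneCyclic
import Cfsg.Agent.S1414
import Cfsg.Agent.S1415
import Cfsg.Agent.S1427

/-!
# Pieces T1, T2 of helper21's plan for S1378 (B&G 13.9)
-/

set_option autoImplicit false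
set_option linter.style.haveILetI false
set_option linter.unusedSectionVars false
set_option linter.unusedVariables false

namespace Cfsg.Agent.Lib.Helper10.BG139

open Subgroup Cfsg
open Cfsg.Agent.Lib.Helper33 (cj cj_def mem_cj mem_cj' card_cj cj_eq_self_iff conj_mem_cj)
open Cfsg.Agent.Lib.Helper63
open Cfsg.Agent.Lib.Helper21.BG139
open Cfsg.Agent.Lib.Helper19.BG124 (sigmaHallIn uniqStmt)

universe u

variable {G : Type u} [Group G] [Finite G]

/-- **T1**: for non-conjugate maximal subgroups `M`, `N`, `M_σ ∩ N_σ` is nilpotent -/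
theorem nilpotent_sigmaCore_inf (hG : IsMinSimpleOddOrder G) {M N : Subgroup G} (hM : IsCoatom M)
    (hN : IsCoatom N) (hnc : ∀ g : G, N ≠ M.map (MulAut.conj g).toMonoidHom) :
    Group.IsNilpotent ↥(sigmaCore M ⊓ sigmaCore N) := by
  apply Cfsg.Agent.Lib.Helper23.Beta.isNilpotent_of_forall_hnpc
  intro s hs
  haveI : Fact s.Prime := ⟨hs⟩
  by_cases hd : s ∣ Nat.card ↥(sigmaCore M ⊓ sigmaCore N)
  · have hsM : s ∈ sigma M :=
      Cfsg.Agent.Lib.Helper47.BG11.mem_sigma_of_dvd_card_le (inf_le_left) hs hd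
    have hsN : s ∈ sigma N :=
      Cfsg.Agent.Lib.Helper47.BG11.mem_sigma_of_dvd_card_le (inf_le_right) hs hd
    have hsβ : s ∉ beta M := by
      intro hβ
      obtain ⟨g, hg⟩ := BG13.conj_of_sigma_alpha (uniqStmt hG) hM hN hsN hβ.1
      apply hnc g⁻¹
      rw [hg]
      exact (map_conj_inv_map_conj g N).symm
    have hsdM : s ∣ Nat.card M := hsM.2.1
    have h14 := (Cfsg.Agent.S1414.result hG M hM).2.2.2.2 s hs hsdM hsβ
    exact Cfsg.Agent.Lib.Helper19.PN.mono (p := s) (L := sigmaCore M) h14.2.1 inf_le_left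
  · obtain ⟨P⟩ : Nonempty (Sylow s ↥(sigmaCore M ⊓ sigmaCore N)) := inferInstance
    have hP : (P : Subgroup ↥(sigmaCore M ⊓ sigmaCore N)) = ⊥ := by
      obtain ⟨k, hk⟩ := IsPGroup.iff_card.mp P.isPGroup'
      rcases Nat.eq_zero_or_pos k with rfl | hk0
      · rw [pow_zero] at hk
        exact Subgroup.card_eq_one.mp hk
      · exfalso
        apply hd
        have h1 : s ∣ Nat.card (P : Subgroup ↥(sigmaCore M ⊓ sigmaCore N)) := by
          rw [hk]; exact dvd_pow_self s hk0.ne'
        exact h1.trans (Subgroup.card_subgroup_dvd_card _)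
    refine ⟨P, ⊤, inferInstance, ?_⟩
    rw [hP]
    exact Subgroup.isComplement'_top_bot

/-- **T2**: a Hall `τ₁(M)`-subgroup `T` of a complement `E` acts semiprimely on `M_σ` -/
theorem semiprime_tau1 (hG : IsMinSimpleOddOrder G) (h28 : Stmt1428 G) {M E T : Subgroup G}
    (hM : IsCoatom M) (hE : IsComplIn E (sigmaCore M) M) (hT : IsPiHallOf (tau1 M) T E) :
    ∀ x ∈ T, x ≠ 1 → sigmaCore M ⊓ centralizer ({x} : Set G) =
      sigmaCore M ⊓ centralizer (T : Set G) := by
  intro x hxT hx1
  have hTE : T ≤ E := hT.1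
  have hTc : IsCyclic T := (Cfsg.Agent.S1415.result hG M hM E hE).2.1 T hT
  have hTcomm : ∀ a ∈ T, ∀ b ∈ T, a * b = b * a := by
    intro a ha b hb
    haveI := hTc
    have h := (IsCyclic.commGroup (α := T)).mul_comm ⟨a, ha⟩ ⟨b, hb⟩
    exact congrArg Subtype.val h
  apply le_antisymm
  · rintro a ⟨haσ, hax⟩
    refine ⟨haσ, ?_⟩
    have hax' : x * a = a * x := mem_centralizer_iff.mp hax x rfl
    -- the subgroup of order `p` of `⟨x⟩`
    have ho1 : orderOf x ≠ 1 := by
      rw [Ne, orderOf_eq_one_iff]; exact hx1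
    obtain ⟨p, hp, hpd⟩ := Nat.exists_prime_and_dvd ho1
    haveI : Fact p.Prime := ⟨hp⟩
    set u : G := x ^ (orderOf x / p) with hu
    have huo : orderOf u = p := orderOf_pow_orderOf_div (orderOf_pos x).ne' hpd
    have huT : u ∈ T := T.pow_mem hxT _
    have hua : u * a = a * u := ((show Commute x a from hax').pow_left _).eq
    have hpT : p ∣ Nat.card T := by
      have := orderOf_dvd_natCard (⟨u, huT⟩ : T)
      rwa [Subgroup.orderOf_mk, huo] at this
    have hpτ : p ∈ tau1 M := hT.2.1 p hp hpT
    have hP0c : Nat.card (zpowers u) = p := by rw [Nat.card_zpowers, huo]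
    have hP0E : zpowers u ≤ E := zpowers_le.mpr (hTE huT)
    have haP0 : a ∈ sigmaCore M ⊓ centralizer ((zpowers u : Subgroup G) : Set G) := by
      refine ⟨haσ, ?_⟩
      show a ∈ centralizer ((zpowers u : Subgroup G) : Set G)
      rw [mem_centralizer_iff]
      intro h hh
      obtain ⟨k, rfl⟩ := mem_zpowers_iff.mp hh
      exact ((show Commute u a from hua).zpow_left k).eq
    show a ∈ centralizer (T : Set G)
    rw [mem_centralizer_iff]
    intro t ht
    -- `t ∈ C({a})`
    have key : t ∈ centralizer ({a} : Set G) := by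
      apply Cfsg.Agent.Lib.Helper63.mem_of_prime_power_parts
      intro s k j hs hord
      haveI : Fact s.Prime := ⟨hs⟩
      have ht'T : t ^ k ∈ T := T.pow_mem ht k
      rcases Nat.eq_zero_or_pos j with rfl | hj
      · rw [pow_zero, orderOf_eq_one_iff] at hord
        rw [hord]; exact one_mem _
      have ht'1 : t ^ k ≠ 1 := by
        intro h
        rw [h, orderOf_one] at hord
        have := Nat.one_lt_pow hj.ne' hs.one_lt
        omega
      have hsd : s ∣ orderOf (t ^ k) := by rw [hord]; exact dvd_pow_self s hj.ne'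
      set z : G := (t ^ k) ^ (orderOf (t ^ k) / s) with hz
      have hzo : orderOf z = s := orderOf_pow_orderOf_div (orderOf_pos (t ^ k)).ne' hsd
      have hzT : z ∈ T := T.pow_mem ht'T _
      have hz1 : z ≠ 1 := by
        intro h
        rw [h, orderOf_one] at hzo
        exact hs.one_lt.ne hzo
      have hsT : s ∣ Nat.card T := by
        have := orderOf_dvd_natCard (⟨z, hzT⟩ : T)
        rwa [Subgroup.orderOf_mk, hzo] at this
      have hsτ : s ∈ tau1 M := hT.2.1 s hs hsT
      -- 13.4
      have hR0 : zpowers z ≤ E ⊓ centralizer ((zpowers u : Subgroup G) : Set G) := by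
        rw [zpowers_le]
        refine ⟨hTE hzT, ?_⟩
        show z ∈ centralizer ((zpowers u : Subgroup G) : Set G)
        rw [mem_centralizer_iff]
        intro h hh
        obtain ⟨i, rfl⟩ := mem_zpowers_iff.mp hh
        exact hTcomm _ (T.zpow_mem huT i) _ hzT
      have hR0p : (Nat.card (zpowers z)).Prime := by rw [Nat.card_zpowers, hzo]; exact hs
      have h134 := h28 M hM E hE p hpτ (zpowers u) hP0E hP0c (zpowers z) hR0 hR0p haP0
      have haz : a ∈ sigmaCore M ⊓ centralizer ({z} : Set G) := by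
        refine ⟨haσ, ?_⟩
        have := h134.2
        rw [Cfsg.Agent.Lib.Helper10.BG13.centralizer_zpowers'] at this
        exact this
      -- 13.3: pass to the Sylow subgroup
      have ht'E : t ^ k ∈ E := hTE ht'T
      have hZ : IsPGroup s ((zpowers (t ^ k)).subgroupOf E) := by
        have h1 : IsPGroup s (zpowers (t ^ k)) := by
          apply IsPGroup.of_card (n := j)
          rw [Nat.card_zpowers, hord]
        exact h1.comap_subtype
      obtain ⟨S, hS⟩ := hZ.exists_le_sylow
      have ht'S : (⟨t ^ k, ht'E⟩ : E) ∈ (S : Subgroup E) :=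
        hS (by rw [mem_subgroupOf]; exact mem_zpowers _)
      have hS1 : (S : Subgroup E) ≠ ⊥ := by
        intro h
        rw [h, mem_bot] at ht'S
        exact ht'1 (congrArg Subtype.val ht'S)
      have hsG : s ∣ Nat.card G := hsT.trans (Subgroup.card_subgroup_dvd_card T)
      have hs2 : s ≠ 2 := BG10.ne_two_of_dvd hG hsG
      have hSc : IsCyclic (S : Subgroup E) := by
        apply Cfsg.Agent.Lib.Helper49.isCyclic_of_isPGroup_rankLEOne hs2 S.isPGroup'
        have hinj : PRankLE s 1 ↥(S : Subgroup E) :=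
          BG10.pRankLE_of_injective ((Subgroup.inclusion hE.1).comp (S : Subgroup E).subtype)
            ((Subgroup.inclusion_injective hE.1).comp (S : Subgroup E).subtype_injective)
            hsτ.2.2.2.2
        intro B hB hexp
        have := hinj B hB hexp
        rwa [pow_one] at this
      have ht'S' : t ^ k ∈ (S : Subgroup E).map E.subtype := ⟨⟨t ^ k, ht'E⟩, ht'S, rfl⟩
      have hzS : z ∈ (S : Subgroup E).map E.subtype := pow_mem ht'S' _
      have h27 := Cfsg.Agent.S1427.result hG M hM E hE s S hS1 hSc z hzS hz1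
      rw [h27] at haz
      have := mem_centralizer_iff.mp haz.2 (t ^ k) ht'S'
      show t ^ k ∈ centralizer ({a} : Set G)
      rw [mem_centralizer_iff]
      intro h hh
      rw [Set.mem_singleton_iff] at hh
      rw [hh]
      exact this.symm
    exact (mem_centralizer_iff.mp key a rfl).symm
  · exact inf_le_inf_left _ (Subgroup.centralizer_le (Set.singleton_subset_iff.mpr hxT))

end Cfsg.Agent.Lib.Helper10.BG139
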