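import Mathlib
import Cfsg.Prelude.Def_OddOrderLocal
import Cfsg.Agent.Lib.Helper10.BG133
import Cfsg.Agent.Lib.Helper70.BG14E0
import Cfsg.Agent.Lib.Helper23.TypeP
import Cfsg.Agent.Lib.Helper19.BG124a
import Cfsg.Agent.Lib.Helper63.BG10
import Cfsg.Agent.S1350
import Cfsg.Agent.S1378
import Cfsg.Agent.S1404

/-!
# B&G Theorem 14.4(a): conjugacy control for elements of `M_σ` (Lemma T)

For `x ∈ M_σ#` pick a subgroup `X₀ ≤ ⟨x⟩` of prime order `p ∈ σ(M)` and a maximal subgroup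
`L ≥ N_G(X₀) ≥ C_G(x)`.  Either `L = M`, or (B&G 12.14 collapsed by 13.9) `M ∩ L` is a complement of
`L_σ` in `L`.  In both cases `g x g⁻¹ ∈ M` forces `g ∈ M · C_{L_σ}(x)`.
-/

set_option autoImplicit false
set_option linter.style.haveILetI false
set_option linter.unusedSectionVars false
set_option linter.unusedVariables false

namespace Cfsg.Agent.Lib.Helper10.BG144T

open Subgroup Cfsg
open Cfsg.Agent.Lib.Helper33 (cj cj_def mem_cj mem_cj' card_cj cj_eq_self_iff conj_mem_cj)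
open Cfsg.Agent.Lib.Helper10.BG13 (sigmaCore_le sigmaCore_conj_mem')

universe u

variable {G : Type u} [Group G] [Finite G]

/-- the context of an element `x ∈ M_σ#`: a maximal subgroup `L ≥ C_G(x)` controlling the
conjugates of `M` through `x`. -/
structure Ctx (M : Subgroup G) (x : G) (L : Subgroup G) : Prop where
  hL : IsCoatom L
  hCL : centralizer ({x} : Set G) ≤ L
  hctl : ∀ g : G, g * x * g⁻¹ ∈ M → ∃ m ∈ M, ∃ c ∈ L, g = m * c
  hcase : L = M ∨ (L ≠ M ∧ IsComplIn (M ⊓ L) (sigmaCore L) L ∧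
    (∀ s : ℕ, s ∈ sigma M → s ∈ sigma L → False) ∧ Group.IsNilpotent ↥(sigmaCore L))

theorem mem_centralizer_singleton {x b : G} : b ∈ centralizer ({x} : Set G) ↔ x * b = b * x := by
  rw [mem_centralizer_iff]
  constructor
  · intro h
    exact h x rfl
  · intro h y hy
    rw [Set.mem_singleton_iff.mp hy]
    exact h

theorem self_mem_centralizer (x : G) : x ∈ centralizer ({x} : Set G) :=
  mem_centralizer_singleton.mpr rfl

theorem sigma_of_mem_sigmaCore (hG : IsMinSimpleOddOrder G) {M : Subgroup G} (hM : IsCoatom M)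
    {x : G} (hx : x ∈ sigmaCore M) {p : ℕ} (hp : p.Prime) (hpx : p ∣ orderOf x) : p ∈ sigma M := by
  have h1 : orderOf x ∣ Nat.card (sigmaCore M) := Subgroup.orderOf_dvd_natCard _ hx
  exact (Cfsg.Agent.S1350.result hG M hM).1.2.1 p hp (hpx.trans h1)

/-- existence of the context -/
theorem exists_ctx (hG : IsMinSimpleOddOrder G) {M : Subgroup G} (hM : IsCoatom M) {x : G}
    (hx : x ∈ sigmaCore M) (hx1 : x ≠ 1) : ∃ L : Subgroup G, Ctx M x L := by
  classical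
  have hxM : x ∈ M := sigmaCore_le M hx
  have ho1 : orderOf x ≠ 1 := fun h => hx1 (orderOf_eq_one_iff.mp h)
  have ho0 : orderOf x ≠ 0 := (orderOf_pos x).ne'
  set p := (orderOf x).minFac with hp_def
  have hpp : p.Prime := Nat.minFac_prime ho1
  haveI : Fact p.Prime := ⟨hpp⟩
  have hpx : p ∣ orderOf x := Nat.minFac_dvd _
  have hpσ : p ∈ sigma M := sigma_of_mem_sigmaCore hG hM hx hpp hpx
  set x0 := x ^ (orderOf x / p) with hx0
  have hox0 : orderOf x0 = p := orderOf_pow_orderOf_div ho0 hpx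
  set X0 : Subgroup G := zpowers x0 with hX0
  have hX0c : Nat.card X0 = p := by rw [hX0, Nat.card_zpowers, hox0]
  have hX0p : IsPGroup p X0 := IsPGroup.of_card (n := 1) (by rw [hX0c, pow_one])
  have hX01 : X0 ≠ ⊥ := by
    intro h
    rw [h, Subgroup.card_bot] at hX0c
    exact hpp.one_lt.ne hX0c
  have hX0M : X0 ≤ M := by
    rw [hX0, zpowers_le]
    exact M.pow_mem hxM _
  have hX0top : X0 ≠ ⊤ := fun h => hM.1 (top_le_iff.mp (h ▸ hX0M))
  have hCX : centralizer ({x} : Set G) ≤ centralizer (X0 : Set G) := by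
    intro c hc
    have hcx : x * c = c * x := mem_centralizer_singleton.mp hc
    rw [mem_centralizer_iff]
    intro y hy
    obtain ⟨k, rfl⟩ := mem_zpowers_iff.mp hy
    have h1 : Commute x c := hcx
    have h2 : Commute (x ^ (orderOf x / p)) c := h1.pow_left _
    exact (h2.zpow_left k).eq
  have hN : normalizer (X0 : Set G) ≠ ⊤ := Cfsg.Agent.Lib.Helper63.BG10.normalizer_ne_top hG hX01 hX0top
  obtain ⟨L, hL, hNL⟩ := (eq_top_or_exists_le_coatom _).resolve_left hN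
  have hCL0 : centralizer (X0 : Set G) ≤ L :=
    (Subgroup.centralizer_le_normalizer (X0 : Set G)).trans hNL
  refine ⟨L, hL, hCX.trans hCL0, ?_, ?_⟩
  · intro g hg
    have h1 : X0.map (MulAut.conj g).toMonoidHom ≤ M := by
      rintro _ ⟨y, hy, rfl⟩
      obtain ⟨k, rfl⟩ := mem_zpowers_iff.mp hy
      have h2 : (MulAut.conj g).toMonoidHom (x0 ^ k) = (g * x * g⁻¹) ^ ((orderOf x / p : ℕ) * k : ℤ) := by
        simp only [MulEquiv.toMonoidHom_eq_coe, MonoidHom.coe_coe, MulAut.conj_apply, hx0]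
        rw [zpow_mul, zpow_natCast, conj_pow, conj_zpow]
      rw [h2]
      exact M.zpow_mem hg _
    obtain ⟨m, hm, c, hc, hgc⟩ :=
      (Cfsg.Agent.S1404.result hG M hM p hpσ X0 hX0p hX01 hX0M).1 g h1
    exact ⟨m, hm, c, hCL0 hc, hgc⟩
  · by_cases hne : L = M
    · exact Or.inl hne
    · right
      have h78 : Cfsg.Agent.Lib.Helper70.BG14.Stmt1378b G := (Cfsg.Agent.S1378.result hG).2
      obtain ⟨hτ, hcompl, A, hAML, hAe, hAc, -⟩ :=
        Cfsg.Agent.Lib.Helper70.BG14.tau2_of_sigma_normalizer hG h78 hM hL hne hpσ hX0p hX01 hX0M hNL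
      refine ⟨hne, hcompl, ?_, ?_⟩
      · intro s hsM hsL
        obtain ⟨g, hg⟩ := h78 M L hM hL ⟨s, hsM, hsL⟩
        apply hτ.2.1
        have h3 : cj g⁻¹ L = M := by
          rw [hg, ← cj_def]
          exact Cfsg.Agent.Lib.Helper33.cj_inv_cj g M
        have h4 : p ∈ sigma (cj g⁻¹ L) := by rw [h3]; exact hpσ
        exact Cfsg.Agent.Lib.Helper32.BG12.mem_sigma_of_mem_sigma_cj h4
      · exact (Cfsg.Agent.S1417.result hG L hL p hτ A
          ⟨hAML.trans inf_le_right, hAe, hAc⟩).1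

variable {M L : Subgroup G} {x : G}

/-- the key computation: `g ∈ L` with `g x g⁻¹ ∈ M` splits as `a * b`, `a ∈ M ∩ L`,
`b ∈ C_{L_σ}(x)` -/
theorem Ctx.decomp (c : Ctx M x L) (hne : L ≠ M) (hxM : x ∈ M) {g : G} (hg : g ∈ L)
    (hgx : g * x * g⁻¹ ∈ M) :
    ∃ a ∈ M ⊓ L, ∃ b ∈ sigmaCore L ⊓ centralizer ({x} : Set G), g = a * b := by
  obtain ⟨-, hcompl, -, -⟩ := c.hcase.resolve_left hne
  obtain ⟨a, ha, b, hb, hgab⟩ := hcompl.2.2.2 g hg
  have hxL : x ∈ L := c.hCL (self_mem_centralizer x)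
  have hbL : b ∈ L := sigmaCore_le L hb
  have h1 : b * x * b⁻¹ ∈ M := by
    have : b * x * b⁻¹ = a⁻¹ * (g * x * g⁻¹) * a := by rw [hgab]; group
    rw [this]
    exact M.mul_mem (M.mul_mem (M.inv_mem ha.1) hgx) ha.1
  have h2 : b * x * b⁻¹ ∈ L := L.mul_mem (L.mul_mem hbL hxL) (L.inv_mem hbL)
  have h3 : b * x * b⁻¹ * x⁻¹ ∈ M ⊓ L :=
    ⟨M.mul_mem h1 (M.inv_mem hxM), L.mul_mem h2 (L.inv_mem hxL)⟩
  have h4 : b * x * b⁻¹ * x⁻¹ ∈ sigmaCore L := by
    have h5 : x * b⁻¹ * x⁻¹ ∈ sigmaCore L :=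
      sigmaCore_conj_mem' L hxL ((sigmaCore L).inv_mem hb)
    have : b * x * b⁻¹ * x⁻¹ = b * (x * b⁻¹ * x⁻¹) := by group
    rw [this]
    exact (sigmaCore L).mul_mem hb h5
  have h6 : b * x * b⁻¹ * x⁻¹ ∈ (M ⊓ L) ⊓ sigmaCore L := ⟨h3, h4⟩
  rw [hcompl.2.2.1, Subgroup.mem_bot] at h6
  have h7 : x * b = b * x := by
    have : b * x = (b * x * b⁻¹ * x⁻¹) * (x * b) := by group
    rw [this, h6, one_mul]
  exact ⟨a, ha, b, ⟨hb, mem_centralizer_singleton.mpr h7⟩, hgab⟩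

/-- **Lemma T**: conjugacy control for `x ∈ M_σ#` -/
theorem Ctx.control (c : Ctx M x L) (hxM : x ∈ M) {g : G} (hgx : g * x * g⁻¹ ∈ M) :
    ∃ m ∈ M, ∃ b ∈ centralizer ({x} : Set G), g = m * b ∧ (L ≠ M → b ∈ sigmaCore L) := by
  obtain ⟨m, hm, c', hc', hgc⟩ := c.hctl g hgx
  have h1 : c' * x * c'⁻¹ ∈ M := by
    have : c' * x * c'⁻¹ = m⁻¹ * (g * x * g⁻¹) * m := by rw [hgc]; group
    rw [this]
    exact M.mul_mem (M.mul_mem (M.inv_mem hm) hgx) hm
  by_cases hne : L = M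
  · refine ⟨g, ?_, 1, Subgroup.one_mem _, (mul_one g).symm, fun h => absurd hne h⟩
    rw [hgc]
    exact M.mul_mem hm (hne ▸ hc')
  · obtain ⟨a, ha, b, hb, hcab⟩ := c.decomp hne hxM hc' h1
    refine ⟨m * a, M.mul_mem hm ha.1, b, hb.2, ?_, fun _ => hb.1⟩
    rw [hgc, hcab, mul_assoc]

/-- `C_G(x) = C_M(x) · C_{L_σ}(x)` -/
theorem Ctx.isComplIn (c : Ctx M x L) (hne : L ≠ M) (hxM : x ∈ M) :
    IsComplIn (M ⊓ centralizer ({x} : Set G)) (sigmaCore L ⊓ centralizer ({x} : Set G))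
      (centralizer ({x} : Set G)) := by
  obtain ⟨-, hcompl, -, -⟩ := c.hcase.resolve_left hne
  refine ⟨inf_le_right, inf_le_right, ?_, ?_⟩
  · rw [eq_bot_iff]
    intro y hy
    have h1 : y ∈ (M ⊓ L) ⊓ sigmaCore L := ⟨⟨hy.1.1, c.hCL hy.1.2⟩, hy.2.1⟩
    rw [hcompl.2.2.1] at h1
    exact h1
  · intro g hg
    have hgx : g * x * g⁻¹ = x := by
      have := mem_centralizer_singleton.mp hg
      rw [← this]; group
    obtain ⟨a, ha, b, hb, hgab⟩ := c.decomp hne hxM (c.hCL hg) (by rw [hgx]; exact hxM)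
    refine ⟨a, ⟨ha.1, ?_⟩, b, hb, hgab⟩
    have : a = g * b⁻¹ := by rw [hgab]; group
    rw [this]
    exact Subgroup.mul_mem _ hg (Subgroup.inv_mem _ hb.2)

theorem Ctx.le_normalizer (c : Ctx M x L) :
    centralizer ({x} : Set G) ≤
      normalizer ((sigmaCore L ⊓ centralizer ({x} : Set G) : Subgroup G) : Set G) := by
  intro g hg
  have hgL : g ∈ L := c.hCL hg
  have key : ∀ h : G, h ∈ L → h ∈ centralizer ({x} : Set G) →
      ∀ y ∈ sigmaCore L ⊓ centralizer ({x} : Set G),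
        h * y * h⁻¹ ∈ sigmaCore L ⊓ centralizer ({x} : Set G) := by
    intro h hhL hhC y hy
    exact ⟨sigmaCore_conj_mem' L hhL hy.1,
      Subgroup.mul_mem _ (Subgroup.mul_mem _ hhC hy.2) (Subgroup.inv_mem _ hhC)⟩
  rw [Subgroup.mem_normalizer_iff]
  intro y
  constructor
  · exact key g hgL hg y
  · intro hy
    have := key g⁻¹ (L.inv_mem hgL) (Subgroup.inv_mem _ hg) _ hy
    have e : g⁻¹ * (g * y * g⁻¹) * g⁻¹⁻¹ = y := by group
    rwa [e] at this

/-- `C_M(x)` and `C_{L_σ}(x)` have coprime orders -/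
theorem Ctx.coprime (hG : IsMinSimpleOddOrder G) (c : Ctx M x L) (hne : L ≠ M) :
    (Nat.card ↥(M ⊓ centralizer ({x} : Set G))).Coprime
      (Nat.card ↥(sigmaCore L ⊓ centralizer ({x} : Set G))) := by
  obtain ⟨-, hcompl, -, -⟩ := c.hcase.resolve_left hne
  have hHall := (Cfsg.Agent.S1350.result hG L c.hL).1
  have h1 : Nat.card ↥(M ⊓ centralizer ({x} : Set G)) ∣ Nat.card ↥(M ⊓ L) :=
    Subgroup.card_dvd_of_le (fun y hy => ⟨hy.1, c.hCL hy.2⟩)
  have h2 : Nat.card ↥(sigmaCore L ⊓ centralizer ({x} : Set G)) ∣ Nat.card ↥(sigmaCore L) :=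
    Subgroup.card_dvd_of_le inf_le_left
  have h3 : Nat.card ↥(M ⊓ L) * Nat.card ↥(sigmaCore L) = Nat.card L :=
    Cfsg.Agent.Lib.Helper23.card_isComplIn hcompl
  have h4 : Nat.card ↥(sigmaCore L) * (sigmaCore L).relIndex L = Nat.card L :=
    Cfsg.Agent.Lib.Helper10.BG13.card_mul_relIndex' hHall.1
  have h5 : Nat.card ↥(M ⊓ L) = (sigmaCore L).relIndex L := by
    have hpos : 0 < Nat.card ↥(sigmaCore L) := Nat.card_pos
    have : Nat.card ↥(sigmaCore L) * Nat.card ↥(M ⊓ L) =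
        Nat.card ↥(sigmaCore L) * (sigmaCore L).relIndex L := by rw [h4, mul_comm, h3]
    exact Nat.eq_of_mul_eq_mul_left hpos this
  have h6 : (Nat.card ↥(M ⊓ L)).Coprime (Nat.card ↥(sigmaCore L)) := by
    apply Nat.Coprime.symm
    apply Nat.coprime_of_dvd
    intro k hk hk1 hk2
    rw [h5] at hk2
    exact hHall.2.2 k hk (hHall.2.1 k hk hk1) hk2
  exact (h6.coprime_dvd_left h1).coprime_dvd_right h2

end Cfsg.Agent.Lib.Helper10.BG144T
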