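import Mathlib
import Cfsg.Prelude.Def_OddOrderLocal
import Cfsg.Agent.Lib.Helper10.BG144T

/-!
# B&G Theorem 14.4(a): regular action of `C_{L_σ}(x)` on the conjugates of `M` through `x`
-/

set_option autoImplicit false
set_option linter.style.haveILetI false
set_option linter.unusedSectionVars false
set_option linter.unusedVariables false

namespace Cfsg.Agent.Lib.Helper10.BG144T

open Subgroup Cfsg
open Cfsg.Agent.Lib.Helper33 (cj cj_def mem_cj mem_cj' card_cj cj_eq_self_iff conj_mem_cj cj_mul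
  cj_eq_self_of_mem cj_one)
open Cfsg.Agent.Lib.Helper10.BG13 (sigmaCore_le sigmaCore_conj_mem')

universe u

variable {G : Type u} [Group G] [Finite G] {M L : Subgroup G} {x : G}

theorem Ctx.control' (c : Ctx M x L) (hxM : x ∈ M) {g : G} (hg : x ∈ cj g M) :
    ∃ m ∈ M, ∃ b ∈ centralizer ({x} : Set G), g⁻¹ = m * b ∧ (L ≠ M → b ∈ sigmaCore L) := by
  have h1 : g⁻¹ * x * g⁻¹⁻¹ ∈ M := by
    rw [inv_inv]
    exact mem_cj.mp hg
  exact c.control hxM h1

/-- if `C_G(x) ≤ M` then `M` is the only conjugate of `M` containing `x` -/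
theorem Ctx.eq_of_le (c : Ctx M x L) (hxM : x ∈ M) (hCM : centralizer ({x} : Set G) ≤ M) {g : G}
    (hg : x ∈ cj g M) : g ∈ M ∧ cj g M = M := by
  obtain ⟨m, hm, b, hb, hgmb, -⟩ := c.control' hxM hg
  have hgM : g ∈ M := by
    have h1 : g⁻¹ ∈ M := by rw [hgmb]; exact M.mul_mem hm (hCM hb)
    simpa using M.inv_mem h1
  exact ⟨hgM, cj_eq_self_of_mem hgM⟩

theorem normalizer_coatom (hG : IsMinSimpleOddOrder G) (hM : IsCoatom M) (hxM : x ∈ M)
    (hx1 : x ≠ 1) : normalizer (M : Set G) = M := by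
  have hM1 : M ≠ ⊥ := by
    intro h
    rw [h, Subgroup.mem_bot] at hxM
    exact hx1 hxM
  exact Cfsg.Agent.Lib.Helper19.BG124.normalizer_eq_of_le hG hM hM1 le_rfl le_normalizer

/-- the regular action -/
theorem Ctx.regular (hG : IsMinSimpleOddOrder G) (c : Ctx M x L) (hM : IsCoatom M) (hne : L ≠ M)
    (hxM : x ∈ M) (hx1 : x ≠ 1) {g : G} (hg : x ∈ cj g M) :
    ∃! r : G, r ∈ sigmaCore L ⊓ centralizer ({x} : Set G) ∧ cj r M = cj g M := by
  have hcompl := c.isComplIn hne hxM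
  have hNM : normalizer (M : Set G) = M := normalizer_coatom hG hM hxM hx1
  obtain ⟨m, hm, b, hb, hgmb, hbL⟩ := c.control' hxM hg
  have hbR : b⁻¹ ∈ sigmaCore L ⊓ centralizer ({x} : Set G) :=
    Subgroup.inv_mem _ ⟨hbL hne, hb⟩
  have hgb : cj g M = cj b⁻¹ M := by
    have h1 : g = b⁻¹ * m⁻¹ := by
      have : g = (g⁻¹)⁻¹ := (inv_inv g).symm
      rw [this, hgmb, mul_inv_rev]
    rw [h1, cj_mul, cj_eq_self_of_mem (M.inv_mem hm)]
  refine ⟨b⁻¹, ⟨hbR, hgb.symm⟩, ?_⟩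
  rintro r ⟨hr, hrg⟩
  have h1 : cj r M = cj b⁻¹ M := by rw [hrg, hgb]
  have h2 : cj (b * r) M = M := by
    rw [cj_mul, h1, ← cj_mul, mul_inv_cancel, cj_one]
  have h3 : b * r ∈ M := by
    have := cj_eq_self_iff.mp h2
    rwa [hNM] at this
  have h4 : b * r ∈ sigmaCore L ⊓ centralizer ({x} : Set G) :=
    Subgroup.mul_mem _ (by simpa using Subgroup.inv_mem _ hbR) hr
  have h5 : b * r ∈ (M ⊓ centralizer ({x} : Set G)) ⊓
      (sigmaCore L ⊓ centralizer ({x} : Set G)) := ⟨⟨h3, h4.2⟩, h4⟩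
  rw [hcompl.2.2.1, Subgroup.mem_bot] at h5
  exact eq_inv_of_mul_eq_one_right h5

end Cfsg.Agent.Lib.Helper10.BG144T
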