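import Mathlib
import Cfsg.Prelude.Def_OddOrderLocal
import Cfsg.Agent.Lib.Helper19.BG124a

/-!
# `M_F ≤ M_σ` for a maximal subgroup `M` of a minimal simple group of odd order

Every prime dividing the order of a normal nilpotent Hall subgroup of `M` lies in `σ(M)`.
-/

set_option autoImplicit false
set_option linter.style.haveILetI false
set_option linter.unusedSectionVars false
set_option linter.unusedVariables false

namespace Cfsg.Agent.Lib.Helper10.BG145

open Subgroup Cfsg

universe u

theorem card_sup_dvd_mul {L : Type u} [Group L] [Finite L] (A B : Subgroup L) [A.Normal] :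
    Nat.card ↥(A ⊔ B) ∣ Nat.card A * Nat.card B := by
  have e1 : Nat.card ↥(A ⊔ B) = Nat.card A * A.relIndex (A ⊔ B) := by
    have := Subgroup.relIndex_mul_relIndex (⊥ : Subgroup L) A (A ⊔ B) bot_le le_sup_left
    rw [Subgroup.relIndex_bot_left, Subgroup.relIndex_bot_left] at this
    exact this.symm
  rw [e1, Subgroup.relIndex_sup_left]
  exact Nat.mul_dvd_mul_left _ (Subgroup.relIndex_dvd_card _ _)

theorem exists_dvd_card_of_dvd_card_sup {L : Type u} [Group L] [Finite L]
    (s : Finset (Subgroup L)) (hs : ∀ N ∈ s, N.Normal) {q : ℕ} (hq : q.Prime)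
    (h : q ∣ Nat.card ↥(s.sup id)) : ∃ N ∈ s, q ∣ Nat.card N := by
  classical
  induction s using Finset.induction_on with
  | empty =>
    simp only [Finset.sup_empty] at h
    rw [Subgroup.card_bot] at h
    exact absurd (Nat.dvd_one.mp h) hq.one_lt.ne'
  | insert a s _ ih =>
    rw [Finset.sup_insert] at h
    simp only [id] at h
    haveI : a.Normal := hs a (Finset.mem_insert_self a s)
    have h1 := dvd_trans h (card_sup_dvd_mul a (s.sup id))
    rcases (Nat.Prime.dvd_mul hq).mp h1 with h2 | h2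
    · exact ⟨a, Finset.mem_insert_self a s, h2⟩
    · obtain ⟨N, hN, hqN⟩ := ih (fun N hN => hs N (Finset.mem_insert_of_mem hN)) h2
      exact ⟨N, Finset.mem_insert_of_mem hN, hqN⟩

variable {G : Type u} [Group G] [Finite G]

/-- every prime divisor of `|M_F|` lies in `σ(M)` -/
theorem sigma_of_dvd_card_fittingHall (hG : IsMinSimpleOddOrder G) {L : Subgroup G}
    (hL : IsCoatom L) {q : ℕ} (hq : q.Prime) (h : q ∣ Nat.card (fittingHall ↥L)) :
    q ∈ sigma L := by
  classical
  haveI : Fact q.Prime := ⟨hq⟩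
  have hfin : Set.Finite {N : Subgroup ↥L | N.Normal ∧ Group.IsNilpotent N ∧
      (Nat.card N).Coprime N.index} := Set.toFinite _
  have e : hfin.toFinset.sup id = fittingHall ↥L := by
    rw [Finset.sup_id_eq_sSup]
    simp [fittingHall]
  rw [← e] at h
  obtain ⟨N₀, hN₀, hqN₀⟩ := exists_dvd_card_of_dvd_card_sup hfin.toFinset
    (fun N hN => by rw [Set.Finite.mem_toFinset] at hN; exact hN.1) hq h
  rw [Set.Finite.mem_toFinset] at hN₀
  obtain ⟨hnorm, hnil, hcop⟩ := hN₀
  haveI := hnorm
  haveI := hnil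
  let Q : Sylow q ↥N₀ := default
  have hQn : (Q : Subgroup ↥N₀).Normal := by
    have q3 := (Group.isNilpotent_of_finite_tfae (G := ↥N₀)).out 0 3
    exact (q3.mp hnil) q inferInstance Q
  haveI hQc : (Q : Subgroup ↥N₀).Characteristic := Sylow.characteristic_of_normal Q hQn
  set Q₁ : Subgroup ↥L := (Q : Subgroup ↥N₀).map N₀.subtype with hQ₁
  haveI hQ₁n : Q₁.Normal := ConjAct.normal_of_characteristic_of_normal
  set X : Subgroup G := Q₁.map L.subtype with hX
  have hXp : IsPGroup q X := (Q.2.map _).map _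
  have hQ1 : (Q : Subgroup ↥N₀) ≠ ⊥ := Sylow.ne_bot_of_dvd_card Q hqN₀
  have hX1 : X ≠ ⊥ := by
    intro hbot
    apply hQ1
    have h1 : Q₁ = ⊥ := (Subgroup.map_eq_bot_iff_of_injective _ L.subtype_injective).mp hbot
    exact (Subgroup.map_eq_bot_iff_of_injective _ N₀.subtype_injective).mp h1
  have hXL : X ≤ L := Subgroup.map_subtype_le _
  have hXi : ¬ q ∣ X.relIndex L := by
    have h1 : X.relIndex L = Q₁.index := by
      have := Subgroup.relIndex_map_map_of_injective Q₁ (⊤ : Subgroup ↥L) L.subtype_injective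
      rw [Subgroup.relIndex_top_right] at this
      rw [← this, hX]
      congr 1
      rw [← MonoidHom.range_eq_map, Subgroup.range_subtype]
    rw [h1, hQ₁, Subgroup.index_map_subtype]
    intro hd
    rcases (Nat.Prime.dvd_mul hq).mp hd with h2 | h2
    · exact Q.not_dvd_index h2
    · have := Nat.Coprime.eq_one_of_dvd (Nat.Coprime.coprime_dvd_left hqN₀ hcop) h2
      exact hq.one_lt.ne' this
  have hLX : L ≤ normalizer (X : Set G) := by
    intro l hl
    have key : ∀ l' : G, l' ∈ L → ∀ y ∈ X, l' * y * l'⁻¹ ∈ X := by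
      intro l' hl' y hy
      obtain ⟨n, hn, rfl⟩ := Subgroup.mem_map.mp hy
      refine Subgroup.mem_map.mpr ⟨⟨l', hl'⟩ * n * ⟨l', hl'⟩⁻¹, hQ₁n.conj_mem n hn ⟨l', hl'⟩, ?_⟩
      simp
    rw [Subgroup.mem_normalizer_iff]
    intro y
    constructor
    · exact key l hl y
    · intro hy
      have := key l⁻¹ (L.inv_mem hl) _ hy
      have e2 : l⁻¹ * (l * y * l⁻¹) * l⁻¹⁻¹ = y := by group
      rwa [e2] at this
  exact Cfsg.Agent.Lib.Helper19.BG124.mem_sigma_of_normal_sylow hG hL hXp hX1 hXL hXi hLX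

/-- `M_F ≤ M_σ` -/
theorem fittingHallOf_le_sigmaCore (hG : IsMinSimpleOddOrder G) {L : Subgroup G}
    (hL : IsCoatom L) : fittingHallOf L ≤ sigmaCore L := by
  unfold fittingHallOf sigmaCore
  apply Subgroup.map_mono
  unfold piCore
  apply le_sSup
  exact ⟨inferInstance, fun p hp hd => sigma_of_dvd_card_fittingHall hG hL hp hd⟩

end Cfsg.Agent.Lib.Helper10.BG145
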