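import Mathlib
import Cfsg.Prelude.Def_OddOrderLocal
import Cfsg.Agent.Lib.Helper10.BG144T
import Cfsg.Agent.Lib.Helper10.BG145a
import Cfsg.Agent.Lib.Helper50.TildeConj

/-!
# B&G Lemma 14.5 (first half): the cosets `x R(x)` are pairwise disjoint
-/

set_option autoImplicit false
set_option linter.style.haveILetI false
set_option linter.unusedSectionVars false
set_option linter.unusedVariables false

namespace Cfsg.Agent.Lib.Helper10.BG145

open Subgroup Cfsg
open Cfsg.Agent.Lib.Helper33 (cj cj_def mem_cj mem_cj' card_cj cj_eq_self_iff conj_mem_cj)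
open Cfsg.Agent.Lib.Helper10.BG13 (sigmaCore_le sigmaCore_conj_mem')
open Cfsg.Agent.Lib.Helper10.BG144T

universe u

variable {G : Type u} [Group G] [Finite G]

/-- the data carried by a non-identity element of `R(x)` -/
theorem support_spec (hG : IsMinSimpleOddOrder G) {M : Subgroup G} (hM : IsCoatom M) {x : G}
    (hx : x ∈ sigmaCore M) (hx1 : x ≠ 1) {r : G} (hr : r ∈ supportR M x) (hr1 : r ≠ 1) :
    ∃ L : Subgroup G, Ctx M x L ∧ L ≠ M ∧ r ∈ sigmaCore L ∧ r ∈ centralizer ({x} : Set G) ∧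
      (∀ L' : Subgroup G, IsCoatom L' → centralizer ({x} : Set G) ≤ L' → L' = L) ∧
      supportR M x = fittingHallOf L ⊓ centralizer ({x} : Set G) := by
  rcases Cfsg.Agent.Lib.Helper50.Tilde.supportR_cases M x with h | ⟨hnM, L₀, hL₀, hCL₀, huniq, heq⟩
  · rw [h, Subgroup.mem_bot] at hr
    exact absurd hr hr1
  · obtain ⟨L, c⟩ := exists_ctx hG hM hx hx1
    have hLL : L = L₀ := huniq L c.hL c.hCL
    subst hLL
    rw [heq] at hr
    refine ⟨L, c, ?_, fittingHallOf_le_sigmaCore hG c.hL hr.1, hr.2, huniq, heq⟩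
    intro h
    exact hnM (h ▸ hCL₀)

/-- arithmetic facts on `(x, r)`, `r ∈ R(x)` -/
theorem support_facts (hG : IsMinSimpleOddOrder G) {M : Subgroup G} (hM : IsCoatom M) {x : G}
    (hx : x ∈ sigmaCore M) (hx1 : x ≠ 1) {r : G} (hr : r ∈ supportR M x) :
    Commute x r ∧ ∀ t : ℕ, t.Prime → t ∣ orderOf r → t ∉ sigma M := by
  by_cases hr1 : r = 1
  · subst hr1
    refine ⟨Commute.one_right x, ?_⟩
    intro t ht htd
    rw [orderOf_one] at htd
    exact absurd (Nat.dvd_one.mp htd) ht.one_lt.ne'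
  · obtain ⟨L, c, hne, hrL, hrC, -, -⟩ := support_spec hG hM hx hx1 hr hr1
    refine ⟨mem_centralizer_singleton.mp hrC, ?_⟩
    intro t ht htd htM
    obtain ⟨-, -, hdisj, -⟩ := c.hcase.resolve_left hne
    exact hdisj t htM (sigma_of_mem_sigmaCore hG c.hL hrL ht htd)

theorem coprime_of_sigma {a b : ℕ} {π : Set ℕ} (ha : ∀ t : ℕ, t.Prime → t ∣ a → t ∈ π)
    (hb : ∀ t : ℕ, t.Prime → t ∣ b → t ∉ π) : a.Coprime b :=
  Nat.coprime_of_dvd (fun k hk hka hkb => hb k hk hkb (ha k hk hka))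

/-- simultaneous root extraction: if `x ^ k = y ^ k` with `k` prime to both orders then `x = y` -/
theorem eq_of_pow_eq {x y : G} {k : ℕ} (hkx : k.Coprime (orderOf x)) (hky : k.Coprime (orderOf y))
    (h : x ^ k = y ^ k) : x = y := by
  have h1 : k.Coprime (orderOf ((x, y) : G × G)) := by
    rw [Prod.orderOf]
    exact Nat.Coprime.coprime_dvd_right (Nat.lcm_dvd_mul _ _) (Nat.Coprime.mul_right hkx hky)
  obtain ⟨m, hm⟩ := exists_pow_eq_self_of_coprime h1
  have h2 := congrArg Prod.fst hm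
  have h3 := congrArg Prod.snd hm
  simp only [Prod.pow_fst, Prod.pow_snd] at h2 h3
  rw [← h2, ← h3, h]

/-- if `x * r = y * s` (commuting pairs) and `k = o(y) o(r)` is prime to `o(x)` then
`x ∈ ⟨s⟩` -/
theorem mem_zpowers_of_mul_eq {x r y s : G} (hxr : Commute x r) (hys : Commute y s)
    (h : x * r = y * s) (hk : (orderOf y * orderOf r).Coprime (orderOf x)) : x ∈ zpowers s := by
  set k := orderOf y * orderOf r with hk_def
  have h1 : (x * r) ^ k = x ^ k := by
    rw [hxr.mul_pow, hk_def, pow_mul' r, pow_orderOf_eq_one, one_pow, mul_one]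
  have h2 : (y * s) ^ k = s ^ k := by
    rw [hys.mul_pow, hk_def, pow_mul y, pow_orderOf_eq_one, one_pow, one_mul]
  have h3 : x ^ k = s ^ k := by rw [← h1, ← h2, h]
  obtain ⟨m, hm⟩ := exists_pow_eq_self_of_coprime hk
  rw [← hm, h3]
  exact Subgroup.pow_mem _ (Subgroup.pow_mem _ (mem_zpowers s) _) _

/-- **B&G 14.5, disjointness**: the cosets `x R(x)`, `x` a non-identity element of some `M_σ`,
are pairwise disjoint. -/
theorem s1433 (hG : IsMinSimpleOddOrder G) (M N : Subgroup G) (hM : IsCoatom M) (hN : IsCoatom N)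
    (x y : G) (hx : x ∈ sigmaCore M) (hy : y ∈ sigmaCore N) (hx1 : x ≠ 1) (hy1 : y ≠ 1)
    (hxy : x ≠ y) : ∀ r ∈ supportR M x, ∀ s ∈ supportR N y, x * r ≠ y * s := by
  intro r hr s hs heq
  obtain ⟨hcxr, hrσ⟩ := support_facts hG hM hx hx1 hr
  obtain ⟨hcys, hsσ⟩ := support_facts hG hN hy hy1 hs
  have hxσ : ∀ t : ℕ, t.Prime → t ∣ orderOf x → t ∈ sigma M :=
    fun t ht htd => sigma_of_mem_sigmaCore hG hM hx ht htd
  have hyσ : ∀ t : ℕ, t.Prime → t ∣ orderOf y → t ∈ sigma N :=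
    fun t ht htd => sigma_of_mem_sigmaCore hG hN hy ht htd
  have cop_xr : (orderOf x).Coprime (orderOf r) := coprime_of_sigma hxσ hrσ
  have cop_ys : (orderOf y).Coprime (orderOf s) := coprime_of_sigma hyσ hsσ
  by_cases hσ : (sigma M ∩ sigma N).Nonempty
  · -- `N` is conjugate to `M`: `x = y`
    obtain ⟨g, hg⟩ := (Cfsg.Agent.S1378.result hG).2 M N hM hN hσ
    have hσeq : sigma N = sigma M := by
      rw [hg, ← cj_def]
      exact Cfsg.Agent.Lib.Helper50.Tilde.sigma_cj_eq g M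
    apply hxy
    set k := orderOf r * orderOf s with hk_def
    have h1 : (x * r) ^ k = x ^ k := by
      rw [hcxr.mul_pow, hk_def, pow_mul r, pow_orderOf_eq_one, one_pow, mul_one]
    have h2 : (y * s) ^ k = y ^ k := by
      rw [hcys.mul_pow, hk_def, pow_mul' s, pow_orderOf_eq_one, one_pow, mul_one]
    have h3 : x ^ k = y ^ k := by rw [← h1, ← h2, heq]
    have cop_xs : (orderOf x).Coprime (orderOf s) :=
      coprime_of_sigma hxσ (fun t ht htd => by rw [← hσeq]; exact hsσ t ht htd)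
    have cop_yr : (orderOf y).Coprime (orderOf r) :=
      coprime_of_sigma hyσ (fun t ht htd => by rw [hσeq]; exact hrσ t ht htd)
    exact eq_of_pow_eq (Nat.Coprime.mul_left cop_xr.symm cop_xs.symm)
      (Nat.Coprime.mul_left cop_yr.symm cop_ys.symm) h3
  · -- `σ(M) ∩ σ(N) = ∅`
    have hdisj : ∀ t : ℕ, t ∈ sigma M → t ∈ sigma N → False :=
      fun t h1 h2 => hσ ⟨t, h1, h2⟩
    have cop_xy : (orderOf x).Coprime (orderOf y) :=
      coprime_of_sigma hxσ (fun t ht htd h => hdisj t h (hyσ t ht htd))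
    have hxs : x ∈ zpowers s :=
      mem_zpowers_of_mul_eq hcxr hcys heq (Nat.Coprime.mul_left cop_xy.symm cop_xr.symm)
    have hyr : y ∈ zpowers r :=
      mem_zpowers_of_mul_eq hcys hcxr heq.symm (Nat.Coprime.mul_left cop_xy cop_ys.symm)
    have hs1 : s ≠ 1 := by
      intro h
      rw [h, zpowers_one_eq_bot, Subgroup.mem_bot] at hxs
      exact hx1 hxs
    have hr1 : r ≠ 1 := by
      intro h
      rw [h, zpowers_one_eq_bot, Subgroup.mem_bot] at hyr
      exact hy1 hyr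
    obtain ⟨L, c, hneL, hrL, hrC, -, -⟩ := support_spec hG hM hx hx1 hr hr1
    obtain ⟨L', c', hneL', hsL', hsC, -, -⟩ := support_spec hG hN hy hy1 hs hs1
    have hxL' : x ∈ sigmaCore L' := (zpowers_le.mpr hsL') hxs
    have hyL : y ∈ sigmaCore L := (zpowers_le.mpr hrL) hyr
    have hxM : x ∈ M := sigmaCore_le M hx
    have ho1 : orderOf x ≠ 1 := fun h => hx1 (orderOf_eq_one_iff.mp h)
    have htp : (orderOf x).minFac.Prime := Nat.minFac_prime ho1
    have htd : (orderOf x).minFac ∣ orderOf x := Nat.minFac_dvd _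
    obtain ⟨g, hg⟩ := (Cfsg.Agent.S1378.result hG).2 M L' hM c'.hL
      ⟨(orderOf x).minFac, hxσ _ htp htd, sigma_of_mem_sigmaCore hG c'.hL hxL' htp htd⟩
    have hL'cj : L' = cj g M := hg
    have hxg : g⁻¹ * x * g⁻¹⁻¹ ∈ M := by
      rw [inv_inv, ← mem_cj, ← hL'cj]
      exact sigmaCore_le L' hxL'
    obtain ⟨m, hm, b, hb, hgmb, -⟩ := c.control hxM hxg
    have hbL : b ∈ L := c.hCL hb
    have hyL' : y ∈ L' := c'.hCL (self_mem_centralizer y)
    have hyg : g⁻¹ * y * g ∈ M := by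
      rw [← mem_cj, ← hL'cj]
      exact hyL'
    have hbyM : b * y * b⁻¹ ∈ M := by
      have e : b * y * b⁻¹ = m⁻¹ * (g⁻¹ * y * g) * m := by
        have hg' : g = (m * b)⁻¹ := by rw [← hgmb, inv_inv]
        rw [hgmb, hg']
        group
      rw [e]
      exact M.mul_mem (M.mul_mem (M.inv_mem hm) hyg) hm
    have hbyL : b * y * b⁻¹ ∈ sigmaCore L := sigmaCore_conj_mem' L hbL hyL
    obtain ⟨-, hcompl, -, -⟩ := c.hcase.resolve_left hneL
    have h6 : b * y * b⁻¹ ∈ (M ⊓ L) ⊓ sigmaCore L := ⟨⟨hbyM, sigmaCore_le L hbyL⟩, hbyL⟩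
    rw [hcompl.2.2.1, Subgroup.mem_bot] at h6
    apply hy1
    have : y = b⁻¹ * (b * y * b⁻¹) * b := by group
    rw [this, h6]
    group

end Cfsg.Agent.Lib.Helper10.BG145
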