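import Mathlib
import Cfsg.Prelude.Def_OddOrderLocal
import Cfsg.Agent.Lib.Helper10.BG145
import Cfsg.Agent.Lib.Helper10.BG144S

/-!
# B&G Lemma 14.5 (second half): `|M̃| = (|M_σ| - 1) |G : M|`
-/

set_option autoImplicit false
set_option linter.style.haveILetI false
set_option linter.unusedSectionVars false
set_option linter.unusedVariables false

namespace Cfsg.Agent.Lib.Helper10.BG145

open Subgroup Cfsg
open Cfsg.Agent.Lib.Helper33 (cj cj_def mem_cj mem_cj' card_cj cj_eq_self_iff conj_mem_cj cj_mul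
  cj_eq_self_of_mem cj_one cj_inv_cj)
open Cfsg.Agent.Lib.Helper10.BG13 (sigmaCore_le sigmaCore_conj_mem')
open Cfsg.Agent.Lib.Helper10.BG144T
open Cfsg.Agent.Lib.Helper50.Tilde (supportR_cj sigmaCore_cj supportR_eq_bot_of_le
  supportR_eq_of_unique supportR_le_centralizer supportR_congr isCoatom_cj)

universe u

variable {G : Type u} [Group G] [Finite G]

/-- the part of S1375 (B&G 14.4(b),(c)) used for the count -/
def Uniq75 (G : Type u) [Group G] : Prop :=
  ∀ (M : Subgroup G), IsCoatom M → ∀ x : G, x ∈ sigmaCore M → x ≠ 1 →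
    ¬ centralizer ({x} : Set G) ≤ M →
    ∃ N : Subgroup G, (IsCoatom N ∧ centralizer ({x} : Set G) ≤ N) ∧
      (∀ L : Subgroup G, IsCoatom L → centralizer ({x} : Set G) ≤ L → L = N) ∧
      sigmaCore N = fittingHallOf N

/-- `R(x)` acts regularly on the conjugates of `M` through `x` -/
theorem regular_supportR (hG : IsMinSimpleOddOrder G) (h75 : Uniq75 G) {M : Subgroup G}
    (hM : IsCoatom M) {x : G} (hx : x ∈ sigmaCore M) (hx1 : x ≠ 1) {g : G} (hg : x ∈ cj g M) :
    ∃! r : G, r ∈ supportR M x ∧ cj r M = cj g M := by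
  obtain ⟨L, c⟩ := exists_ctx hG hM hx hx1
  have hxM : x ∈ M := sigmaCore_le M hx
  by_cases hCM : centralizer ({x} : Set G) ≤ M
  · rw [supportR_eq_bot_of_le hCM]
    obtain ⟨hgM, hgeq⟩ := c.eq_of_le hxM hCM hg
    exact ⟨1, ⟨Subgroup.one_mem _, by rw [cj_one, hgeq]⟩, fun r hr => Subgroup.mem_bot.mp hr.1⟩
  · obtain ⟨N, ⟨hN, hCN⟩, huniq, hσF⟩ := h75 M hM x hx hx1 hCM
    have hLN : L = N := huniq L c.hL c.hCL
    subst hLN
    have hne : L ≠ M := fun h => hCM (h ▸ c.hCL)
    have hsupp : supportR M x = sigmaCore L ⊓ centralizer ({x} : Set G) := by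
      rw [supportR_eq_of_unique hCM c.hL c.hCL huniq, ← hσF]
    rw [hsupp]
    exact c.regular hG hM hne hxM hx1 hg

/-- `R(b)` does not depend on the conjugate of `M` through `b` -/
theorem supportR_indep (hG : IsMinSimpleOddOrder G) {M : Subgroup G} (hM : IsCoatom M) {b : G}
    (hb1 : b ≠ 1) {y y' : G} (hb : b ∈ sigmaCore (cj y M)) (hb' : b ∈ sigmaCore (cj y' M)) :
    supportR (cj y M) b = supportR (cj y' M) b := by
  have hM₁ : IsCoatom (cj y M) := isCoatom_cj hM y
  have hM₂ : IsCoatom (cj y' M) := isCoatom_cj hM y'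
  have h12 : cj y' M = cj (y' * y⁻¹) (cj y M) := by
    rw [← cj_mul, inv_mul_cancel_right]
  have h21 : cj y M = cj (y * y'⁻¹) (cj y' M) := by
    rw [← cj_mul, inv_mul_cancel_right]
  by_cases h1 : centralizer ({b} : Set G) ≤ cj y M
  · obtain ⟨L, c⟩ := exists_ctx hG hM₁ hb hb1
    have hbM₂ : b ∈ cj (y' * y⁻¹) (cj y M) := h12 ▸ sigmaCore_le _ hb'
    have := (c.eq_of_le (sigmaCore_le _ hb) h1 hbM₂).2
    rw [h12, this]
  · by_cases h2 : centralizer ({b} : Set G) ≤ cj y' M
    · obtain ⟨L, c⟩ := exists_ctx hG hM₂ hb' hb1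
      have hbM₁ : b ∈ cj (y * y'⁻¹) (cj y' M) := h21 ▸ sigmaCore_le _ hb
      have := (c.eq_of_le (sigmaCore_le _ hb') h2 hbM₁).2
      rw [h21, this]
    · exact supportR_congr h1 h2

theorem card_filter_mem [Fintype G] [DecidableEq G] (H : Subgroup G) [DecidablePred (· ∈ H)] :
    (Finset.univ.filter (fun g => g ∈ H)).card = Nat.card H := by
  rw [Nat.card_eq_fintype_card, Fintype.card_subtype]

/-- **B&G 14.5**: the count of `M̃`. -/
theorem s1377 (hG : IsMinSimpleOddOrder G) (h75 : Uniq75 G) (M : Subgroup G) (hM : IsCoatom M) :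
    Set.ncard (tildeOf M ((sigmaCore M : Set G) \ {1})) =
      (Nat.card (sigmaCore M) - 1) * M.index := by
  classical
  haveI : Fintype G := Fintype.ofFinite G
  set W := sigmaCore M with hW
  -- the set of all conjugates of elements of `W#`
  set X : Finset G := Finset.univ.filter (fun b => b ≠ 1 ∧ ∃ y, b ∈ sigmaCore (cj y M)) with hX
  -- base points
  let y₀ : G → G := fun b => if h : ∃ y, b ∈ sigmaCore (cj y M) then Classical.choose h else 1
  have hy₀ : ∀ b ∈ X, b ∈ sigmaCore (cj (y₀ b) M) := by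
    intro b hb
    have h := (Finset.mem_filter.mp hb).2.2
    simp only [y₀, dif_pos h]
    exact Classical.choose_spec h
  have hX1 : ∀ b ∈ X, b ≠ 1 := fun b hb => (Finset.mem_filter.mp hb).2.1
  let R : G → Subgroup G := fun b => supportR (cj (y₀ b) M) b
  have hR : ∀ b ∈ X, ∀ y, b ∈ sigmaCore (cj y M) → supportR (cj y M) b = R b :=
    fun b hb y hy => supportR_indep hG hM (hX1 b hb) hy (hy₀ b hb)
  -- (C1) `M̃` is the disjoint union of the cosets `b R(b)`
  set F : Finset G := X.biUnion (fun b =>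
    (Finset.univ.filter (fun r => r ∈ R b)).image (fun r => b * r)) with hF
  have hFeq : tildeOf M ((W : Set G) \ {1}) = ↑F := by
    ext g
    simp only [hF, Finset.coe_biUnion, Finset.coe_image, Finset.coe_filter, Finset.mem_univ,
      true_and, Set.mem_iUnion, Set.mem_image, Set.mem_setOf_eq]
    constructor
    · rintro ⟨a, ⟨haW, ha1⟩, r, hr, y, rfl⟩
      have hb : y * a * y⁻¹ ∈ sigmaCore (cj y M) := by
        rw [sigmaCore_cj]
        exact conj_mem_cj haW
      have hb1 : y * a * y⁻¹ ≠ 1 := by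
        intro h
        apply ha1
        rw [Set.mem_singleton_iff]
        exact conj_eq_one_iff.mp h
      have hbX : y * a * y⁻¹ ∈ X := Finset.mem_filter.mpr ⟨Finset.mem_univ _, hb1, y, hb⟩
      refine ⟨y * a * y⁻¹, hbX, y * r * y⁻¹, ?_, by group⟩
      rw [← hR _ hbX y hb, supportR_cj]
      exact conj_mem_cj hr
    · rintro ⟨b, hbX', r, hr, rfl⟩
      have hbX : b ∈ X := Finset.mem_coe.mp hbX'
      have hb := hy₀ b hbX
      rw [sigmaCore_cj] at hb
      obtain ⟨a, haW, hab⟩ := mem_cj'.mp hb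
      have ha1 : a ∉ ({1} : Set G) := by
        intro h
        rw [Set.mem_singleton_iff] at h
        apply hX1 _ hbX
        rw [← hab, h]
        group
      have hr' : r ∈ cj (y₀ b) (supportR M a) := by
        rw [← supportR_cj, hab]
        exact hr
      obtain ⟨r₀, hr₀, hrr⟩ := mem_cj'.mp hr'
      refine ⟨a, ⟨haW, ha1⟩, r₀, hr₀, y₀ b, ?_⟩
      calc b * r = (y₀ b * a * (y₀ b)⁻¹) * (y₀ b * r₀ * (y₀ b)⁻¹) := by rw [hab, hrr]
        _ = y₀ b * (a * r₀) * (y₀ b)⁻¹ := by group
  -- the cardinality of `F`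
  have hFcard : F.card = ∑ b ∈ X, Nat.card (R b) := by
    rw [hF, Finset.card_biUnion]
    · apply Finset.sum_congr rfl
      intro b hb
      rw [Finset.card_image_of_injective _ (mul_right_injective b), card_filter_mem]
    · intro b hb b' hb' hne
      have hb₁ : b ∈ X := Finset.mem_coe.mp hb
      have hb₂ : b' ∈ X := Finset.mem_coe.mp hb'
      simp only [Function.onFun]
      rw [Finset.disjoint_left]
      intro g hg hg'
      obtain ⟨r, hr, rfl⟩ := Finset.mem_image.mp hg
      obtain ⟨r', hr', hrr'⟩ := Finset.mem_image.mp hg'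
      have hr₁ : r ∈ R b := (Finset.mem_filter.mp hr).2
      have hr₂ : r' ∈ R b' := (Finset.mem_filter.mp hr').2
      exact s1433 hG (cj (y₀ b) M) (cj (y₀ b') M) (isCoatom_cj hM _) (isCoatom_cj hM _) b b'
        (hy₀ b hb₁) (hy₀ b' hb₂) (hX1 b hb₁) (hX1 b' hb₂) hne r hr₁ r' hr₂ hrr'.symm
  -- `N_G(M) = M`
  have hM1 : M ≠ ⊥ := by
    intro h
    have h1 := Cfsg.Agent.Lib.Helper19.BG124.sigmaCore_ne_bot hG hM
    apply h1
    rw [eq_bot_iff, ← h]
    exact sigmaCore_le M
  have hNM : normalizer (M : Set G) = M :=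
    Cfsg.Agent.Lib.Helper19.BG124.normalizer_eq_of_le hG hM hM1 le_rfl le_normalizer
  -- (C2) the fibres over `b`
  have hfix : ∀ b ∈ X, ∀ r ∈ R b, b ∈ sigmaCore (cj r (cj (y₀ b) M)) := by
    intro b hb r hr
    have hrC : r ∈ centralizer ({b} : Set G) := supportR_le_centralizer _ _ hr
    have hrb : r * b * r⁻¹ = b := by
      have := mem_centralizer_singleton.mp hrC
      rw [← this]; group
    rw [sigmaCore_cj]
    have h := conj_mem_cj (g := r) (hy₀ b hb)
    rwa [hrb] at h
  have hC2 : ∀ b ∈ X, (Finset.univ.filter (fun y => b ∈ sigmaCore (cj y M))).card =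
      Nat.card (R b) * Nat.card M := by
    intro b hb
    rw [← card_filter_mem (R b), ← card_filter_mem M, ← Finset.card_product]
    symm
    apply Finset.card_bij (fun (p : G × G) _ => p.1 * y₀ b * p.2)
    · rintro ⟨r, m⟩ hp
      simp only [Finset.mem_product, Finset.mem_filter, Finset.mem_univ, true_and] at hp ⊢
      obtain ⟨hr, hm⟩ := hp
      have h1 : cj (r * y₀ b * m) M = cj r (cj (y₀ b) M) := by
        rw [cj_mul, cj_eq_self_of_mem hm, cj_mul]
      rw [h1]
      exact hfix b hb r hr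
    · rintro ⟨r, m⟩ hp ⟨r', m'⟩ hp' heq
      simp only [Finset.mem_product, Finset.mem_filter, Finset.mem_univ, true_and] at hp hp' heq
      obtain ⟨hr, hm⟩ := hp
      obtain ⟨hr', hm'⟩ := hp'
      have h1 : cj r (cj (y₀ b) M) = cj r' (cj (y₀ b) M) := by
        have e1 : cj (r * y₀ b * m) M = cj r (cj (y₀ b) M) := by
          rw [cj_mul, cj_eq_self_of_mem hm, cj_mul]
        have e2 : cj (r' * y₀ b * m') M = cj r' (cj (y₀ b) M) := by
          rw [cj_mul, cj_eq_self_of_mem hm', cj_mul]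
        rw [← e1, ← e2, heq]
      have hb' : b ∈ cj r' (cj (y₀ b) M) := sigmaCore_le _ (hfix b hb r' hr')
      obtain ⟨r₀, -, huniq⟩ := regular_supportR hG h75 (isCoatom_cj hM _) (hy₀ b hb) (hX1 b hb) hb'
      have e3 : r = r₀ := huniq r ⟨hr, h1⟩
      have e4 : r' = r₀ := huniq r' ⟨hr', rfl⟩
      have e5 : r = r' := e3.trans e4.symm
      subst e5
      have e6 : m = m' := by
        have := mul_left_cancel heq
        exact this
      rw [e6]
    · intro y hy
      simp only [Finset.mem_filter, Finset.mem_univ, true_and] at hy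
      have hbM' : b ∈ cj (y * (y₀ b)⁻¹) (cj (y₀ b) M) := by
        rw [← cj_mul, inv_mul_cancel_right]
        exact sigmaCore_le _ hy
      obtain ⟨r, ⟨hr, hrc⟩, -⟩ :=
        regular_supportR hG h75 (isCoatom_cj hM _) (hy₀ b hb) (hX1 b hb) hbM'
      have h2 : cj (r * y₀ b) M = cj y M := by
        rw [cj_mul, hrc, ← cj_mul, inv_mul_cancel_right]
      have h3 : cj ((r * y₀ b)⁻¹ * y) M = M := by
        rw [cj_mul, ← h2, cj_inv_cj]
      have hm : (r * y₀ b)⁻¹ * y ∈ M := by
        have := cj_eq_self_iff.mp h3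
        rwa [hNM] at this
      refine ⟨(r, (r * y₀ b)⁻¹ * y), ?_, ?_⟩
      · simp only [Finset.mem_product, Finset.mem_filter, Finset.mem_univ, true_and]
        exact ⟨hr, hm⟩
      · simp only
        group
  -- (C3) double counting
  have hC3 := Finset.sum_card_bipartiteAbove_eq_sum_card_bipartiteBelow (s := X)
    (t := (Finset.univ : Finset G)) (r := fun b y => b ∈ sigmaCore (cj y M))
  have hL : ∑ b ∈ X, ((Finset.univ : Finset G).bipartiteAbove
      (fun b y => b ∈ sigmaCore (cj y M)) b).card = F.card * Nat.card M := by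
    rw [hFcard, Finset.sum_mul]
    apply Finset.sum_congr rfl
    intro b hb
    exact hC2 b hb
  have hRt : ∀ y ∈ (Finset.univ : Finset G), (X.bipartiteBelow
      (fun b y => b ∈ sigmaCore (cj y M)) y).card = Nat.card W - 1 := by
    intro y _
    have h1 : X.bipartiteBelow (fun b y => b ∈ sigmaCore (cj y M)) y =
        (Finset.univ.filter (fun b => b ∈ sigmaCore (cj y M))).erase 1 := by
      ext b
      simp only [Finset.bipartiteBelow, hX, Finset.mem_filter, Finset.mem_univ, true_and,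
        Finset.mem_erase]
      constructor
      · rintro ⟨⟨hb1, -⟩, hb⟩
        exact ⟨hb1, hb⟩
      · rintro ⟨hb1, hb⟩
        exact ⟨⟨hb1, y, hb⟩, hb⟩
    rw [h1, Finset.card_erase_of_mem (by simp), card_filter_mem, sigmaCore_cj,
      card_cj]
  rw [hL, Finset.sum_congr rfl hRt, Finset.sum_const, Finset.card_univ, smul_eq_mul] at hC3
  rw [hFeq, Set.ncard_coe_finset]
  have h4 : Nat.card M * M.index = Nat.card G := Subgroup.card_mul_index M
  rw [← Nat.card_eq_fintype_card, ← h4] at hC3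
  have hpos : 0 < Nat.card M := Nat.card_pos
  have h5 : Nat.card M * F.card = Nat.card M * ((Nat.card W - 1) * M.index) := by
    rw [mul_comm, hC3]; ring
  exact Nat.eq_of_mul_eq_mul_left hpos h5

end Cfsg.Agent.Lib.Helper10.BG145
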