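import Mathlib
import Cfsg.Prelude.Def_OddOrderLocal
import Cfsg.Agent.Lib.Helper10.BGLemR
import Cfsg.Agent.Lib.Helper68.BG1215a

/-!
# B&G Theorem 14.4 (S1432), armed on the statements of S1417, S1418, S1420, S1430, S1431
-/

set_option autoImplicit false
set_option linter.style.haveILetI false
set_option linter.unusedSectionVars false
set_option linter.unusedVariables false

namespace Cfsg.Agent.Lib.Helper10.BG14

open Subgroup Cfsg
open Cfsg.Agent.Lib.Helper33 (cj cj_def mem_cj mem_cj' card_cj cj_eq_self_iff conj_mem_cj)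
open Cfsg.Agent.Lib.Helper63
open Cfsg.Agent.Lib.Helper10.BG13
open Cfsg.Agent.Lib.Helper19.BG124 (sigmaHallIn uniqStmt sigmaCore_ne_bot)
open scoped Pointwise commutatorElement

universe u

/-- last part of the statement of S1420 -/
def Stmt1420d (G : Type u) [Group G] : Prop :=
  ∀ (M : Subgroup G), IsCoatom M → ∀ (E : Subgroup G), Cfsg.IsComplIn E (Cfsg.sigmaCore M) M →
    ∀ x ∈ M, x ≠ 1 → (∀ p : ℕ, p.Prime → p ∣ orderOf x → p ∈ Cfsg.tau2 M) →
      x ∈ Cfsg.sigmaHat M →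
      Subgroup.centralizer ({x} : Set G) ≤ M ∧
        ∀ L : Subgroup G, IsCoatom L → Subgroup.centralizer ({x} : Set G) ≤ L → L = M

/-- statement of S1430 -/
def Stmt1430 (G : Type u) [Group G] : Prop :=
  ∀ (M : Subgroup G), IsCoatom M → ∀ (K : Subgroup G), Cfsg.IsPiHallOf (Cfsg.kappa M) K M →
    K ≠ ⊥ →
    (∀ k ∈ K, k ≠ 1 → Cfsg.sigmaCore M ⊓ Subgroup.centralizer ({k} : Set G) =
        (Cfsg.sigmaCore M ⊓ Subgroup.centralizer (K : Set G))) ∧
      (∃ U : Subgroup G, IsMulCommutative U ∧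
        Cfsg.IsPiHallOf {q | q.Prime ∧ q ∉ Cfsg.kappa M ∧ q ∉ Cfsg.sigma M} U M ∧
        K ≤ Subgroup.normalizer (U : Set G) ∧
        ∀ k ∈ K, k ≠ 1 → U ⊓ Subgroup.centralizer ({k} : Set G) = ⊥) ∧
      ∀ X : Subgroup G, X ≤ K → (Nat.card X).Prime →
        M ⊓ Subgroup.normalizer (X : Set G) =
            K ⊔ (Cfsg.sigmaCore M ⊓ Subgroup.centralizer (K : Set G)) ∧
          M ⊓ Subgroup.normalizer (K : Set G) =
            K ⊔ (Cfsg.sigmaCore M ⊓ Subgroup.centralizer (K : Set G)) ∧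
          ∀ Mstar : Subgroup G, IsCoatom Mstar → Subgroup.normalizer (X : Set G) ≤ Mstar →
            X ≤ Cfsg.sigmaCore Mstar

/-- first part of the statement of S1431 -/
def Stmt1431a (G : Type u) [Group G] : Prop :=
  ∀ (M : Subgroup G), IsCoatom M → ∀ (K : Subgroup G), Cfsg.IsPiHallOf (Cfsg.kappa M) K M →
    K ≠ ⊥ →
    ∀ g : G, g ∉ M → (Cfsg.sigmaCore M ⊓ Subgroup.centralizer (K : Set G)) ⊓
      M.map (MulAut.conj g).toMonoidHom = ⊥

variable {G : Type u} [Group G]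

/-- products in the join of two elementwise commuting subgroups -/
theorem exists_mul_of_mem_sup {H N : Subgroup G} (hc : ∀ a ∈ H, ∀ b ∈ N, a * b = b * a) {y : G}
    (hy : y ∈ H ⊔ N) : ∃ a ∈ H, ∃ b ∈ N, y = a * b := by
  let T : Subgroup G :=
    { carrier := {y | ∃ a ∈ H, ∃ b ∈ N, y = a * b}
      one_mem' := ⟨1, H.one_mem, 1, N.one_mem, (one_mul 1).symm⟩
      mul_mem' := by
        rintro _ _ ⟨a, ha, b, hb, rfl⟩ ⟨a', ha', b', hb', rfl⟩
        refine ⟨a * a', H.mul_mem ha ha', b * b', N.mul_mem hb hb', ?_⟩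
        have h := hc a' ha' b hb
        calc a * b * (a' * b') = a * (b * a') * b' := by group
          _ = a * (a' * b) * b' := by rw [h]
          _ = a * a' * (b * b') := by group
      inv_mem' := by
        rintro _ ⟨a, ha, b, hb, rfl⟩
        refine ⟨a⁻¹, H.inv_mem ha, b⁻¹, N.inv_mem hb, ?_⟩
        have h := hc a ha b hb
        rw [mul_inv_rev]
        have h2 : a⁻¹ * b⁻¹ = (b * a)⁻¹ := by group
        have h3 : b⁻¹ * a⁻¹ = (a * b)⁻¹ := by group
        rw [h3, h2, h] }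
  have hHT : H ≤ T := fun a ha => ⟨a, ha, 1, N.one_mem, (mul_one a).symm⟩
  have hNT : N ≤ T := fun b hb => ⟨1, H.one_mem, b, hb, (one_mul b).symm⟩
  exact (sup_le hHT hNT) hy

/-- a maximal subgroup `L` over `N_G(A)`, `A = E_{p²}`, has `p ∈ σ(L)` (from S1418(b)) -/
theorem mem_sigma_of_normalizer_le [Finite G] (hG : IsMinSimpleOddOrder G) (h18 : StmtR1418 G)
    {L A : Subgroup G} (hL : IsCoatom L) {p : ℕ} [hpf : Fact p.Prime]
    (hAel : IsElementaryAbelian p A) (hAc : Nat.card A = p ^ 2)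
    (hNL : normalizer (A : Set G) ≤ L) : p ∈ sigma L := by
  by_contra hpσ
  have pp : p.Prime := hpf.out
  have hAL : A ≤ L := le_normalizer.trans hNL
  have hσL := sigmaHallIn hG hL
  have hpτ : p ∈ tau2 L := by
    refine ⟨pp, hpσ, ?_, ?_⟩
    · by_contra h2
      exact hpσ (Cfsg.Agent.Lib.Helper23.alpha_subset_sigma hG (uniqStmt hG) hL ⟨pp, h2⟩)
    · intro h1
      have := BG10.card_le_of_pRankLE h1 hAL hAel
      rw [hAc, pow_one] at this
      nlinarith [pp.one_lt]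
  obtain ⟨EL, hEL⟩ := exists_isComplIn_sigmaCore hσL
  have hpN : ¬ p ∣ Nat.card (sigmaCore L) := fun h =>
    hpσ (Cfsg.Agent.Lib.Helper24.BG.mem_sigma_of_dvd_card_sigmaCore L pp h)
  obtain ⟨m, hm, hmA⟩ := Cfsg.Agent.Lib.Helper76.BGSigU.exists_conj_le_compl hEL hpN
    (BG10.isPGroup_of_elemAb hAel) hAL
  have hA'E : cj m⁻¹ A ≤ EL := by
    intro y hy
    obtain ⟨a, ha, rfl⟩ := mem_cj'.mp hy
    simpa using hmA a ha
  have hA'el : IsElementaryAbelian p (cj m⁻¹ A) :=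
    BG10.map_elemAb (MulAut.conj m⁻¹).toMonoidHom hAel
  have hA'c : Nat.card (cj m⁻¹ A) = p ^ 2 := by rw [card_cj]; exact hAc
  have h := (h18 L hL EL hEL p hpτ (cj m⁻¹ A) ⟨hA'E, hA'el, hA'c⟩).2.1.2.2
  apply h
  rw [Cfsg.Agent.Lib.Helper33.normalizer_cj]
  intro y hy
  obtain ⟨n, hn, rfl⟩ := mem_cj'.mp hy
  exact L.mul_mem (L.mul_mem (L.inv_mem hm) (hNL hn)) (by simpa using hm)

/-- two normal subgroups of `E` of coprime prime-power orders commute elementwise -/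
theorem comm_of_normal_coprime {E A B : Subgroup G} {p q : ℕ} [Fact p.Prime] [Fact q.Prime]
    (hpq : p ≠ q) (hA : IsPGroup p A) (hB : IsPGroup q B) (hAE : A ≤ E) (hBE : B ≤ E)
    (hEA : E ≤ normalizer (A : Set G)) (hEB : E ≤ normalizer (B : Set G)) :
    ∀ a ∈ A, ∀ b ∈ B, b * a = a * b := by
  have hAB : A ⊓ B = ⊥ := (IsPGroup.disjoint_of_ne p q hpq A B hA hB).eq_bot
  intro a ha b hb
  have h1 : b * a * b⁻¹ * a⁻¹ ∈ A :=
    A.mul_mem ((mem_normalizer_iff.mp (hEA (hBE hb)) a).mp ha) (A.inv_mem ha)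
  have h2 : b * a * b⁻¹ * a⁻¹ ∈ B := by
    have h3 : a * b⁻¹ * a⁻¹ ∈ B :=
      (mem_normalizer_iff.mp (hEB (hAE ha)) b⁻¹).mp (B.inv_mem hb)
    have h4 : b * a * b⁻¹ * a⁻¹ = b * (a * b⁻¹ * a⁻¹) := by group
    rw [h4]
    exact B.mul_mem hb h3
  have h5 : b * a * b⁻¹ * a⁻¹ ∈ A ⊓ B := ⟨h1, h2⟩
  rw [hAB, mem_bot] at h5
  calc b * a = b * a * b⁻¹ * a⁻¹ * (a * b) := by group
    _ = a * b := by rw [h5, one_mul]

theorem sylow_conj_mem {M : Type*} [Group M] [Finite M] {p : ℕ} [Fact p.Prime] (Q P : Sylow p M)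
    (g : M) (hg : g • Q = P) (z : M) (hz : z ∈ (Q : Subgroup M)) :
    g * z * g⁻¹ ∈ (P : Subgroup M) := by
  rw [← hg]
  rw [Sylow.smul_def]
  have h2 : MulAut.conj g • z ∈ MulAut.conj g • (Q : Subgroup M) :=
    Subgroup.smul_mem_pointwise_smul _ _ _ hz
  have h3 : ((MulAut.conj g • Q : Sylow p M) : Subgroup M) = MulAut.conj g • (Q : Subgroup M) := rfl
  rw [h3]
  simpa [MulAut.smul_def] using h2

section main

variable [Finite G]

/-- a prime divisor `p ∉ σ(M)` of the order of an element of `M` centralizing `x ∈ M_σ^#`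
lies in `κ(M)` or `τ₂(M)` -/
theorem prime_cases (hG : IsMinSimpleOddOrder G) {M : Subgroup G} (hM : IsCoatom M) {x x' : G}
    (hx : x ∈ sigmaCore M) (hx1 : x ≠ 1) (hx'M : x' ∈ M) (hcomm : x' * x = x * x') {p : ℕ}
    (hp : p.Prime) (hpd : p ∣ orderOf x') (hpσ : p ∉ sigma M) : p ∈ kappa M ∨ p ∈ tau2 M := by
  haveI : Fact p.Prime := ⟨hp⟩
  have hpM : p ∣ Nat.card M := by
    have h1 : orderOf (⟨x', hx'M⟩ : M) = orderOf x' := Subgroup.orderOf_mk x' hx'M
    exact hpd.trans (h1 ▸ orderOf_dvd_natCard _)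
  have h2 : PRankLE p 2 M := by
    by_contra h2
    exact hpσ (Cfsg.Agent.Lib.Helper23.alpha_subset_sigma hG (uniqStmt hG) hM ⟨hp, h2⟩)
  by_cases h1 : PRankLE p 1 M
  · left
    refine ⟨hp, hpM, hpσ, ?_⟩
    intro P
    have hpG : p ∣ Nat.card G := hpM.trans (Subgroup.card_subgroup_dvd_card M)
    have hp2 : p ≠ 2 := BG10.ne_two_of_dvd hG hpG
    constructor
    · apply Cfsg.Agent.Lib.Helper49.isCyclic_of_isPGroup_rankLEOne hp2 P.isPGroup'
      have hinj : PRankLE p 1 ↥(P : Subgroup M) :=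
        BG10.pRankLE_of_injective (P : Subgroup M).subtype (subtype_injective _) h1
      intro B hB hexp
      have := hinj B hB hexp
      rwa [pow_one] at this
    · set z : G := x' ^ (orderOf x' / p) with hz
      have hzo : orderOf z = p := orderOf_pow_orderOf_div (orderOf_pos x').ne' hpd
      have hzM : z ∈ M := M.pow_mem hx'M _
      have hzx : z * x = x * z := ((show Commute x' x from hcomm).pow_left _).eq
      have hZ : IsPGroup p (zpowers (⟨z, hzM⟩ : M)) := by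
        apply IsPGroup.of_card (n := 1)
        rw [Nat.card_zpowers, pow_one, Subgroup.orderOf_mk, hzo]
      obtain ⟨Q, hQ⟩ := hZ.exists_le_sylow
      obtain ⟨g, hg⟩ := MulAction.exists_smul_eq M Q P
      refine ⟨g * ⟨z, hzM⟩ * g⁻¹, sylow_conj_mem Q P g hg _ (hQ (mem_zpowers _)), ?_,
        (g : G) * x * (g : G)⁻¹, Cfsg.Agent.Lib.Helper24.BG.sigmaCore_conj_mem M g.2 hx, ?_, ?_⟩
      · intro h
        have h1 : (⟨z, hzM⟩ : M) = 1 := by
          have := congrArg (fun t => g⁻¹ * t * g) h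
          simpa [mul_assoc] using this
        have h2 : z = 1 := congrArg Subtype.val h1
        rw [h2, orderOf_one] at hzo
        exact hp.one_lt.ne hzo
      · intro h
        apply hx1
        have := congrArg (fun t => (g : G)⁻¹ * t * (g : G)) h
        simpa [mul_assoc] using this
      · show (g : G) * z * (g : G)⁻¹ * ((g : G) * x * (g : G)⁻¹) =
          (g : G) * x * (g : G)⁻¹ * ((g : G) * z * (g : G)⁻¹)
        calc (g : G) * z * (g : G)⁻¹ * ((g : G) * x * (g : G)⁻¹)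
            = (g : G) * (z * x) * (g : G)⁻¹ := by group
          _ = (g : G) * (x * z) * (g : G)⁻¹ := by rw [hzx]
          _ = (g : G) * x * (g : G)⁻¹ * ((g : G) * z * (g : G)⁻¹) := by group
  · right
    exact ⟨hp, hpσ, h2, h1⟩

/-- Case (a) of 14.4: some prime divisor of `o(x')` lies in `κ(M)` -/
theorem case_kappa (hG : IsMinSimpleOddOrder G) (h30 : Stmt1430 G) (h31 : Stmt1431a G)
    {M : Subgroup G} (hM : IsCoatom M) {x x' : G} (hx : x ∈ sigmaCore M) (hx1 : x ≠ 1)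
    (hx'M : x' ∈ M) (hcomm : x' * x = x * x')
    (hσ : ∀ p : ℕ, p.Prime → p ∣ orderOf x' → p ∉ sigma M) {p0 : ℕ} (hp0 : p0.Prime)
    (hp0d : p0 ∣ orderOf x') (hp0κ : p0 ∈ kappa M) :
    (∀ p : ℕ, p.Prime → p ∣ orderOf x' → p ∈ kappa M) ∧ centralizer ({x} : Set G) ≤ M := by
  haveI : Fact p0.Prime := ⟨hp0⟩
  have hMtop : M ≠ ⊤ := hM.1
  haveI hsolv : Group.IsSolvable ↥M := Cfsg.Agent.Lib.Helper23.isSolvable_of_ne_top hG hMtop
  set k : G := x' ^ (orderOf x' / p0) with hk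
  have hko : orderOf k = p0 := orderOf_pow_orderOf_div (orderOf_pos x').ne' hp0d
  have hkM : k ∈ M := M.pow_mem hx'M _
  have hk1 : k ≠ 1 := by
    intro h
    rw [h, orderOf_one] at hko
    exact hp0.one_lt.ne hko
  have hkx : k * x = x * k := ((show Commute x' x from hcomm).pow_left _).eq
  have hx'k : Commute x' k := (Commute.refl x').pow_right _
  obtain ⟨m, n, hmn, hcop, hmκ, hnκ⟩ :=
    Cfsg.Agent.Lib.Helper19.HallRel.pi_factorization (kappa M) (Nat.card M) Nat.card_pos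
  obtain ⟨K, hKM, hKc, hkK⟩ := Cfsg.Agent.Lib.Helper68.BG1215.hall_exists_ge (K := M) m n hmn hcop
    (A := zpowers k) (zpowers_le.mpr hkM) (by
      rw [Nat.card_zpowers, hko, Nat.Prime.coprime_iff_not_dvd hp0]
      intro h
      exact hnκ p0 hp0 h hp0κ)
  have hK : IsPiHallOf (kappa M) K M := by
    refine ⟨hKM, fun p hp hd => hmκ p hp (hKc ▸ hd), ?_⟩
    intro p hp hpκ hd
    have h1 : Nat.card K * K.relIndex M = Nat.card M := by
      have := Subgroup.relIndex_mul_relIndex (⊥ : Subgroup G) K M bot_le hKM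
      rwa [Subgroup.relIndex_bot_left, Subgroup.relIndex_bot_left] at this
    have hm0 : 0 < m := by
      rcases Nat.eq_zero_or_pos m with h | h
      · exfalso
        have : Nat.card M = 0 := by rw [hmn, h, zero_mul]
        exact (Nat.card_pos (α := M)).ne' this
      · exact h
    have h2 : K.relIndex M = n := by
      apply Nat.eq_of_mul_eq_mul_left hm0
      rw [← hKc, h1, hmn, hKc]
    exact hnκ p hp (h2 ▸ hd) hpκ
  have hkK' : k ∈ K := hkK (mem_zpowers k)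
  have hK1 : K ≠ ⊥ := fun h => hk1 (by rw [h, mem_bot] at hkK'; exact hkK')
  obtain ⟨h30a, -, h30c⟩ := h30 M hM K hK hK1
  have hxK : x ∈ sigmaCore M ⊓ centralizer (K : Set G) := by
    rw [← h30a k hkK' hk1]
    refine ⟨hx, ?_⟩
    show x ∈ centralizer ({k} : Set G)
    rw [mem_centralizer_iff]
    intro h hh
    rw [Set.mem_singleton_iff] at hh
    rw [hh]
    exact hkx
  constructor
  · intro q hq hqd
    have hXc : (Nat.card (zpowers k)).Prime := by rw [Nat.card_zpowers, hko]; exact hp0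
    have h3 := (h30c (zpowers k) (zpowers_le.mpr hkK') hXc).1
    have hx'N : x' ∈ M ⊓ normalizer ((zpowers k : Subgroup G) : Set G) := by
      refine ⟨hx'M, ?_⟩
      apply mem_normalizer_of_conj_mem
      intro a ha
      obtain ⟨j, rfl⟩ := mem_zpowers_iff.mp ha
      have hc : Commute x' (k ^ j) := hx'k.zpow_right j
      have h4 : x' * k ^ j * x'⁻¹ = k ^ j := by rw [hc.eq, mul_inv_cancel_right]
      rw [h4]
      exact ha
    rw [h3] at hx'N
    set z : G := x' ^ (orderOf x' / q) with hz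
    have hzo : orderOf z = q := orderOf_pow_orderOf_div (orderOf_pos x').ne' hqd
    have hzmem : z ∈ K ⊔ (sigmaCore M ⊓ centralizer (K : Set G)) := pow_mem hx'N _
    obtain ⟨a, ha, b, hb, hzab⟩ := exists_mul_of_mem_sup (H := K)
      (N := sigmaCore M ⊓ centralizer (K : Set G))
      (fun a ha b hb => (mem_centralizer_iff.mp hb.2 a ha)) hzmem
    by_contra hqκ
    have hqK : ¬ q ∣ Nat.card K := fun h => hqκ (hK.2.1 q hq h)
    have hab : Commute a b := mem_centralizer_iff.mp hb.2 a ha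
    have h4 : z ^ Nat.card K = b ^ Nat.card K := by
      rw [hzab, hab.mul_pow]
      have h5 : a ^ Nat.card K = 1 := by
        have := pow_card_eq_one' (G := K) (x := ⟨a, ha⟩)
        exact congrArg Subtype.val this
      rw [h5, one_mul]
    have h5 : z ^ Nat.card K ∈ sigmaCore M := by
      rw [h4]
      exact (sigmaCore M).pow_mem hb.1 _
    have h6 : z ^ Nat.card K ≠ 1 := by
      intro h
      have := orderOf_dvd_of_pow_eq_one h
      rw [hzo] at this
      exact hqK this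
    have h7 : orderOf (z ^ Nat.card K) = q := by
      haveI : Fact q.Prime := ⟨hq⟩
      apply orderOf_eq_prime _ h6
      rw [← pow_mul, mul_comm, pow_mul, ← hzo, pow_orderOf_eq_one, one_pow]
    have h8 : q ∣ Nat.card (sigmaCore M) := by
      rw [← h7]
      have := orderOf_dvd_natCard (⟨z ^ Nat.card K, h5⟩ : sigmaCore M)
      rwa [Subgroup.orderOf_mk] at this
    exact hσ q hq hqd (Cfsg.Agent.Lib.Helper24.BG.mem_sigma_of_dvd_card_sigmaCore M hq h8)
  · intro g hg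
    by_contra hgM
    have h := h31 M hM K hK hK1 g hgM
    have hgx : g * x = x * g := (mem_centralizer_iff.mp hg x rfl).symm
    have hmem : x ∈ (sigmaCore M ⊓ centralizer (K : Set G)) ⊓
        M.map (MulAut.conj g).toMonoidHom := by
      refine ⟨hxK, x, Cfsg.Agent.Lib.Helper47.BG11.sigmaCore_le M hx, ?_⟩
      show g * x * g⁻¹ = x
      rw [hgx, mul_inv_cancel_right]
    rw [h, mem_bot] at hmem
    exact hx1 hmem

/-- Case (b) of 14.4: all prime divisors of `o(x')` lie in `τ₂(M)` -/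
theorem case_tau2 (hG : IsMinSimpleOddOrder G) (h17 : StmtR1417 G) (h18 : StmtR1418 G)
    (h20 : Stmt1420d G) {M : Subgroup G} (hM : IsCoatom M) {x x' : G} (hx : x ∈ sigmaCore M)
    (hx1 : x ≠ 1) (hx'M : x' ∈ M) (hx'1 : x' ≠ 1) (hcomm : x' * x = x * x')
    (hσ : ∀ p : ℕ, p.Prime → p ∣ orderOf x' → p ∉ sigma M)
    (hτ : ∀ p : ℕ, p.Prime → p ∣ orderOf x' → p ∈ tau2 M) :
    (∃ L : Subgroup G, IsCoatom L ∧ ∀ p : ℕ, p.Prime → p ∣ orderOf x' → p ∈ sigma L) ∧
      (centralizer ({x'} : Set G) ≤ M ∧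
        ∀ L : Subgroup G, IsCoatom L → centralizer ({x'} : Set G) ≤ L → L = M) := by
  have hσM := sigmaHallIn hG hM
  obtain ⟨E0, hE0⟩ := exists_isComplIn_sigmaCore hσM
  have hcop : (orderOf x').Coprime (Nat.card (sigmaCore M)) := by
    by_contra hne
    obtain ⟨q, hq, hqd⟩ := Nat.exists_prime_and_dvd hne
    exact hσ q hq (hqd.trans (Nat.gcd_dvd_left _ _))
      (Cfsg.Agent.Lib.Helper24.BG.mem_sigma_of_dvd_card_sigmaCore M hq
        (hqd.trans (Nat.gcd_dvd_right _ _)))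
  obtain ⟨E, hE, hx'E⟩ := Cfsg.Agent.Lib.Helper96.BG127.exists_compl_mem hE0 hx'M hcop
  refine ⟨?_, h20 M hM E hE x' hx'M hx'1 hτ ⟨hx'M, x, hx, hx1, hcomm⟩⟩
  have ho1 : orderOf x' ≠ 1 := by
    rw [Ne, orderOf_eq_one_iff]
    exact hx'1
  obtain ⟨p0, hp0, hp0d⟩ := Nat.exists_prime_and_dvd ho1
  haveI : Fact p0.Prime := ⟨hp0⟩
  obtain ⟨A0, hA0E, hA0el, hA0c⟩ :=
    Cfsg.Agent.Lib.Helper96.BG127.exists_elemAb_sq_le_compl hE (hτ p0 hp0 hp0d)
  have h18A0 := h18 M hM E hE p0 (hτ p0 hp0 hp0d) A0 ⟨hA0E, hA0el, hA0c⟩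
  have hA0bot : A0 ≠ ⊥ := by
    intro h
    have h1 : Nat.card A0 = 1 := by rw [h]; exact Subgroup.card_bot
    rw [hA0c] at h1
    nlinarith [hp0.one_lt]
  have hA0top : A0 ≠ ⊤ := fun h => hM.1 (eq_top_iff.mpr (h ▸ hA0E.trans hE.1))
  rcases eq_top_or_exists_le_coatom (normalizer (A0 : Set G)) with h | ⟨L, hL, hNL⟩
  · exact absurd h (BG10.normalizer_ne_top hG hA0bot hA0top)
  refine ⟨L, hL, ?_⟩
  have hp0L : p0 ∈ sigma L := mem_sigma_of_normalizer_le hG h18 hL hA0el hA0c hNL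
  have hσL := sigmaHallIn hG hL
  have hA0σ : A0 ≤ sigmaCore L :=
    Cfsg.Agent.Lib.Helper47.BG11.le_sigmaCore_of_sigma hσL hp0L (le_normalizer.trans hNL)
      (BG10.isPGroup_of_elemAb hA0el)
  have hEL : E ≤ L := h18A0.1.1.trans hNL
  intro q hq hqd
  haveI : Fact q.Prime := ⟨hq⟩
  by_contra hqL
  have hqp0 : q ≠ p0 := fun h => hqL (h ▸ hp0L)
  obtain ⟨Aq, hAqE, hAqel, hAqc⟩ :=
    Cfsg.Agent.Lib.Helper96.BG127.exists_elemAb_sq_le_compl hE (hτ q hq hqd)
  have h18Aq := h18 M hM E hE q (hτ q hq hqd) Aq ⟨hAqE, hAqel, hAqc⟩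
  have hAqL : Aq ≤ L := hAqE.trans hEL
  have hqτL : q ∈ tau2 L := by
    refine ⟨hq, hqL, ?_, ?_⟩
    · by_contra h2
      exact hqL (Cfsg.Agent.Lib.Helper23.alpha_subset_sigma hG (uniqStmt hG) hL ⟨hq, h2⟩)
    · intro h1
      have := BG10.card_le_of_pRankLE h1 hAqL hAqel
      rw [hAqc, pow_one] at this
      nlinarith [hq.one_lt]
  have h17L := (h17 L hL q hqτL Aq ⟨hAqL, hAqel, hAqc⟩).2.2.2.1
  have hcomm' := comm_of_normal_coprime (p := p0) (q := q) hqp0.symm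
    (BG10.isPGroup_of_elemAb hA0el) (BG10.isPGroup_of_elemAb hAqel) hA0E hAqE h18A0.1.1 h18Aq.1.1
  apply hA0bot
  rw [eq_bot_iff, ← h17L]
  intro a ha
  refine ⟨hA0σ ha, ?_⟩
  show a ∈ centralizer (Aq : Set G)
  rw [mem_centralizer_iff]
  intro b hb
  exact hcomm' a ha b hb

/-- **B&G Theorem 14.4** (S1432) from the statements of S1417, S1418, S1420, S1430, S1431 -/
theorem bg14_4 (hG : IsMinSimpleOddOrder G) (h17 : StmtR1417 G) (h18 : StmtR1418 G)
    (h20 : Stmt1420d G) (h30 : Stmt1430 G) (h31 : Stmt1431a G)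
    (M : Subgroup G) (hM : IsCoatom M) (x : G) (hx : x ∈ Cfsg.sigmaCore M) (hx1 : x ≠ 1) (x' : G)
    (hx' : x' ∈ M ⊓ Subgroup.centralizer ({x} : Set G)) (hx'1 : x' ≠ 1)
    (hσ : ∀ p : ℕ, p.Prime → p ∣ orderOf x' → p ∉ Cfsg.sigma M) :
    ((∀ p : ℕ, p.Prime → p ∣ orderOf x' → p ∈ Cfsg.kappa M) ∧
        Subgroup.centralizer ({x} : Set G) ≤ M) ∨
      ((∀ p : ℕ, p.Prime → p ∣ orderOf x' → p ∈ Cfsg.tau2 M) ∧
        (∃ L : Subgroup G, IsCoatom L ∧ ∀ p : ℕ, p.Prime → p ∣ orderOf x' → p ∈ Cfsg.sigma L) ∧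
        (Subgroup.centralizer ({x'} : Set G) ≤ M ∧
          ∀ L : Subgroup G, IsCoatom L → Subgroup.centralizer ({x'} : Set G) ≤ L → L = M)) := by
  have hx'M : x' ∈ M := hx'.1
  have hcomm : x' * x = x * x' := (mem_centralizer_iff.mp hx'.2 x rfl).symm
  by_cases hκ : ∃ p0 : ℕ, p0.Prime ∧ p0 ∣ orderOf x' ∧ p0 ∈ kappa M
  · obtain ⟨p0, hp0, hp0d, hp0κ⟩ := hκ
    left
    exact case_kappa hG h30 h31 hM hx hx1 hx'M hcomm hσ hp0 hp0d hp0κ
  · right
    push Not at hκ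
    have hτ : ∀ p : ℕ, p.Prime → p ∣ orderOf x' → p ∈ tau2 M := by
      intro p hp hpd
      rcases prime_cases hG hM hx hx1 hx'M hcomm hp hpd (hσ p hp hpd) with h | h
      · exact absurd h (hκ p hp hpd)
      · exact h
    exact ⟨hτ, case_tau2 hG h17 h18 h20 hM hx hx1 hx'M hx'1 hcomm hσ hτ⟩

end main

end Cfsg.Agent.Lib.Helper10.BG14
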