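import Mathlib
import Cfsg.Prelude.Def_OddOrderLocal
import Cfsg.Agent.Lib.Helper10.BG145b
import Cfsg.Agent.Lib.Helper56.BG141
import Cfsg.Agent.S1432

/-!
# B&G Theorem 14.4(b): uniqueness of the maximal subgroup over `C_G(x)` and `N_σ = N_F`
-/

set_option autoImplicit false
set_option linter.style.haveILetI false
set_option linter.unusedSectionVars false
set_option linter.unusedVariables false

namespace Cfsg.Agent.Lib.Helper10.BG145

open Subgroup Cfsg
open Cfsg.Agent.Lib.Helper33 (cj cj_def mem_cj mem_cj' card_cj cj_eq_self_iff conj_mem_cj cj_mul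
  cj_eq_self_of_mem cj_one cj_inv_cj)
open Cfsg.Agent.Lib.Helper10.BG13 (sigmaCore_le sigmaCore_conj_mem')
open Cfsg.Agent.Lib.Helper10.BG144T

universe u

variable {G : Type u} [Group G] [Finite G]

/-- the context together with the `τ₂`-prime -/
theorem exists_ctx2 (hG : IsMinSimpleOddOrder G) {M : Subgroup G} (hM : IsCoatom M) {x : G}
    (hx : x ∈ sigmaCore M) (hx1 : x ≠ 1) : ∃ L : Subgroup G, Ctx M x L ∧
      (L ≠ M → ∃ q : ℕ, q.Prime ∧ q ∣ orderOf x ∧ q ∈ tau2 L) := by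
  classical
  have hxM : x ∈ M := sigmaCore_le M hx
  have ho1 : orderOf x ≠ 1 := fun h => hx1 (orderOf_eq_one_iff.mp h)
  have ho0 : orderOf x ≠ 0 := (orderOf_pos x).ne'
  set p := (orderOf x).minFac with hp_def
  have hpp : p.Prime := Nat.minFac_prime ho1
  haveI : Fact p.Prime := ⟨hpp⟩
  have hpx : p ∣ orderOf x := Nat.minFac_dvd _
  have hpσ : p ∈ sigma M := sigma_of_mem_sigmaCore hG hM hx hpp hpx
  set x0 := x ^ (orderOf x / p) with hx0
  have hox0 : orderOf x0 = p := orderOf_pow_orderOf_div ho0 hpx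
  set X0 : Subgroup G := zpowers x0 with hX0
  have hX0c : Nat.card X0 = p := by rw [hX0, Nat.card_zpowers, hox0]
  have hX0p : IsPGroup p X0 := IsPGroup.of_card (n := 1) (by rw [hX0c, pow_one])
  have hX01 : X0 ≠ ⊥ := by
    intro h
    rw [h, Subgroup.card_bot] at hX0c
    exact hpp.one_lt.ne hX0c
  have hX0M : X0 ≤ M := by
    rw [hX0, zpowers_le]
    exact M.pow_mem hxM _
  have hX0top : X0 ≠ ⊤ := fun h => hM.1 (top_le_iff.mp (h ▸ hX0M))
  have hCX : centralizer ({x} : Set G) ≤ centralizer (X0 : Set G) := by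
    intro c hc
    have hcx : x * c = c * x := mem_centralizer_singleton.mp hc
    rw [mem_centralizer_iff]
    intro y hy
    obtain ⟨k, rfl⟩ := mem_zpowers_iff.mp hy
    have h1 : Commute x c := hcx
    have h2 : Commute (x ^ (orderOf x / p)) c := h1.pow_left _
    exact (h2.zpow_left k).eq
  have hN : normalizer (X0 : Set G) ≠ ⊤ :=
    Cfsg.Agent.Lib.Helper63.BG10.normalizer_ne_top hG hX01 hX0top
  obtain ⟨L, hL, hNL⟩ := (eq_top_or_exists_le_coatom _).resolve_left hN
  have hCL0 : centralizer (X0 : Set G) ≤ L :=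
    (Subgroup.centralizer_le_normalizer (X0 : Set G)).trans hNL
  have h78 : Cfsg.Agent.Lib.Helper70.BG14.Stmt1378b G := (Cfsg.Agent.S1378.result hG).2
  refine ⟨L, ⟨hL, hCX.trans hCL0, ?_, ?_⟩, ?_⟩
  · intro g hg
    have h1 : X0.map (MulAut.conj g).toMonoidHom ≤ M := by
      rintro _ ⟨y, hy, rfl⟩
      obtain ⟨k, rfl⟩ := mem_zpowers_iff.mp hy
      have h2 : (MulAut.conj g).toMonoidHom (x0 ^ k) =
          (g * x * g⁻¹) ^ ((orderOf x / p : ℕ) * k : ℤ) := by
        simp only [MulEquiv.toMonoidHom_eq_coe, MonoidHom.coe_coe, MulAut.conj_apply, hx0]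
        rw [zpow_mul, zpow_natCast, conj_pow, conj_zpow]
      rw [h2]
      exact M.zpow_mem hg _
    obtain ⟨m, hm, c, hc, hgc⟩ :=
      (Cfsg.Agent.S1404.result hG M hM p hpσ X0 hX0p hX01 hX0M).1 g h1
    exact ⟨m, hm, c, hCL0 hc, hgc⟩
  · by_cases hne : L = M
    · exact Or.inl hne
    · right
      obtain ⟨hτ, hcompl, A, hAML, hAe, hAc, -⟩ :=
        Cfsg.Agent.Lib.Helper70.BG14.tau2_of_sigma_normalizer hG h78 hM hL hne hpσ hX0p hX01
          hX0M hNL
      refine ⟨hne, hcompl, ?_, ?_⟩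
      · intro s hsM hsL
        obtain ⟨g, hg⟩ := h78 M L hM hL ⟨s, hsM, hsL⟩
        apply hτ.2.1
        have h3 : cj g⁻¹ L = M := by
          rw [hg, ← cj_def]
          exact Cfsg.Agent.Lib.Helper33.cj_inv_cj g M
        have h4 : p ∈ sigma (cj g⁻¹ L) := by rw [h3]; exact hpσ
        exact Cfsg.Agent.Lib.Helper32.BG12.mem_sigma_of_mem_sigma_cj h4
      · exact (Cfsg.Agent.S1417.result hG L hL p hτ A
          ⟨hAML.trans inf_le_right, hAe, hAc⟩).1
  · intro hne
    obtain ⟨hτ, -⟩ :=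
      Cfsg.Agent.Lib.Helper70.BG14.tau2_of_sigma_normalizer hG h78 hM hL hne hpσ hX0p hX01
        hX0M hNL
    exact ⟨p, hpp, hpx, hτ⟩

/-- a nilpotent `M_σ` equals `M_F` -/
theorem sigmaCore_eq_fittingHallOf (hG : IsMinSimpleOddOrder G) {L : Subgroup G}
    (hL : IsCoatom L) (hnil : Group.IsNilpotent ↥(sigmaCore L)) :
    sigmaCore L = fittingHallOf L := by
  apply le_antisymm _ (fittingHallOf_le_sigmaCore hG hL)
  unfold fittingHallOf sigmaCore
  apply Subgroup.map_mono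
  unfold fittingHall
  apply le_sSup
  have hHall := (Cfsg.Agent.S1350.result hG L hL).1
  refine ⟨inferInstance, ?_, ?_⟩
  · -- nilpotency transfers along `piCore ≃ sigmaCore`
    have e : ↥(piCore (sigma L) ↥L) ≃* ↥(sigmaCore L) :=
      (piCore (sigma L) ↥L).equivMapOfInjective L.subtype L.subtype_injective
    exact (Group.isNilpotent_congr e).mpr hnil
  · -- Hall
    have hc : Nat.card ↥(piCore (sigma L) ↥L) = Nat.card ↥(sigmaCore L) :=
      (Subgroup.card_subtype L (piCore (sigma L) ↥L)).symm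
    have hi : (piCore (sigma L) ↥L).index = (sigmaCore L).relIndex L := by
      have := Subgroup.relIndex_map_map_of_injective (piCore (sigma L) ↥L) (⊤ : Subgroup ↥L)
        L.subtype_injective
      rw [Subgroup.relIndex_top_right] at this
      rw [← this]
      unfold sigmaCore
      congr 1
      rw [← MonoidHom.range_eq_map, Subgroup.range_subtype]
    rw [hc, hi]
    apply Nat.coprime_of_dvd
    intro k hk hk1 hk2
    exact hHall.2.2 k hk (hHall.2.1 k hk hk1) hk2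

/-- **B&G 14.4(b)**: `Uniq75` holds. -/
theorem uniq75 (hG : IsMinSimpleOddOrder G) : Uniq75 G := by
  intro M hM x hx hx1 hCM
  obtain ⟨L, c, hq⟩ := exists_ctx2 hG hM hx hx1
  have hxM : x ∈ M := sigmaCore_le M hx
  have hne : L ≠ M := fun h => hCM (h ▸ c.hCL)
  obtain ⟨q, hqp, hqx, hqτ⟩ := hq hne
  obtain ⟨-, hcompl, hdisj, hnil⟩ := c.hcase.resolve_left hne
  have hxL : x ∈ L := c.hCL (self_mem_centralizer x)
  -- `R = C_{L_σ}(x) ≠ 1`
  have hR1 : sigmaCore L ⊓ centralizer ({x} : Set G) ≠ ⊥ := by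
    intro h
    apply hCM
    intro g hg
    obtain ⟨a, ha, b, hb, hgab⟩ := (c.isComplIn hne hxM).2.2.2 g hg
    rw [h, Subgroup.mem_bot] at hb
    rw [hgab, hb, mul_one]
    exact ha.1
  obtain ⟨r, hr, hr1⟩ : ∃ r ∈ sigmaCore L ⊓ centralizer ({x} : Set G), r ≠ 1 := by
    by_contra hcon
    push Not at hcon
    exact hR1 ((Subgroup.eq_bot_iff_forall _).mpr hcon)
  have hxr : x ∈ L ⊓ centralizer ({r} : Set G) :=
    ⟨hxL, mem_centralizer_singleton.mpr (mem_centralizer_singleton.mp hr.2).symm⟩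
  have hσx : ∀ p : ℕ, p.Prime → p ∣ orderOf x → p ∉ sigma L :=
    fun p hp hpx hpL => hdisj p (sigma_of_mem_sigmaCore hG hM hx hp hpx) hpL
  rcases Cfsg.Agent.S1432.result hG L c.hL r hr.1 hr1 x hxr hx1 hσx with
    ⟨hκ, -⟩ | ⟨-, -, hCL, huniq⟩
  · exfalso
    have h1 := hκ q hqp hqx
    have h2 : PRankLE q 1 ↥L :=
      Cfsg.Agent.Lib.Helper56.BG141.pRankLE_one_of_sylow_cyclic hqp (fun P => (h1.2.2.2 P).1)
    exact hqτ.2.2.2 h2
  · exact ⟨L, ⟨c.hL, c.hCL⟩, huniq, sigmaCore_eq_fittingHallOf hG c.hL hnil⟩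

end Cfsg.Agent.Lib.Helper10.BG145
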