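import Mathlib
import Cfsg.Prelude.Def_OddOrderLocal
import Cfsg.Agent.Lib.Helper62.BG13K
import Cfsg.Agent.Lib.Helper24.SylowInv
import Cfsg.Agent.Lib.Helper24.InvCompl
import Cfsg.Agent.Lib.Helper24.FpfConj
import Cfsg.Agent.Lib.Helper32.Rank2Aut
import Cfsg.Agent.Lib.Helper33.SylowSub
import Cfsg.Agent.Lib.Helper10.BGLemR

/-!
# B&G Lemma 13.12: pure group theory
-/

set_option autoImplicit false
set_option linter.style.haveILetI false
set_option linter.unusedSectionVars false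
set_option linter.unusedVariables false

namespace Cfsg.Agent.Lib.Helper10.BG1312

open Subgroup Cfsg
open Cfsg.Agent.Lib.Helper33 (cj cj_def mem_cj mem_cj' card_cj cj_eq_self_iff conj_mem_cj)
open Cfsg.Agent.Lib.Helper62.BG13K
open Cfsg.Agent.Lib.Helper24.FpfConj (normAut conjOn conjOn_coe)
open scoped commutatorElement

universe u

variable {G : Type u} [Group G] [Finite G]

/-- **(A1)** a `q`-group `A` normalized by a `q'`-subgroup `P` of `N`, where `N` has a normal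
`q`-complement and is normalized by `A`: then `A` and `P` commute. -/
theorem comm_of_npc {q : ℕ} [Fact q.Prime] {N O A P : Subgroup G} (hO : NpcIn q O N)
    (hAN : A ≤ normalizer (N : Set G)) (hPN : P ≤ N) (hPq : (Nat.card P).Coprime q)
    (hA : IsPGroup q A) (hPA : P ≤ normalizer (A : Set G)) :
    ∀ a ∈ A, ∀ x ∈ P, a * x = x * a := by
  intro a ha x hx
  have hPO : P ≤ O := hO.le_of_coprime hPN hPq
  have hcjN : cj a P ≤ N := by
    intro y hy
    obtain ⟨z, hz, rfl⟩ := mem_cj'.mp hy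
    exact (mem_normalizer_iff.mp (hAN ha) z).mp (hPN hz)
  have hcjO : cj a P ≤ O := hO.le_of_coprime hcjN (by rw [card_cj]; exact hPq)
  have h1 : a * x * a⁻¹ * x⁻¹ ∈ O :=
    O.mul_mem (hcjO (mem_cj'.mpr ⟨x, hx, rfl⟩)) (O.inv_mem (hPO hx))
  have h2 : a * x * a⁻¹ * x⁻¹ ∈ A := by
    have h3 : x * a⁻¹ * x⁻¹ ∈ A := (mem_normalizer_iff.mp (hPA hx) a⁻¹).mp (A.inv_mem ha)
    have h4 : a * x * a⁻¹ * x⁻¹ = a * (x * a⁻¹ * x⁻¹) := by group
    rw [h4]; exact A.mul_mem ha h3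
  have hAO : A ⊓ O = ⊥ := inf_eq_bot_of_coprime hA hO.2.2.1
  have h5 : a * x * a⁻¹ * x⁻¹ = 1 := by
    have : a * x * a⁻¹ * x⁻¹ ∈ A ⊓ O := ⟨h2, h1⟩
    rwa [hAO, mem_bot] at this
  calc a * x = (a * x * a⁻¹ * x⁻¹) * x * a := by group
    _ = x * a := by rw [h5, one_mul]

/-- **(A2)** Frattini: if `P ≤ E` has prime order `p` not dividing `|E'|`, then
`E = C_E(P) E'`. -/
theorem le_cent_sup_commutator {p : ℕ} [hp : Fact p.Prime] {E P : Subgroup G} (hPE : P ≤ E)
    (hP : Nat.card P = p) (hpE : ¬ p ∣ Nat.card ↥⁅E, E⁆) :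
    E ≤ (E ⊓ centralizer (P : Set G)) ⊔ ⁅E, E⁆ := by
  set D : Subgroup G := ⁅E, E⁆ with hD
  have hDE : D ≤ E := Subgroup.commutator_le_self E
  have hPp : IsPGroup p P := IsPGroup.of_card (n := 1) (by rw [hP, pow_one])
  have hEnD : E ≤ normalizer (D : Set G) := by
    intro e he
    apply Cfsg.Agent.Lib.Helper10.BG13.mem_normalizer_of_conj_mem
    intro d hd
    have h1 : e * d * e⁻¹ = ⁅e, d⁆ * d := by rw [commutatorElement_def]; group
    rw [h1]
    exact D.mul_mem (Subgroup.commutator_mem_commutator he (hDE hd)) hd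
  have hPD : P ⊓ D = ⊥ := by
    apply inf_eq_bot_of_coprime hPp
    exact (Nat.Coprime.symm ((Nat.Prime.coprime_iff_not_dvd hp.out).mpr hpE))
  have hPab : ∀ x ∈ P, ∀ y ∈ P, x * y = y * x := by
    haveI : Fact (Nat.card P).Prime := ⟨by rw [hP]; exact hp.out⟩
    haveI : IsCyclic P := isCyclic_of_prime_card (p := Nat.card P) rfl
    intro x hx y hy
    have h := (IsCyclic.commGroup (α := P)).mul_comm ⟨x, hx⟩ ⟨y, hy⟩
    exact congrArg Subtype.val h
  set T : Subgroup G := P ⊔ D with hT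
  have hPT : P ≤ T := le_sup_left
  have hTE : T ≤ E := sup_le hPE hDE
  have hcardT : Nat.card T = p * Nat.card D := by
    rw [hT, card_sup_eq_mul' P D (hPE.trans hEnD) hPD, hP]
  have hPi : ¬ p ∣ P.relIndex T := by
    have h2 := Cfsg.Agent.Lib.Helper24.relIndex_mul_card' hPT
    rw [hcardT, hP] at h2
    have h3 : P.relIndex T = Nat.card D := by
      have hp0 : 0 < p := hp.out.pos
      nlinarith [Nat.eq_of_mul_eq_mul_right hp0 (by rw [h2, mul_comm] : P.relIndex T * p = Nat.card D * p)]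
    rw [h3]; exact hpE
  intro e he
  -- the conjugate of `P`
  have hcjT : cj e P ≤ T := by
    intro y hy
    obtain ⟨x, hx, rfl⟩ := mem_cj'.mp hy
    have h1 : e * x * e⁻¹ = ⁅e, x⁆ * x := by rw [commutatorElement_def]; group
    rw [h1]
    exact T.mul_mem (le_sup_right (a := P) (Subgroup.commutator_mem_commutator he (hPE hx)))
      (hPT hx)
  have hcjp : IsPGroup p (cj e P) := IsPGroup.of_card (n := 1) (by rw [card_cj, hP, pow_one])
  obtain ⟨k, hkT, hk⟩ := Cfsg.Agent.Lib.Helper24.sylow_cj_of_facts T P (cj e P) hPT hPp hPi hcjT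
    hcjp (card_cj e P)
  -- `n := k⁻¹ e` normalizes `P`
  set n : G := k⁻¹ * e with hn
  have hkE : k ∈ E := hTE hkT
  have hnE : n ∈ E := E.mul_mem (E.inv_mem hkE) he
  have hnP : ∀ x ∈ P, n * x * n⁻¹ ∈ P := by
    intro x hx
    have h1 : e * x * e⁻¹ ∈ cj k P := by rw [← hk]; exact mem_cj'.mpr ⟨x, hx, rfl⟩
    obtain ⟨y, hy, hy'⟩ := mem_cj'.mp h1
    have h2 : n * x * n⁻¹ = k⁻¹ * (e * x * e⁻¹) * k := by rw [hn]; group
    rw [h2, ← hy']
    have h3 : k⁻¹ * (k * y * k⁻¹) * k = y := by group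
    rw [h3]; exact hy
  have hnC : n ∈ centralizer (P : Set G) := by
    rw [mem_centralizer_iff]
    intro x hx
    have h1 : n * x * n⁻¹ * x⁻¹ ∈ P := P.mul_mem (hnP x hx) (P.inv_mem hx)
    have h2 : n * x * n⁻¹ * x⁻¹ ∈ D := by
      have : n * x * n⁻¹ * x⁻¹ = ⁅n, x⁆ := by rw [commutatorElement_def]
      rw [this]; exact Subgroup.commutator_mem_commutator hnE (hPE hx)
    have h3 : n * x * n⁻¹ * x⁻¹ = 1 := by
      have : n * x * n⁻¹ * x⁻¹ ∈ P ⊓ D := ⟨h1, h2⟩
      rwa [hPD, mem_bot] at this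
    calc x * n = x * n * 1 := by rw [mul_one]
      _ = x * n * (n * x * n⁻¹ * x⁻¹)⁻¹ := by rw [h3, inv_one]
      _ = x * n * (x * n * x⁻¹ * n⁻¹) := by group
      _ = n * x := by
          have h4 : x * n * x⁻¹ * n⁻¹ = (n * x * n⁻¹ * x⁻¹)⁻¹ := by group
          rw [h4, h3, inv_one, mul_one]
          have h5 : n * x * n⁻¹ * x⁻¹ * (x * n) = n * x := by group
          rw [← h5, h3, one_mul]
  have hk' : k ∈ (E ⊓ centralizer (P : Set G)) ⊔ ⁅E, E⁆ := by
    have : T ≤ (E ⊓ centralizer (P : Set G)) ⊔ ⁅E, E⁆ := by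
      apply sup_le
      · refine le_trans ?_ le_sup_left
        intro x hx
        refine ⟨hPE hx, ?_⟩
        show x ∈ centralizer (P : Set G)
        rw [mem_centralizer_iff]
        intro y hy
        exact hPab y hy x hx
      · exact le_sup_right
    exact this hkT
  have he' : e = k * n := by rw [hn]; group
  rw [he']
  exact Subgroup.mul_mem _ hk' (le_sup_left (b := ⁅E, E⁆) ⟨hnE, hnC⟩)

/-- **(A3)** `X = S K` for a normal `q`-complement `K` and a Sylow `q`-subgroup `S` of `X`. -/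
theorem le_sylow_sup_npc {q : ℕ} [hq : Fact q.Prime] {X K S : Subgroup G} (hK : NpcIn q K X)
    (hSX : S ≤ X) (hSi : ¬ q ∣ S.relIndex X) : X ≤ S ⊔ K := by
  have h1 : (S ⊔ K).relIndex X ∣ K.relIndex X :=
    Subgroup.relIndex_dvd_of_le_left X (le_sup_right : K ≤ S ⊔ K)
  have h2 : (S ⊔ K).relIndex X ∣ S.relIndex X :=
    Subgroup.relIndex_dvd_of_le_left X (le_sup_left : S ≤ S ⊔ K)
  obtain ⟨k, hk⟩ := hK.2.2.2
  rw [hk] at h1
  obtain ⟨j, -, hj⟩ := (Nat.dvd_prime_pow hq.out).mp h1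
  have hj0 : j = 0 := by
    by_contra h
    apply hSi
    refine dvd_trans ?_ h2
    rw [hj]; exact dvd_pow_self q h
  rw [hj0, pow_zero] at hj
  exact Subgroup.relIndex_eq_one.mp hj

/-- **(A4)** a solvable group `N` of odd order acting on an elementary abelian `q`-group `W` of
order dividing `q ^ 2`, all of whose `q`-elements act trivially, acts as an abelian group. -/
theorem commutator_mem_centralizer_of_small {q : ℕ} [hq : Fact q.Prime] {W N : Subgroup G}
    (hWc : ∀ a ∈ W, ∀ b ∈ W, a * b = b * a) (hWe : ∀ a ∈ W, a ^ q = 1)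
    (hWcard : Nat.card W ∣ q ^ 2) (hNW : N ≤ normalizer (W : Set G)) (hodd : Odd (Nat.card N))
    (hsolv : Group.IsSolvable N)
    (hqel : ∀ g ∈ N, ∀ k : ℕ, g ^ (q ^ k) = 1 → g ∈ centralizer (W : Set G)) :
    ∀ g ∈ N, ∀ h ∈ N, ⁅g, h⁆ ∈ centralizer (W : Set G) := by
  classical
  set φ : N →* MulAut W := (normAut W).comp (Subgroup.inclusion hNW) with hφ
  have hφc : ∀ (n : N) (a : W), ((φ n a : W) : G) = (n : G) * a * (n : G)⁻¹ := fun n a => rfl
  haveI : Group.IsSolvable φ.range := by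
    have : Function.Surjective φ.rangeRestrict := φ.rangeRestrict_surjective
    exact Group.isSolvable_of_surjective this
  have hoddY : Odd (Nat.card φ.range) := by
    have h1 : Nat.card φ.range ∣ Nat.card N := Subgroup.card_range_dvd φ
    exact Odd.of_dvd_nat hodd h1
  have hcommW : ∀ a b : W, a * b = b * a := fun a b => Subtype.ext (hWc a a.2 b b.2)
  have hexpW : ∀ a : W, a ^ q = 1 := fun a => Subtype.ext (by simpa using hWe a a.2)
  have hkey := Cfsg.Agent.Lib.Helper32.Rank2.exp_p_commutator_mulAut' q hcommW hexpW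
    hWcard φ.range hoddY
  intro g hg h hh
  set c : N := ⁅(⟨g, hg⟩ : N), ⟨h, hh⟩⁆ with hc
  have hcoe : (c : G) = ⁅g, h⁆ := by
    rw [hc]; simp [commutatorElement_def]
  have hz : φ c ∈ ⁅φ.range, φ.range⁆ := by
    rw [hc, map_commutatorElement]
    exact Subgroup.commutator_mem_commutator ⟨_, rfl⟩ ⟨_, rfl⟩
  have hzp : (φ c) ^ q = 1 := hkey _ hz
  have hord : orderOf (c : G) ≠ 0 := (orderOf_pos _).ne'
  obtain ⟨k, m, hm, hkm⟩ := Nat.exists_eq_pow_mul_and_not_dvd hord q hq.out.ne_one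
  have hcm : (c : G) ^ m ∈ centralizer (W : Set G) := by
    apply hqel _ (N.pow_mem c.2 m) k
    rw [← pow_mul, mul_comm, ← hkm, pow_orderOf_eq_one]
  have hzm : (φ c) ^ m = 1 := by
    rw [← map_pow]
    apply MulEquiv.ext
    intro a
    apply Subtype.ext
    rw [hφc]
    have h1 := Subgroup.mem_centralizer_iff.mp hcm a a.2
    simp only [SubgroupClass.coe_pow, MulAut.one_apply]
    rw [← h1, mul_inv_cancel_right]
  have hz1 : φ c = 1 := by
    have h1 : orderOf (φ c) ∣ q := orderOf_dvd_of_pow_eq_one hzp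
    have h2 : orderOf (φ c) ∣ m := orderOf_dvd_of_pow_eq_one hzm
    have h3 : orderOf (φ c) ∣ Nat.gcd q m := Nat.dvd_gcd h1 h2
    have h4 : Nat.gcd q m = 1 := (Nat.Prime.coprime_iff_not_dvd hq.out).mpr hm
    rw [h4, Nat.dvd_one] at h3
    exact orderOf_eq_one_iff.mp h3
  rw [← hcoe, Subgroup.mem_centralizer_iff]
  intro a ha
  have h1 : ((φ c ⟨a, ha⟩ : W) : G) = a := by rw [hz1]; rfl
  rw [hφc] at h1
  calc a * (c : G) = ((c : G) * a * (c : G)⁻¹) * (c : G) := by rw [h1]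
    _ = (c : G) * a := by group

/-- **(A5)** if `x` has order dividing `p`, `y ^ r = 1` with `p`, `r` coprime, `y = [a,x]` commutes
with `x`, then `y = 1`. -/
theorem commutator_eq_one_of_commute {p r : ℕ} (hpr : p.Coprime r) {a x : G} (hx : x ^ p = 1)
    (hy : ⁅a, x⁆ ^ r = 1) (hc : ⁅a, x⁆ * x = x * ⁅a, x⁆) : ⁅a, x⁆ = 1 := by
  set y : G := ⁅a, x⁆ with hydef
  have h1 : a * x * a⁻¹ = y * x := by rw [hydef, commutatorElement_def]; group
  have h2 : (y * x) ^ p = y ^ p * x ^ p := (show Commute y x from hc).mul_pow p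
  have h3 : (a * x * a⁻¹) ^ p = 1 := by rw [conj_pow, hx]; group
  rw [h1, h2, hx, mul_one] at h3
  have h4 : orderOf y ∣ p := orderOf_dvd_of_pow_eq_one h3
  have h5 : orderOf y ∣ r := orderOf_dvd_of_pow_eq_one hy
  have h6 : orderOf y ∣ Nat.gcd p r := Nat.dvd_gcd h4 h5
  rw [hpr, Nat.dvd_one] at h6
  exact orderOf_eq_one_iff.mp h6

end Cfsg.Agent.Lib.Helper10.BG1312
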