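import Mathlib
import Cfsg.Prelude.Def_OddOrderLocal
import Cfsg.Agent.Lib.Helper10.BG1312a
import Cfsg.Agent.Lib.Helper10.BG144
import Cfsg.Agent.Lib.Helper21.BG139Cfg
import Cfsg.Agent.Lib.Helper63.BG13a
import Cfsg.Agent.Lib.Helper63.PrimeParts
import Cfsg.Agent.Lib.Helper49.RankOneCyclic
import Cfsg.Agent.Lib.Helper70.BG1216b
import Cfsg.Agent.Lib.Helper22.LBal
import Cfsg.Agent.Lib.Helper96.BG127
import Cfsg.Agent.Lib.Helper19.BG124a
import Cfsg.Agent.S1414
import Cfsg.Agent.S1418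
import Cfsg.Agent.S1423
import Cfsg.Agent.S1426
import Cfsg.Agent.S1427

/-!
# B&G Lemma 13.12, the key step: a `τ₁`-subgroup `P` of a complement pushes `C_{H_σ}(P)` into
`(H_σ)'`
-/

set_option autoImplicit false
set_option linter.style.haveILetI false
set_option linter.unusedSectionVars false
set_option linter.unusedVariables false

namespace Cfsg.Agent.Lib.Helper10.BG1312

open Subgroup Cfsg
open Cfsg.Agent.Lib.Helper33 (cj cj_def mem_cj mem_cj' card_cj cj_eq_self_iff conj_mem_cj)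
open Cfsg.Agent.Lib.Helper63
open Cfsg.Agent.Lib.Helper62.BG13K
open Cfsg.Agent.Lib.Helper21.BG139 (Stmt1428)
open Cfsg.Agent.Lib.Helper19.BG124 (sigmaHallIn uniqStmt)
open scoped commutatorElement

universe u

variable {G : Type u} [Group G] [Finite G]

/-- `P` acts regularly on every `E_{r²}` of the complement `E`, `r ∈ τ₂(H)` -/
def RegOnTau2 (H E P : Subgroup G) : Prop :=
  ∀ (r : ℕ) [Fact r.Prime], r ∈ tau2 H → ∀ B : Subgroup G, B ≤ E → IsElementaryAbelian r B →
    Nat.card B = r ^ 2 → B ⊓ centralizer (P : Set G) = ⊥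

theorem le_normalizer_commutator_self (X : Subgroup G) : X ≤ normalizer ((⁅X, X⁆ : Subgroup G) : Set G) := by
  intro e he
  apply Cfsg.Agent.Lib.Helper10.BG13.mem_normalizer_of_conj_mem
  intro d hd
  have h1 : e * d * e⁻¹ = ⁅e, d⁆ * d := by rw [commutatorElement_def]; group
  rw [h1]
  exact Subgroup.mul_mem _ (Subgroup.commutator_mem_commutator he (Subgroup.commutator_le_self X hd)) hd

/-- a prime dividing the order of a complement of `H_σ` is not in `σ(H)` -/
theorem not_mem_sigma_of_dvd_card_compl' (hG : IsMinSimpleOddOrder G) {H E : Subgroup G}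
    (hH : IsCoatom H) (hE : IsComplIn E (sigmaCore H) H) {s : ℕ} (hs : s.Prime)
    (hsE : s ∣ Nat.card E) : s ∉ sigma H := by
  intro hσ
  have hσH := sigmaHallIn hG hH
  have hcop := Cfsg.Agent.Lib.Helper70.BG1216.coprime_card_compl hσH hE
  have h1 := hσH.2.2 s hs hσ
  have h2 := Cfsg.Agent.Lib.Helper23.card_isComplIn hE
  have h3 := Cfsg.Agent.Lib.Helper24.relIndex_mul_card' hσH.1
  have hsH : s ∣ Nat.card H := hσ.2.1
  rw [← h3] at hsH
  rcases (Nat.Prime.dvd_mul hs).mp hsH with h | h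
  · exact h1 h
  · have h4 : s ∣ Nat.gcd (Nat.card E) (Nat.card (sigmaCore H)) := Nat.dvd_gcd hsE h
    rw [Nat.Coprime] at hcop
    rw [hcop, Nat.dvd_one] at h4
    exact hs.one_lt.ne' h4

/-- **(4a)** `C_E(P)` centralizes `C_{H_σ}(P)` when `P` acts regularly on the `τ₂`-parts. -/
theorem cent_le_centralizer (hG : IsMinSimpleOddOrder G) (h28 : Stmt1428 G) {H E P : Subgroup G}
    (hH : IsCoatom H) (hE : IsComplIn E (sigmaCore H) H) {p : ℕ} (hp : p ∈ tau1 H)
    (hPE : P ≤ E) (hP : Nat.card P = p) (hreg : RegOnTau2 H E P) :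
    E ⊓ centralizer (P : Set G) ≤
      centralizer ((sigmaCore H ⊓ centralizer (P : Set G) : Subgroup G) : Set G) := by
  rintro c ⟨hcE, hcP⟩
  show c ∈ centralizer ((sigmaCore H ⊓ centralizer (P : Set G) : Subgroup G) : Set G)
  rw [mem_centralizer_iff]
  intro a ha
  have haσ : a ∈ sigmaCore H := ha.1
  have key : c ∈ centralizer ({a} : Set G) := by
    apply Cfsg.Agent.Lib.Helper63.mem_of_prime_power_parts
    intro s k j hs hord
    haveI : Fact s.Prime := ⟨hs⟩
    have ht'E : c ^ k ∈ E := E.pow_mem hcE k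
    have ht'P : c ^ k ∈ centralizer (P : Set G) := Subgroup.pow_mem _ hcP k
    rcases Nat.eq_zero_or_pos j with rfl | hj
    · rw [pow_zero, orderOf_eq_one_iff] at hord
      rw [hord]; exact one_mem _
    have ht'1 : c ^ k ≠ 1 := by
      intro h
      rw [h, orderOf_one] at hord
      have := Nat.one_lt_pow hj.ne' hs.one_lt
      omega
    have hsd : s ∣ orderOf (c ^ k) := by rw [hord]; exact dvd_pow_self s hj.ne'
    set z : G := (c ^ k) ^ (orderOf (c ^ k) / s) with hz
    have hzo : orderOf z = s := orderOf_pow_orderOf_div (orderOf_pos (c ^ k)).ne' hsd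
    have hzE : z ∈ E := E.pow_mem ht'E _
    have hzP : z ∈ centralizer (P : Set G) := Subgroup.pow_mem _ ht'P _
    have hz1 : z ≠ 1 := by
      intro h
      rw [h, orderOf_one] at hzo
      exact hs.one_lt.ne hzo
    have hsE : s ∣ Nat.card E := by
      have := orderOf_dvd_natCard (⟨z, hzE⟩ : E)
      rwa [Subgroup.orderOf_mk, hzo] at this
    have hsσ : s ∉ sigma H := not_mem_sigma_of_dvd_card_compl' hG hH hE hs hsE
    have hzc : Nat.card (zpowers z) = s := by rw [Nat.card_zpowers, hzo]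
    have hzE' : zpowers z ≤ E := zpowers_le.mpr hzE
    -- 13.4
    have hR0 : zpowers z ≤ E ⊓ centralizer (P : Set G) := by
      rw [zpowers_le]; exact ⟨hzE, hzP⟩
    have hR0p : (Nat.card (zpowers z)).Prime := by rw [hzc]; exact hs
    have h134 := h28 H hH E hE p hp P hPE hP (zpowers z) hR0 hR0p ha
    have haz : a ∈ sigmaCore H ⊓ centralizer ({z} : Set G) := by
      refine ⟨haσ, ?_⟩
      have := h134.2
      rw [Cfsg.Agent.Lib.Helper10.BG13.centralizer_zpowers'] at this
      exact this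
    -- `s ∉ τ₂(H)`
    have hsτ2 : s ∉ tau2 H := by
      intro hτ
      obtain ⟨B, hBE, hBel, hBc⟩ := Cfsg.Agent.Lib.Helper96.BG127.exists_elemAb_sq_le_compl hE hτ
      have h18 := Cfsg.Agent.S1418.result hG H hH E hE s hτ B ⟨hBE, hBel, hBc⟩
      have hzB : zpowers z ≤ B := h18.1.2 (zpowers z) hzE' hzc
      have : z ∈ B ⊓ centralizer (P : Set G) := ⟨hzB (mem_zpowers z), hzP⟩
      rw [hreg s hτ B hBE hBel hBc, mem_bot] at this
      exact hz1 this
    have hs2' : PRankLE s 2 H := by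
      by_contra h2
      exact hsσ (Cfsg.Agent.Lib.Helper23.alpha_subset_sigma hG (uniqStmt hG) hH ⟨hs, h2⟩)
    have hs1 : PRankLE s 1 H := by
      by_contra h1
      exact hsτ2 ⟨hs, hsσ, hs2', h1⟩
    -- 13.3: pass to the Sylow subgroup
    have hZ : IsPGroup s ((zpowers (c ^ k)).subgroupOf E) := by
      have h1 : IsPGroup s (zpowers (c ^ k)) := by
        apply IsPGroup.of_card (n := j)
        rw [Nat.card_zpowers, hord]
      exact h1.comap_subtype
    obtain ⟨S, hS⟩ := hZ.exists_le_sylow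
    have ht'S : (⟨c ^ k, ht'E⟩ : E) ∈ (S : Subgroup E) :=
      hS (by rw [mem_subgroupOf]; exact mem_zpowers _)
    have hS1 : (S : Subgroup E) ≠ ⊥ := by
      intro h
      rw [h, mem_bot] at ht'S
      exact ht'1 (congrArg Subtype.val ht'S)
    have hsG : s ∣ Nat.card G := hsE.trans (Subgroup.card_subgroup_dvd_card E)
    have hs2 : s ≠ 2 := BG10.ne_two_of_dvd hG hsG
    have hSc : IsCyclic (S : Subgroup E) := by
      apply Cfsg.Agent.Lib.Helper49.isCyclic_of_isPGroup_rankLEOne hs2 S.isPGroup'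
      have hinj : PRankLE s 1 ↥(S : Subgroup E) :=
        BG10.pRankLE_of_injective ((Subgroup.inclusion hE.1).comp (S : Subgroup E).subtype)
          ((Subgroup.inclusion_injective hE.1).comp (S : Subgroup E).subtype_injective) hs1
      intro B hB hexp
      have := hinj B hB hexp
      rwa [pow_one] at this
    have ht'S' : c ^ k ∈ (S : Subgroup E).map E.subtype := ⟨⟨c ^ k, ht'E⟩, ht'S, rfl⟩
    have hzS : z ∈ (S : Subgroup E).map E.subtype := pow_mem ht'S' _
    have h27 := Cfsg.Agent.S1427.result hG H hH E hE s S hS1 hSc z hzS hz1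
    rw [h27] at haz
    have := mem_centralizer_iff.mp haz.2 (c ^ k) ht'S'
    show c ^ k ∈ centralizer ({a} : Set G)
    rw [mem_centralizer_iff]
    intro h hh
    rw [Set.mem_singleton_iff] at hh
    rw [hh]
    exact this.symm
  exact (mem_centralizer_iff.mp key a rfl)

/-- **(4)** the key step: `C_{H_σ}(P)`'s subgroups of order `q` lie in `(H_σ)'`. -/
theorem le_commutator_sigmaCore (hG : IsMinSimpleOddOrder G) (h28 : Stmt1428 G)
    {H E P A₀ : Subgroup G} (hH : IsCoatom H) (hE : IsComplIn E (sigmaCore H) H) {p : ℕ}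
    [hpf : Fact p.Prime] (hp : p ∈ tau1 H) (hPE : P ≤ E) (hP : Nat.card P = p)
    (hreg : RegOnTau2 H E P) {q : ℕ} [hqf : Fact q.Prime] (hni : ¬ IsIdealPrime q G)
    (hA₀ : A₀ ≤ sigmaCore H ⊓ centralizer (P : Set G)) (hA₀c : Nat.card A₀ = q) :
    A₀ ≤ ⁅sigmaCore H, sigmaCore H⁆ := by
  have hq : q.Prime := hqf.out
  have hσH := sigmaHallIn hG hH
  have hEH : E ≤ H := hE.1
  have hHn : H ≤ normalizer ((sigmaCore H : Subgroup G) : Set G) :=
    Cfsg.Agent.Lib.Helper24.BG.le_normalizer_sigmaCore H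
  have hcop := Cfsg.Agent.Lib.Helper70.BG1216.coprime_card_compl hσH hE
  have hA₀σ : A₀ ≤ sigmaCore H := hA₀.trans inf_le_left
  have hqσc : q ∣ Nat.card (sigmaCore H) := by
    rw [← hA₀c]; exact Subgroup.card_dvd_of_le hA₀σ
  have hqH : q ∣ Nat.card H := hqσc.trans (Subgroup.card_dvd_of_le hσH.1)
  have hqβ : q ∉ beta H := fun h => hni h.2
  have h14 := (Cfsg.Agent.S1414.result hG H hH).2.2.2.2 q hq hqH hqβ
  obtain ⟨O, hO⟩ := npcIn_of_hasNormalPComplement h14.1
  obtain ⟨K, hK⟩ := npcIn_of_hasNormalPComplement h14.2.1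
  have hEtop : E ≠ ⊤ := by
    intro h
    apply hH.1
    rw [eq_top_iff, ← h]; exact hEH
  haveI hsolvE : Group.IsSolvable ↥E := hG.2.2.2 E hEtop
  have hEq : (Nat.card E).Coprime q := Nat.Coprime.coprime_dvd_right hqσc hcop
  obtain ⟨S, hS⟩ := Cfsg.Agent.Lib.Helper24.exists_invariant_sylow (p := q) E (sigmaCore H)
    (hEH.trans hHn) hcop (Or.inl hsolvE)
  obtain ⟨hS'σ, hS'q, hS'i⟩ := Cfsg.Agent.Lib.Helper24.sylow_map_facts (sigmaCore H) S
  set S' : Subgroup G := (S : Subgroup ↥(sigmaCore H)).map (sigmaCore H).subtype with hS'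
  have hE'S : ⁅E, E⁆ ≤ centralizer (S' : Set G) :=
    comm_le_centralizer hEH (hS'σ.trans hσH.1) hS hS'q hEq hO
  have hdec : sigmaCore H ≤ S' ⊔ K := le_sylow_sup_npc hK hS'σ hS'i
  have hS'K : S' ≤ normalizer (K : Set G) := hS'σ.trans hK.2.1
  have hSK : S' ⊓ K = ⊥ := inf_eq_bot_of_coprime hS'q hK.2.2.1
  have hEK : E ≤ normalizer (K : Set G) := (hEH.trans hHn).trans hK.normalizer_le
  have hC := cent_le_centralizer hG h28 hH hE hp hPE hP hreg
  have hpE' : ¬ p ∣ Nat.card ↥⁅E, E⁆ := by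
    intro h
    apply hp.2.2.2.1
    exact h.trans (Subgroup.card_dvd_of_le (Subgroup.commutator_mono hEH hEH))
  have hFr := le_cent_sup_commutator hPE hP hpE'
  intro a ha
  have haσ : a ∈ sigmaCore H := hA₀σ ha
  obtain ⟨s, hs, k, hk, hask⟩ :=
    Cfsg.Agent.Lib.Helper24.exists_mul_of_mem_sup_of_le_normalizer S' K hS'K a (hdec haσ)
  -- `E` centralizes `s`
  have hsE : E ≤ centralizer ({s} : Set G) := by
    refine hFr.trans (sup_le ?_ ?_)
    · intro c hc
      have hca : c * a = a * c := by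
        have := mem_centralizer_iff.mp (hC hc) a (hA₀ ha)
        exact this.symm
      have hcS : c * s * c⁻¹ ∈ S' := (mem_normalizer_iff.mp (hS hc.1) s).mp hs
      have hcK : c * k * c⁻¹ ∈ K := (mem_normalizer_iff.mp (hEK hc.1) k).mp hk
      have h1 : (c * s * c⁻¹) * (c * k * c⁻¹) = s * k := by
        have : (c * s * c⁻¹) * (c * k * c⁻¹) = c * (s * k) * c⁻¹ := by group
        rw [this, ← hask, hca]; group
      have h2 : s⁻¹ * (c * s * c⁻¹) = k * (c * k * c⁻¹)⁻¹ := by
        have : c * s * c⁻¹ = s * k * (c * k * c⁻¹)⁻¹ := by rw [← h1]; group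
        rw [this]; group
      have h3 : s⁻¹ * (c * s * c⁻¹) ∈ S' ⊓ K :=
        ⟨S'.mul_mem (S'.inv_mem hs) hcS, by rw [h2]; exact K.mul_mem hk (K.inv_mem hcK)⟩
      rw [hSK, mem_bot] at h3
      have h4 : c * s * c⁻¹ = s := by
        have : c * s * c⁻¹ = s * (s⁻¹ * (c * s * c⁻¹)) := by group
        rw [this, h3, mul_one]
      show c ∈ centralizer ({s} : Set G)
      rw [mem_centralizer_iff]
      intro h hh
      rw [Set.mem_singleton_iff] at hh
      rw [hh]
      calc s * c = (c * s * c⁻¹) * c := by rw [h4]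
        _ = c * s := by group
    · intro d hd
      have := mem_centralizer_iff.mp (hE'S hd) s hs
      show d ∈ centralizer ({s} : Set G)
      rw [mem_centralizer_iff]
      intro h hh
      rw [Set.mem_singleton_iff] at hh
      rw [hh]; exact this
  have hsCE : s ∈ sigmaCore H ⊓ centralizer (E : Set G) := by
    refine ⟨hS'σ hs, ?_⟩
    show s ∈ centralizer (E : Set G)
    rw [mem_centralizer_iff]
    intro e he
    exact (mem_centralizer_iff.mp (hsE he) s rfl).symm
  have hsD : s ∈ ⁅sigmaCore H, sigmaCore H⁆ := (Cfsg.Agent.S1426.result hG H hH E hE).1 hsCE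
  have hKn : K ≤ normalizer ((⁅sigmaCore H, sigmaCore H⁆ : Subgroup G) : Set G) :=
    hK.1.trans (le_normalizer_commutator_self (sigmaCore H))
  have haq : a ^ q ^ 1 = 1 := by
    rw [pow_one]
    have := orderOf_dvd_natCard (⟨a, ha⟩ : A₀)
    rw [Subgroup.orderOf_mk, hA₀c] at this
    exact orderOf_dvd_iff_pow_eq_one.mp this
  have hamem : a ∈ ⁅sigmaCore H, sigmaCore H⁆ ⊔ K := by
    rw [hask]
    exact Subgroup.mul_mem _ (le_sup_left (b := K) hsD) (le_sup_right (a := ⁅sigmaCore H, sigmaCore H⁆) hk)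
  exact Cfsg.Agent.Lib.Helper22.LBal.mem_of_mem_sup_of_ppow hKn hK.2.2.1 hamem haq

end Cfsg.Agent.Lib.Helper10.BG1312
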