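import Mathlib
import Cfsg.Prelude.Def_OddOrderLocal
import Cfsg.Agent.Lib.Helper10.BG1312b
import Cfsg.Agent.Lib.Helper10.Thompson
import Cfsg.Agent.Lib.Helper63.BG13b
import Cfsg.Agent.S1408
import Cfsg.Agent.S1417
import Cfsg.Agent.S1419

/-!
# B&G Lemma 13.12: regularity on the `τ₂`-parts (step (5)) and the assembly
-/

set_option autoImplicit false
set_option linter.style.haveILetI false
set_option linter.unusedSectionVars false
set_option linter.unusedVariables false

namespace Cfsg.Agent.Lib.Helper10.BG1312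

open Subgroup Cfsg
open Cfsg.Agent.Lib.Helper33 (cj cj_def mem_cj mem_cj' card_cj cj_eq_self_iff conj_mem_cj)
open Cfsg.Agent.Lib.Helper63
open Cfsg.Agent.Lib.Helper62.BG13K
open Cfsg.Agent.Lib.Helper21.BG139 (Stmt1428)
open Cfsg.Agent.Lib.Helper19.BG124 (sigmaHallIn uniqStmt)
open scoped commutatorElement Pointwise

universe u

variable {G : Type u} [Group G] [Finite G]

/-- `N_G(X) ≤ H` when `H` is the only maximal subgroup over `C_G(X)` -/
theorem normalizer_le_of_uniq (hG : IsMinSimpleOddOrder G) {H X : Subgroup G} (hX1 : X ≠ ⊥)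
    (hXtop : X ≠ ⊤)
    (huniq : ∀ L : Subgroup G, IsCoatom L → centralizer (X : Set G) ≤ L → L = H) :
    normalizer (X : Set G) ≤ H := by
  have hN : normalizer (X : Set G) ≠ ⊤ := BG10.normalizer_ne_top hG hX1 hXtop
  obtain ⟨L, hL, hNL⟩ := (eq_top_or_exists_le_coatom _).resolve_left hN
  have := huniq L hL ((Subgroup.centralizer_le_normalizer (X : Set G)).trans hNL)
  rwa [this] at hNL

/-- `Ω₁(Z(S))` as a subgroup of `G` -/
def omegaCenter (q : ℕ) (S : Subgroup G) : Subgroup G where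
  carrier := {z | z ∈ S ∧ z ∈ centralizer (S : Set G) ∧ z ^ q = 1}
  one_mem' := ⟨S.one_mem, Subgroup.one_mem _, one_pow q⟩
  mul_mem' := by
    rintro a b ⟨ha, hac, haq⟩ ⟨hb, hbc, hbq⟩
    refine ⟨S.mul_mem ha hb, Subgroup.mul_mem _ hac hbc, ?_⟩
    have hcomm : Commute a b := (mem_centralizer_iff.mp hac b hb).symm
    rw [hcomm.mul_pow, haq, hbq, one_mul]
  inv_mem' := by
    rintro a ⟨ha, hac, haq⟩
    exact ⟨S.inv_mem ha, Subgroup.inv_mem _ hac, by rw [inv_pow, haq, inv_one]⟩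

theorem mem_omegaCenter {q : ℕ} {S : Subgroup G} {z : G} :
    z ∈ omegaCenter q S ↔ z ∈ S ∧ z ∈ centralizer (S : Set G) ∧ z ^ q = 1 := Iff.rfl

theorem normalizer_le_normalizer_omegaCenter (q : ℕ) (S : Subgroup G) :
    normalizer (S : Set G) ≤ normalizer ((omegaCenter q S : Subgroup G) : Set G) := by
  intro g hg
  apply Cfsg.Agent.Lib.Helper10.BG13.mem_normalizer_of_conj_mem
  rintro w ⟨hw, hwc, hwq⟩
  refine ⟨(mem_normalizer_iff.mp hg w).mp hw, ?_, ?_⟩
  · rw [mem_centralizer_iff]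
    intro s hs
    have hs' : g⁻¹ * s * g ∈ S := by
      have := (mem_normalizer_iff.mp (Subgroup.inv_mem _ hg) s).mp hs
      simpa using this
    have h1 := mem_centralizer_iff.mp hwc _ hs'
    calc s * (g * w * g⁻¹) = g * ((g⁻¹ * s * g) * w) * g⁻¹ := by group
      _ = g * (w * (g⁻¹ * s * g)) * g⁻¹ := by rw [h1]
      _ = g * w * g⁻¹ * s := by group
  · rw [conj_pow, hwq]; group

theorem omegaCenter_ne_bot {q : ℕ} [hq : Fact q.Prime] {S : Subgroup G} (hS : IsPGroup q S)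
    (hS1 : S ≠ ⊥) : omegaCenter q S ≠ ⊥ := by
  haveI : Nontrivial ↥S := (Subgroup.nontrivial_iff_ne_bot S).mpr hS1
  haveI := hS.center_nontrivial
  obtain ⟨z, hz⟩ := exists_ne (1 : Subgroup.center ↥S)
  have hz1 : (z : ↥S) ≠ 1 := fun h => hz (Subtype.ext h)
  have hzc : ∀ s : ↥S, s * (z : ↥S) = (z : ↥S) * s := fun s =>
    (Subgroup.mem_center_iff.mp z.2 s)
  obtain ⟨k, hk⟩ := (IsPGroup.iff_orderOf.mp hS) (z : ↥S)
  have hk0 : k ≠ 0 := by
    rintro rfl
    rw [pow_zero, orderOf_eq_one_iff] at hk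
    exact hz1 hk
  have hqd : q ∣ orderOf (z : ↥S) := by rw [hk]; exact dvd_pow_self q hk0
  set w : ↥S := (z : ↥S) ^ (orderOf (z : ↥S) / q) with hw
  have hwo : orderOf w = q := orderOf_pow_orderOf_div (orderOf_pos _).ne' hqd
  have hw1 : w ≠ 1 := by
    intro h
    rw [h, orderOf_one] at hwo
    exact hq.out.one_lt.ne hwo
  intro hbot
  have hmem : (w : G) ∈ omegaCenter q S := by
    refine ⟨w.2, ?_, ?_⟩
    · rw [mem_centralizer_iff]
      intro s hs
      have h1 : (⟨s, hs⟩ : ↥S) * w = w * ⟨s, hs⟩ := by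
        rw [hw]
        exact ((show Commute (⟨s, hs⟩ : ↥S) (z : ↥S) from hzc ⟨s, hs⟩).pow_right _).eq
      exact congrArg Subtype.val h1
    · have := pow_orderOf_eq_one w
      rw [hwo] at this
      have h2 := congrArg Subtype.val this
      simpa using h2
  rw [hbot, mem_bot] at hmem
  exact hw1 (Subtype.ext hmem)

/-- `Ω₁(Z(S)) ≤ A` for a maximal elementary abelian subgroup `A ≤ S` -/
theorem omegaCenter_le {q : ℕ} {S A : Subgroup G} (hAS : A ≤ S) (hA : IsElementaryAbelian q A)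
    (hmax : ∀ B : Subgroup G, IsElementaryAbelian q B → A ≤ B → B = A) :
    omegaCenter q S ≤ A := by
  rintro w ⟨hw, hwc, hwq⟩
  have h1 : IsElementaryAbelian q (A ⊔ zpowers w) :=
    Cfsg.Agent.Lib.Helper10.elemAb_sup_zpowers hA
      (fun a ha => (mem_centralizer_iff.mp hwc a (hAS ha))) hwq
  have h2 := hmax _ h1 le_sup_left
  rw [← h2]
  exact le_sup_right (a := A) (mem_zpowers w)

/-- a subgroup of order `r ^ 2` meeting `C(P)` non-trivially but not contained in it meets it in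
a subgroup of order `r` -/
theorem card_inf_eq_prime {r : ℕ} [hr : Fact r.Prime] {B C : Subgroup G} (hBc : Nat.card B = r ^ 2)
    (h1 : B ⊓ C ≠ ⊥) (h2 : ¬ B ≤ C) : Nat.card ↥(B ⊓ C) = r := by
  have hd : Nat.card ↥(B ⊓ C) ∣ r ^ 2 := by
    rw [← hBc]; exact Subgroup.card_dvd_of_le inf_le_left
  obtain ⟨i, hi, hci⟩ := (Nat.dvd_prime_pow hr.out).mp hd
  interval_cases i
  · exfalso; apply h1
    rw [pow_zero] at hci
    exact Subgroup.card_eq_one.mp hci
  · rw [hci, pow_one]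
  · exfalso; apply h2
    have : B ⊓ C = B := Subgroup.eq_of_le_of_card_ge inf_le_left (by rw [hci, hBc])
    rw [← this]; exact inf_le_right

/-- all Sylow `p`-subgroups are abelian as soon as one is -/
theorem sylow_comm_of_exists' {p : ℕ} [Fact p.Prime] (S P : Sylow p G)
    (hS : IsMulCommutative (S : Subgroup G)) :
    ∀ x ∈ (P : Subgroup G), ∀ y ∈ (P : Subgroup G), x * y = y * x := by
  obtain ⟨g, hg⟩ := MulAction.exists_smul_eq G S P
  have hP : (P : Subgroup G) = MulAut.conj g • (S : Subgroup G) := by rw [← hg]; rfl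
  intro x hx y hy
  rw [hP, Subgroup.mem_pointwise_smul_iff_inv_smul_mem] at hx hy
  have h1 := hS.is_comm.comm ⟨_, hx⟩ ⟨_, hy⟩
  have h2 := congrArg Subtype.val h1
  simp only [Subgroup.coe_mul, MulAut.smul_def, MulAut.conj_inv_apply] at h2
  have h3 : g * (g⁻¹ * x * g * (g⁻¹ * y * g)) * g⁻¹ = g * (g⁻¹ * y * g * (g⁻¹ * x * g)) * g⁻¹ := by
    rw [h2]
  simpa [mul_assoc] using h3

/-- **(5)** regularity of `P` on the `τ₂(H)`-parts of the complement, when `H_σ` contains a
maximal elementary abelian subgroup of order `q ^ 2` and `C_{H_σ}(P) ≠ 1`. -/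
theorem regOnTau2 (hG : IsMinSimpleOddOrder G) (h28 : Stmt1428 G) {H E P A A₀ : Subgroup G}
    (hH : IsCoatom H) (hE : IsComplIn E (sigmaCore H) H) {p : ℕ} [hpf : Fact p.Prime]
    (hp : p ∈ tau1 H) (hPE : P ≤ E) (hP : Nat.card P = p) {q : ℕ} [hqf : Fact q.Prime]
    (hAσ : A ≤ sigmaCore H) (hAe : IsElementaryAbelian q A) (hAc : Nat.card A = q ^ 2)
    (hmax : ∀ B : Subgroup G, IsElementaryAbelian q B → A ≤ B → B = A)
    (hA₀ : A₀ ≤ sigmaCore H ⊓ centralizer (P : Set G)) (hA₀1 : A₀ ≠ ⊥) :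
    RegOnTau2 H E P := by
  intro r hrf hr B hBE hBel hBc
  by_contra hne
  have hrp : r.Prime := hrf.out
  have hq : q.Prime := hqf.out
  have hσH := sigmaHallIn hG hH
  have hEH : E ≤ H := hE.1
  have hBH : B ≤ H := hBE.trans hEH
  have hHn : H ≤ normalizer ((sigmaCore H : Subgroup G) : Set G) :=
    Cfsg.Agent.Lib.Helper24.BG.le_normalizer_sigmaCore H
  have hcop := Cfsg.Agent.Lib.Helper70.BG1216.coprime_card_compl hσH hE
  have h17 := Cfsg.Agent.S1417.result hG H hH r hr B ⟨hBH, hBel, hBc⟩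
  have h18 := Cfsg.Agent.S1418.result hG H hH E hE r hr B ⟨hBE, hBel, hBc⟩
  have hEB : E ≤ normalizer (B : Set G) := h18.1.1
  have hBcomm : ∀ a ∈ B, ∀ b ∈ B, a * b = b * a := Cfsg.Agent.Lib.Helper10.elemAb_comm hBel
  have hpr_ne : p ≠ r := by
    rintro rfl
    exact hr.2.2.2 hp.2.2.2.2
  have hHtop : H ≠ ⊤ := hH.1
  -- (7a)
  have hBnC : ¬ B ≤ centralizer (P : Set G) := by
    intro hBC
    apply hA₀1
    rw [eq_bot_iff, ← h17.2.2.2.1]
    intro a ha
    refine ⟨(hA₀ ha).1, ?_⟩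
    show a ∈ centralizer (B : Set G)
    rw [mem_centralizer_iff]
    intro b hb
    by_cases hb1 : b = 1
    · rw [hb1]; simp
    have hbo : orderOf b = r := by
      have := orderOf_dvd_of_pow_eq_one (hBel.2 b hb)
      rcases (Nat.dvd_prime hrp).mp this with h | h
      · exact absurd (orderOf_eq_one_iff.mp h) hb1
      · exact h
    have hzc : Nat.card (zpowers b) = r := by rw [Nat.card_zpowers, hbo]
    have hR0 : zpowers b ≤ E ⊓ centralizer (P : Set G) := by
      rw [zpowers_le]; exact ⟨hBE hb, hBC hb⟩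
    have h134 := h28 H hH E hE p hp P hPE hP (zpowers b) hR0 (by rw [hzc]; exact hrp) (hA₀ ha)
    have := h134.2
    rw [Cfsg.Agent.Lib.Helper10.BG13.centralizer_zpowers'] at this
    exact (mem_centralizer_iff.mp this b rfl)
  set B₀ : Subgroup G := B ⊓ centralizer (P : Set G) with hB₀
  have hB₀c : Nat.card B₀ = r := card_inf_eq_prime hBc hne hBnC
  have hB₀E : B₀ ≤ E := inf_le_left.trans hBE
  have hbad : sigmaCore H ⊓ centralizer (B₀ : Set G) ≠ ⊥ := by
    have h134 := h28 H hH E hE p hp P hPE hP B₀ (le_inf hB₀E inf_le_right)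
      (by rw [hB₀c]; exact hrp)
    intro h
    apply hA₀1
    rw [eq_bot_iff, ← h]
    exact hA₀.trans h134
  obtain ⟨hCB₀H, huniq⟩ := h18.2.2 B₀ inf_le_left hB₀c hbad
  have hB₀top : B₀ ≠ ⊤ := by
    intro h
    apply hHtop
    rw [eq_top_iff, ← h]; exact hB₀E.trans hEH
  have hNB₀H : normalizer (B₀ : Set G) ≤ H := normalizer_le_of_uniq hG hne hB₀top huniq
  by_cases hnab : ∀ S : Sylow r G, ¬ IsMulCommutative (S : Subgroup G)
  · -- NONABELIAN
    have h19 := Cfsg.Agent.S1419.result hG H hH E hE r hr hnab B ⟨hBE, hBel, hBc⟩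
    set N : Subgroup G := B ⊔ P with hN
    have hNE : N ≤ E := sup_le hBE hPE
    have hNtop : N ≠ ⊤ := by
      intro h
      apply hHtop
      rw [eq_top_iff, ← h]; exact hNE.trans hEH
    haveI hsolvN : Group.IsSolvable ↥N := hG.2.2.2 N hNtop
    have hcopN : (Nat.card N).Coprime (Nat.card (sigmaCore H)) :=
      Nat.Coprime.coprime_dvd_left (Subgroup.card_dvd_of_le hNE) hcop
    obtain ⟨S, hS⟩ := Cfsg.Agent.Lib.Helper24.exists_invariant_sylow (p := q) N (sigmaCore H)
      ((hNE.trans hEH).trans hHn) hcopN (Or.inl hsolvN)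
    obtain ⟨hS'σ, hS'q, hS'i⟩ := Cfsg.Agent.Lib.Helper24.sylow_map_facts (sigmaCore H) S
    set S' : Subgroup G := (S : Subgroup ↥(sigmaCore H)).map (sigmaCore H).subtype with hS'
    have hAq : IsPGroup q A := BG10.isPGroup_of_elemAb hAe
    obtain ⟨c, hc, hcA⟩ := Cfsg.Agent.Lib.Helper33.sylow_sub hS'σ hS'q hS'i hAσ hAq
    have hA'e : IsElementaryAbelian q (cj c A) :=
      BG10.map_elemAb (MulAut.conj c).toMonoidHom hAe
    have hmax' : ∀ B' : Subgroup G, IsElementaryAbelian q B' → cj c A ≤ B' → B' = cj c A := by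
      intro B' hB' hle
      have h1 : IsElementaryAbelian q (cj c⁻¹ B') :=
        BG10.map_elemAb (MulAut.conj c⁻¹).toMonoidHom hB'
      have h2 : A ≤ cj c⁻¹ B' := by
        have := Cfsg.Agent.Lib.Helper33.cj_mono (g := c⁻¹) hle
        rwa [Cfsg.Agent.Lib.Helper33.cj_inv_cj] at this
      have h3 := hmax _ h1 h2
      rw [← h3, Cfsg.Agent.Lib.Helper33.cj_cj_inv]
    set W : Subgroup G := omegaCenter q S' with hW
    have hWA : W ≤ cj c A := omegaCenter_le hcA hA'e hmax'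
    have hWcard : Nat.card W ∣ q ^ 2 := by
      rw [← hAc, ← card_cj c A]; exact Subgroup.card_dvd_of_le hWA
    have hS'1 : S' ≠ ⊥ := by
      intro h
      have h1 : cj c A = ⊥ := le_bot_iff.mp (h ▸ hcA)
      have h2 : Nat.card (cj c A) = 1 := by rw [h1]; exact Subgroup.card_bot
      rw [card_cj, hAc] at h2
      have := Nat.one_lt_pow (n := 2) (by norm_num) hq.one_lt
      omega
    have hW1 : W ≠ ⊥ := omegaCenter_ne_bot hS'q hS'1
    have hNW : N ≤ normalizer (W : Set G) :=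
      hS.trans (normalizer_le_normalizer_omegaCenter q S')
    have hWc : ∀ a ∈ W, ∀ b ∈ W, a * b = b * a := fun a ha b hb =>
      (mem_centralizer_iff.mp hb.2.1 a ha.1)
    have hWe : ∀ a ∈ W, a ^ q = 1 := fun a ha => ha.2.2
    have hoddN : Odd (Nat.card N) := Odd.of_dvd_nat hG.1 (Subgroup.card_subgroup_dvd_card N)
    have hqσc : q ∣ Nat.card (sigmaCore H) := by
      have h1 : q ∣ Nat.card A := by rw [hAc]; exact dvd_pow_self q (by norm_num)
      exact h1.trans (Subgroup.card_dvd_of_le hAσ)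
    have hEq : (Nat.card E).Coprime q := Nat.Coprime.coprime_dvd_right hqσc hcop
    have hqel : ∀ g ∈ N, ∀ k : ℕ, g ^ (q ^ k) = 1 → g ∈ centralizer (W : Set G) := by
      intro g hg k hgk
      have h1 : orderOf g ∣ q ^ k := orderOf_dvd_of_pow_eq_one hgk
      have h2 : orderOf g ∣ Nat.card E := by
        have := orderOf_dvd_natCard (⟨g, hNE hg⟩ : E)
        rwa [Subgroup.orderOf_mk] at this
      have h3 : orderOf g ∣ Nat.gcd (Nat.card E) (q ^ k) := Nat.dvd_gcd h2 h1
      have h4 : Nat.gcd (Nat.card E) (q ^ k) = 1 := Nat.Coprime.pow_right k hEq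
      rw [h4, Nat.dvd_one] at h3
      rw [orderOf_eq_one_iff.mp h3]; exact one_mem _
    have hab := commutator_mem_centralizer_of_small hWc hWe hWcard hNW hoddN hsolvN hqel
    have hex : ∃ a ∈ B, ∃ x ∈ P, a * x ≠ x * a := by
      by_contra hcon
      push Not at hcon
      apply hBnC
      intro a ha
      rw [mem_centralizer_iff]
      intro x hx
      exact (hcon a ha x hx).symm
    obtain ⟨a, ha, x, hx, hax⟩ := hex
    set y : G := ⁅a, x⁆ with hy
    have hy1 : y ≠ 1 := by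
      intro h
      apply hax
      exact commutatorElement_eq_one_iff_mul_comm.mp h
    have hyB : y ∈ B := by
      have h3 : x * a⁻¹ * x⁻¹ ∈ B :=
        (mem_normalizer_iff.mp (hEB (hPE hx)) a⁻¹).mp (B.inv_mem ha)
      have : y = a * (x * a⁻¹ * x⁻¹) := by rw [hy, commutatorElement_def]; group
      rw [this]; exact B.mul_mem ha h3
    have hyW : y ∈ centralizer (W : Set G) :=
      hab a (le_sup_left (b := P) ha) x (le_sup_right (a := B) hx)
    have hyr : y ^ r = 1 := hBel.2 y hyB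
    have hyo : orderOf y = r := by
      have := orderOf_dvd_of_pow_eq_one hyr
      rcases (Nat.dvd_prime hrp).mp this with h | h
      · exact absurd (orderOf_eq_one_iff.mp h) hy1
      · exact h
    have hYc : Nat.card (zpowers y) = r := by rw [Nat.card_zpowers, hyo]
    have hYE : zpowers y ≤ E := zpowers_le.mpr (hBE hyB)
    have hYbad : sigmaCore H ⊓ centralizer ((zpowers y : Subgroup G) : Set G) ≠ ⊥ := by
      intro h
      apply hW1
      rw [eq_bot_iff, ← h]
      intro w hw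
      refine ⟨hS'σ hw.1, ?_⟩
      rw [Cfsg.Agent.Lib.Helper10.BG13.centralizer_zpowers']
      show w ∈ centralizer ({y} : Set G)
      rw [mem_centralizer_iff]
      intro h' hh'
      rw [Set.mem_singleton_iff] at hh'
      rw [hh']
      exact (mem_centralizer_iff.mp hyW w hw).symm
    have hY := h19.2.2 (zpowers y) hYE hYc
    have hB₀' := h19.2.2 B₀ hB₀E hB₀c
    have hYeq : zpowers y = B ⊓ centralizer ((sigmaCore H : Subgroup G) : Set G) := by
      by_contra h
      exact hYbad (hY h).1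
    have hB₀eq : B₀ = B ⊓ centralizer ((sigmaCore H : Subgroup G) : Set G) := by
      by_contra h
      exact hbad (hB₀' h).1
    have hyB₀ : y ∈ B₀ := by rw [hB₀eq, ← hYeq]; exact mem_zpowers y
    have hyx : y * x = x * y := (mem_centralizer_iff.mp hyB₀.2 x hx).symm
    have hxp : x ^ p = 1 := by
      have := orderOf_dvd_natCard (⟨x, hx⟩ : P)
      rw [Subgroup.orderOf_mk, hP] at this
      exact orderOf_dvd_iff_pow_eq_one.mp this
    have hpr : p.Coprime r := (Nat.coprime_primes hpf.out hrp).mpr hpr_ne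
    exact hy1 (commutator_eq_one_of_commute hpr hxp hyr hyx)
  · -- ABELIAN
    push Not at hnab
    obtain ⟨R, hR⟩ := hnab
    have hBr : IsPGroup r B := BG10.isPGroup_of_elemAb hBel
    obtain ⟨R₂, hBR₂⟩ := hBr.exists_le_sylow
    have hR₂comm := sylow_comm_of_exists' R R₂ hR
    have hR₂C : (R₂ : Subgroup G) ≤ centralizer (B : Set G) := by
      intro g hg
      rw [mem_centralizer_iff]
      intro b hb
      exact hR₂comm b (hBR₂ hb) g hg
    set N : Subgroup G := normalizer (B : Set G) with hN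
    have hB1 : B ≠ ⊥ := by
      intro h
      apply hne
      rw [hB₀, h]; exact bot_inf_eq _
    have hBtop : B ≠ ⊤ := by
      intro h
      apply hHtop
      rw [eq_top_iff, ← h]; exact hBH
    have hNtop : N ≠ ⊤ := BG10.normalizer_ne_top hG hB1 hBtop
    haveI hsolvN : Group.IsSolvable ↥N := hG.2.2.2 N hNtop
    have hoddN : Odd (Nat.card N) := Odd.of_dvd_nat hG.1 (Subgroup.card_subgroup_dvd_card N)
    have hR₂N : (R₂ : Subgroup G) ≤ N := hR₂C.trans (Subgroup.centralizer_le_normalizer (B : Set G))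
    have hR₂i : ¬ r ∣ (R₂ : Subgroup G).relIndex N := by
      intro h
      have h1 := Subgroup.relIndex_mul_index hR₂N
      apply R₂.not_dvd_index
      rw [← h1]
      exact Dvd.dvd.mul_right h _
    have hqel : ∀ g ∈ N, ∀ k : ℕ, g ^ (r ^ k) = 1 → g ∈ centralizer (B : Set G) := by
      intro g hg k hgk
      have hZ : IsPGroup r (zpowers g) := by
        have h1 : orderOf g ∣ r ^ k := orderOf_dvd_of_pow_eq_one hgk
        obtain ⟨j, -, hj⟩ := (Nat.dvd_prime_pow hrp).mp h1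
        apply IsPGroup.of_card (n := j)
        rw [Nat.card_zpowers, hj]
      obtain ⟨n, hn, hnle⟩ := Cfsg.Agent.Lib.Helper33.sylow_sub hR₂N R₂.isPGroup' hR₂i
        (zpowers_le.mpr hg) hZ
      have h1 : n * g * n⁻¹ ∈ centralizer (B : Set G) :=
        hR₂C (hnle (mem_cj'.mpr ⟨g, mem_zpowers g, rfl⟩))
      rw [mem_centralizer_iff]
      intro b hb
      have hb' : n * b * n⁻¹ ∈ B := (mem_normalizer_iff.mp hn b).mp hb
      have h2 := mem_centralizer_iff.mp h1 _ hb'
      have h3 : n * (b * g) * n⁻¹ = n * (g * b) * n⁻¹ := by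
        calc n * (b * g) * n⁻¹ = (n * b * n⁻¹) * (n * g * n⁻¹) := by group
          _ = (n * g * n⁻¹) * (n * b * n⁻¹) := h2
          _ = n * (g * b) * n⁻¹ := by group
      exact mul_left_cancel (mul_right_cancel h3)
    have hab := commutator_mem_centralizer_of_small hBcomm hBel.2 (by rw [hBc]) le_rfl hoddN
      hsolvN hqel
    have hNB₀ : N ≤ normalizer (B₀ : Set G) := by
      intro n hn
      apply Cfsg.Agent.Lib.Helper10.BG13.mem_normalizer_of_conj_mem
      intro b hb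
      have hbB : b ∈ B := hb.1
      have hnb : n * b * n⁻¹ ∈ B := (mem_normalizer_iff.mp hn b).mp hbB
      refine ⟨hnb, ?_⟩
      show n * b * n⁻¹ ∈ centralizer (P : Set G)
      rw [mem_centralizer_iff]
      intro x hx
      have hxN : x ∈ N := hEB (hPE hx)
      have hc : ⁅n⁻¹, x⁆ ∈ centralizer (B : Set G) := hab _ (N.inv_mem hn) _ hxN
      have hxb : x * b = b * x := mem_centralizer_iff.mp hb.2 x hx
      have hcb : ⁅n⁻¹, x⁆ * b = b * ⁅n⁻¹, x⁆ := (mem_centralizer_iff.mp hc b hbB).symm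
      calc x * (n * b * n⁻¹) = n * (⁅n⁻¹, x⁆ * (x * b)) * n⁻¹ := by
            rw [commutatorElement_def]; group
        _ = n * (⁅n⁻¹, x⁆ * (b * x)) * n⁻¹ := by rw [hxb]
        _ = n * ((⁅n⁻¹, x⁆ * b) * x) * n⁻¹ := by simp only [mul_assoc]
        _ = n * ((b * ⁅n⁻¹, x⁆) * x) * n⁻¹ := by rw [hcb]
        _ = n * b * n⁻¹ * x := by rw [commutatorElement_def]; group
    exact h18.2.1.2.2 (hNB₀.trans hNB₀H)

/-- **B&G Lemma 13.12** (`tau12_regular`), from B&G 13.4 (= S1428) as a hypothesis. -/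
theorem bg13_12 (hG : IsMinSimpleOddOrder G) (h28 : Stmt1428 G) {M E P A : Subgroup G}
    (hM : IsCoatom M) (hE : IsComplIn E (sigmaCore M) M) {p : ℕ} (hp : p ∈ tau1 M)
    (hPE : P ≤ E) (hP : Nat.card P = p) {q : ℕ} [hqf : Fact q.Prime] (hq : q ∈ tau2 M)
    (hAE : A ≤ E) (hAe : IsElementaryAbelian q A) (hAc : Nat.card A = q ^ 2)
    (hAP : A ⊓ centralizer (P : Set G) ≠ ⊥) : sigmaCore M ⊓ centralizer (P : Set G) = ⊥ := by
  by_contra hX
  haveI hpf : Fact p.Prime := ⟨hp.1⟩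
  have hqp : q.Prime := hqf.out
  have hEM : E ≤ M := hE.1
  have hAM : A ≤ M := hAE.trans hEM
  have h17M := Cfsg.Agent.S1417.result hG M hM q hq A ⟨hAM, hAe, hAc⟩
  have h18M := Cfsg.Agent.S1418.result hG M hM E hE q hq A ⟨hAE, hAe, hAc⟩
  have h18 : Cfsg.Agent.Lib.Helper10.BG13.StmtR1418 G := fun M hM E hE p _ hp A hA =>
    Cfsg.Agent.S1418.result hG M hM E hE p hp A hA
  have hEA : E ≤ normalizer (A : Set G) := h18M.1.1
  have hPA : P ≤ normalizer (A : Set G) := hPE.trans hEA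
  have hpq : p ≠ q := by
    rintro rfl
    exact hq.2.2.2 hp.2.2.2.2
  have hAq : IsPGroup q A := BG10.isPGroup_of_elemAb hAe
  have hPq : (Nat.card P).Coprime q := by
    rw [hP]; exact (Nat.coprime_primes hpf.out hqp).mpr hpq
  -- (1)
  have hAnC : ¬ A ≤ centralizer (P : Set G) := by
    intro hAC
    apply hX
    rw [eq_bot_iff, ← h17M.2.2.2.1]
    intro a ha
    refine ⟨ha.1, ?_⟩
    show a ∈ centralizer (A : Set G)
    rw [mem_centralizer_iff]
    intro b hb
    by_cases hb1 : b = 1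
    · rw [hb1]; simp
    have hbo : orderOf b = q := by
      have := orderOf_dvd_of_pow_eq_one (hAe.2 b hb)
      rcases (Nat.dvd_prime hqp).mp this with h | h
      · exact absurd (orderOf_eq_one_iff.mp h) hb1
      · exact h
    have hzc : Nat.card (zpowers b) = q := by rw [Nat.card_zpowers, hbo]
    have hR0 : zpowers b ≤ E ⊓ centralizer (P : Set G) := by
      rw [zpowers_le]; exact ⟨hAE hb, hAC hb⟩
    have h134 := h28 M hM E hE p hp P hPE hP (zpowers b) hR0 (by rw [hzc]; exact hqp) ha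
    have := h134.2
    rw [Cfsg.Agent.Lib.Helper10.BG13.centralizer_zpowers'] at this
    exact (mem_centralizer_iff.mp this b rfl)
  set A₀ : Subgroup G := A ⊓ centralizer (P : Set G) with hA₀
  have hA₀c : Nat.card A₀ = q := card_inf_eq_prime hAc hAP hAnC
  have hA₀E : A₀ ≤ E := inf_le_left.trans hAE
  have hXA₀ : sigmaCore M ⊓ centralizer (P : Set G) ≤ centralizer (A₀ : Set G) :=
    (h28 M hM E hE p hp P hPE hP A₀ (le_inf hA₀E inf_le_right)
      (by rw [hA₀c]; exact hqp)).trans inf_le_right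
  -- (2)
  have hMtop : M ≠ ⊤ := hM.1
  have hA1 : A ≠ ⊥ := by
    intro h
    apply hAP
    rw [hA₀, h]; exact bot_inf_eq _
  have hAtop : A ≠ ⊤ := by
    intro h
    apply hMtop
    rw [eq_top_iff, ← h]; exact hAM
  have hNA : normalizer (A : Set G) ≠ ⊤ := BG10.normalizer_ne_top hG hA1 hAtop
  obtain ⟨H, hH, hNH⟩ := (eq_top_or_exists_le_coatom _).resolve_left hNA
  have hqσ : q ∈ sigma H := Cfsg.Agent.Lib.Helper10.BG14.mem_sigma_of_normalizer_le hG h18 hH hAe
    hAc hNH
  have hne : H ≠ M := by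
    rintro rfl
    exact h18M.2.1.2.2 hNH
  have hEH : E ≤ H := hEA.trans hNH
  have hAH : A ≤ H := hAE.trans hEH
  have hPH : P ≤ H := hPE.trans hEH
  have hMH : sigmaCore M ⊓ H = ⊥ := h17M.2.2.2.2.1 H hH hne hAH
  have h08 := Cfsg.Agent.S1408.result hG M hM q hq.2.1 hq.2.2.1 hq.2.2.2
  have hni : ¬ IsIdealPrime q G := h08.1
  have hmax : ∀ B : Subgroup G, IsElementaryAbelian q B → A ≤ B → B = A :=
    h08.2 A hAM hAe hAc
  have hσH := sigmaHallIn hG hH
  have hHtop : H ≠ ⊤ := hH.1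
  have hHn : H ≤ normalizer ((sigmaCore H : Subgroup G) : Set G) :=
    Cfsg.Agent.Lib.Helper24.BG.le_normalizer_sigmaCore H
  have hAσ : A ≤ sigmaCore H :=
    Cfsg.Agent.Lib.Helper47.BG11.le_sigmaCore_of_sigma hσH hqσ hAH hAq
  have hA₀σ : A₀ ≤ sigmaCore H ⊓ centralizer (P : Set G) := le_inf (inf_le_left.trans hAσ) inf_le_right
  have hA₀1 : A₀ ≠ ⊥ := hAP
  have hqH : q ∣ Nat.card H := hqσ.2.1
  have hqβ : q ∉ beta H := fun h => hni h.2
  have h14 := (Cfsg.Agent.S1414.result hG H hH).2.2.2.2 q hqp hqH hqβ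
  obtain ⟨O, hO⟩ := npcIn_of_hasNormalPComplement h14.1
  obtain ⟨K, hK⟩ := npcIn_of_hasNormalPComplement h14.2.1
  have hpH : p ∣ Nat.card H := by rw [← hP]; exact Subgroup.card_dvd_of_le hPH
  have hPp : IsPGroup p P := IsPGroup.of_card (n := 1) (by rw [hP, pow_one])
  -- (3)
  have hpσ : p ∉ sigma H := by
    intro hσ
    have hPσ : P ≤ sigmaCore H :=
      Cfsg.Agent.Lib.Helper47.BG11.le_sigmaCore_of_sigma hσH hσ hPH hPp
    apply hAnC
    intro a ha
    rw [mem_centralizer_iff]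
    intro x hx
    exact (comm_of_npc hK (hAH.trans hHn) hPσ hPq hAq hPA a ha x hx).symm
  have hp2 : PRankLE p 2 H := by
    by_contra h2
    exact hpσ (Cfsg.Agent.Lib.Helper23.alpha_subset_sigma hG (uniqStmt hG) hH ⟨hpf.out, h2⟩)
  have hXH : ¬ sigmaCore M ⊓ centralizer (P : Set G) ≤ H := by
    intro h
    apply hX
    rw [eq_bot_iff, ← hMH]
    exact le_inf inf_le_left h
  have hpτ : p ∈ tau1 H := by
    by_cases hp1 : PRankLE p 1 H
    · refine ⟨hpf.out, hpσ, hpH, ?_, hp1⟩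
      intro hd
      have hHc : H ≤ normalizer ((⁅H, H⁆ : Subgroup G) : Set G) := le_normalizer_commutator_self H
      have hPc : P ≤ ⁅H, H⁆ :=
        Cfsg.Agent.Lib.Helper63.BG13.le_of_card_prime_of_pRankLE_one hG hp1
          (Subgroup.commutator_le_self H) hHc hd hP hPH
      apply hAnC
      intro a ha
      rw [mem_centralizer_iff]
      intro x hx
      exact (comm_of_npc hO (hAH.trans hHc) hPc hPq hAq hPA a ha x hx).symm
    · exfalso
      have hτ2 : p ∈ tau2 H := ⟨hpf.out, hpσ, hp2, hp1⟩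
      have hcopP : (Nat.card P).Coprime (Nat.card (sigmaCore H)) := by
        rw [hP]
        apply (Nat.Prime.coprime_iff_not_dvd hpf.out).mpr
        intro hd
        exact hpσ (Cfsg.Agent.Lib.Helper24.BG.mem_sigma_of_dvd_card_sigmaCore H hpf.out hd)
      obtain ⟨E₀, hE₀, hPE₀⟩ := BG13.exists_compl_ge hG hHtop hσH hPH hcopP
      obtain ⟨Ap, hApE, hApel, hApc⟩ :=
        Cfsg.Agent.Lib.Helper96.BG127.exists_elemAb_sq_le_compl hE₀ hτ2
      have h18H := Cfsg.Agent.S1418.result hG H hH E₀ hE₀ p hτ2 Ap ⟨hApE, hApel, hApc⟩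
      have hPAp : P ≤ Ap := h18H.1.2 P hPE₀ hP
      have hbad : sigmaCore H ⊓ centralizer (P : Set G) ≠ ⊥ := by
        intro h
        apply hA₀1
        rw [eq_bot_iff, ← h]
        exact hA₀σ
      have hCP := (h18H.2.2 P hPAp hP hbad).1
      exact hXH (inf_le_right.trans hCP)
  -- (4)
  have hcopP : (Nat.card P).Coprime (Nat.card (sigmaCore H)) := by
    rw [hP]
    apply (Nat.Prime.coprime_iff_not_dvd hpf.out).mpr
    intro hd
    exact hpσ (Cfsg.Agent.Lib.Helper24.BG.mem_sigma_of_dvd_card_sigmaCore H hpf.out hd)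
  obtain ⟨E₀, hE₀, hPE₀⟩ := BG13.exists_compl_ge hG hHtop hσH hPH hcopP
  have hreg : RegOnTau2 H E₀ P :=
    regOnTau2 hG h28 hH hE₀ hpτ hPE₀ hP hAσ hAe hAc hmax hA₀σ hA₀1
  have hkey : A₀ ≤ ⁅sigmaCore H, sigmaCore H⁆ :=
    le_commutator_sigmaCore hG h28 hH hE₀ hpτ hPE₀ hP hreg hni hA₀σ hA₀c
  obtain ⟨Sq⟩ : Nonempty (Sylow q ↥(sigmaCore H)) := inferInstance
  have h23 := Cfsg.Agent.S1423.result hG H hH q hqσ A₀ (hA₀E.trans hEH) hA₀c Sq (Or.inr hkey)
  exact hXH (hXA₀.trans h23.1.1)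

/-- **B&G Lemma 13.12**, unconditional form. -/
theorem bg13_12' (hG : IsMinSimpleOddOrder G) (h28 : Stmt1428 G) :
    ∀ (M : Subgroup G), IsCoatom M → ∀ E : Subgroup G, IsComplIn E (sigmaCore M) M →
    ∀ p : ℕ, p ∈ tau1 M → ∀ P : Subgroup G, P ≤ E → Nat.card P = p →
    ∀ (q : ℕ) [Fact q.Prime], q ∈ tau2 M → ∀ A : Subgroup G, A ≤ E → IsElementaryAbelian q A →
      Nat.card A = q ^ 2 → A ⊓ centralizer (P : Set G) ≠ ⊥ →
      sigmaCore M ⊓ centralizer (P : Set G) = ⊥ :=
  fun M hM E hE p hp P hPE hP q _ hq A hAE hAe hAc hAP =>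
    bg13_12 hG h28 hM hE hp hPE hP hq hAE hAe hAc hAP

end Cfsg.Agent.Lib.Helper10.BG1312
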