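import Mathlib
import Cfsg.Prelude.Def_OddOrderLocal
import Cfsg.Agent.Lib.Helper10.BG1312c
import Cfsg.Agent.S1428

/-!
# B&G Lemma 13.12 (`tau12_regular`), unconditional (S1428 = B&G 13.4 is landed)

`M` maximal, `E` a complement of `M_σ`, `p ∈ τ₁(M)`, `P ≤ E` of order `p`, `q ∈ τ₂(M)`,
`A ≤ E` elementary abelian of order `q²` with `C_A(P) ≠ 1`.  Then `C_{M_σ}(P) = 1`.
-/

set_option autoImplicit false

namespace Cfsg.Agent.Lib.Helper10.BG1312

open Subgroup Cfsg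
open Cfsg.Agent.Lib.Helper21.BG139 (Stmt1428)

universe u

variable {G : Type u} [Group G] [Finite G]

/-- S1428 in the `Stmt1428` shape -/
theorem stmt1428 (hG : IsMinSimpleOddOrder G) : Stmt1428 G :=
  fun M hM E hE p hp P hPE hP R hRE hR =>
    Cfsg.Agent.S1428.result hG M hM E hE p hp P hPE hP R hRE hR

/-- **B&G Lemma 13.12** (`tau12_regular`). -/
theorem tau12_regular (hG : IsMinSimpleOddOrder G) {M E P A : Subgroup G}
    (hM : IsCoatom M) (hE : IsComplIn E (sigmaCore M) M) {p : ℕ} (hp : p ∈ tau1 M)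
    (hPE : P ≤ E) (hP : Nat.card P = p) {q : ℕ} [Fact q.Prime] (hq : q ∈ tau2 M)
    (hAE : A ≤ E) (hAe : IsElementaryAbelian q A) (hAc : Nat.card A = q ^ 2)
    (hAP : A ⊓ centralizer (P : Set G) ≠ ⊥) : sigmaCore M ⊓ centralizer (P : Set G) = ⊥ :=
  bg13_12 hG (stmt1428 hG) hM hE hp hPE hP hq hAE hAe hAc hAP

/-- contrapositive form: a `τ₁`-subgroup `P` of order `p` of `E` with `C_{M_σ}(P) ≠ 1` acts
regularly on every `E_{q²}` of `E`, `q ∈ τ₂(M)`. -/
theorem inf_centralizer_eq_bot_of_kappa (hG : IsMinSimpleOddOrder G) {M E P A : Subgroup G}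
    (hM : IsCoatom M) (hE : IsComplIn E (sigmaCore M) M) {p : ℕ} (hp : p ∈ tau1 M)
    (hPE : P ≤ E) (hP : Nat.card P = p) (hX : sigmaCore M ⊓ centralizer (P : Set G) ≠ ⊥)
    {q : ℕ} [Fact q.Prime] (hq : q ∈ tau2 M)
    (hAE : A ≤ E) (hAe : IsElementaryAbelian q A) (hAc : Nat.card A = q ^ 2) :
    A ⊓ centralizer (P : Set G) = ⊥ := by
  by_contra h
  exact hX (tau12_regular hG hM hE hp hPE hP hq hAE hAe hAc h)

end Cfsg.Agent.Lib.Helper10.BG1312
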