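import Mathlib
import Cfsg.Agent.Lib.Helper56.FrobApply

/-!
# A double Frobenius count (for B&G 15.8 / CLAIM F, step [F2f])

`D ⋊ Y` a Frobenius-like group (`Y ≠ 1` acting without fixed points on `D`) acting coprimely on a
solvable group `Q` and on a subgroup `Q₀ ≤ Q`.  If `C_Q(D) ≤ Q₀` and `C_Q(Y) ≤ Q₀` then `Q = Q₀`.
(No quotient `Q / Q₀` is needed: apply the Frobenius fixed point formula to `Q` and to `Q₀`.)
-/

set_option autoImplicit false
set_option linter.unusedSectionVars false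
set_option linter.unusedVariables false
set_option linter.style.haveILetI false

universe u

namespace Cfsg.Agent.Lib.Helper10.BG159Cnt

open Subgroup

variable {X : Type u} [Group X] [Finite X]

/-- **double Frobenius count.** -/
theorem eq_of_frobenius_count (D Y Q Q0 : Subgroup X) (hY1 : Y ≠ ⊥)
    (hDn : ∀ e ∈ Y, ∀ u ∈ D, e * u * e⁻¹ ∈ D)
    (hfpf : ∀ e ∈ Y, e ≠ 1 → ∀ u ∈ D, e * u = u * e → u = 1)
    (hQn : ∀ x ∈ D ⊔ Y, ∀ h ∈ Q, x * h * x⁻¹ ∈ Q)
    (hQ0n : ∀ x ∈ D ⊔ Y, ∀ h ∈ Q0, x * h * x⁻¹ ∈ Q0)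
    (hsolv : Group.IsSolvable Q)
    (hcop : Nat.Coprime (Nat.card Q) (Nat.card ↥(D ⊔ Y)))
    (hle : Q0 ≤ Q)
    (hCD : Q ⊓ centralizer (D : Set X) ≤ Q0)
    (hCY : Q ⊓ centralizer (Y : Set X) ≤ Q0) : Q = Q0 := by
  have hsolv0 : Group.IsSolvable Q0 := by
    have : Group.IsSolvable (Q0.subgroupOf Q) := inferInstance
    exact Group.isSolvable_of_isSolvable_injective (f := (Subgroup.subgroupOfEquivOfLe hle).symm.toMonoidHom)
      (Subgroup.subgroupOfEquivOfLe hle).symm.injective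
  have hcop0 : Nat.Coprime (Nat.card Q0) (Nat.card ↥(D ⊔ Y)) :=
    Nat.Coprime.coprime_dvd_left (Subgroup.card_dvd_of_le hle) hcop
  have h1 := Cfsg.Agent.Lib.Helper56.FrobApply.frobenius_formula D Y Q hY1 hDn hfpf hQn hsolv hcop
  have h2 := Cfsg.Agent.Lib.Helper56.FrobApply.frobenius_formula D Y Q0 hY1 hDn hfpf hQ0n hsolv0 hcop0
  have eD : Q ⊓ centralizer (D : Set X) = Q0 ⊓ centralizer (D : Set X) :=
    le_antisymm (le_inf hCD inf_le_right) (inf_le_inf_right _ hle)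
  have eY : Q ⊓ centralizer (Y : Set X) = Q0 ⊓ centralizer (Y : Set X) :=
    le_antisymm (le_inf hCY inf_le_right) (inf_le_inf_right _ hle)
  have hDY : centralizer ((D ⊔ Y : Subgroup X) : Set X) ≤ centralizer (D : Set X) :=
    Subgroup.centralizer_le (by exact_mod_cast (le_sup_left : D ≤ D ⊔ Y))
  have eDY : Q ⊓ centralizer ((D ⊔ Y : Subgroup X) : Set X)
      = Q0 ⊓ centralizer ((D ⊔ Y : Subgroup X) : Set X) :=
    le_antisymm (le_inf ((inf_le_inf_left _ hDY).trans hCD) inf_le_right) (inf_le_inf_right _ hle)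
  rw [eD, eY, eDY] at h1
  rw [← h2] at h1
  have hpos : 0 < Nat.card ↥(Q0 ⊓ centralizer ((D ⊔ Y : Subgroup X) : Set X)) ^ Nat.card Y :=
    Nat.pos_of_ne_zero (pow_ne_zero _ Nat.card_pos.ne')
  have hcard : Nat.card Q = Nat.card Q0 := Nat.eq_of_mul_eq_mul_left hpos h1
  exact (Subgroup.eq_of_le_of_card_ge hle hcard.le).symm
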