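import Mathlib
import Cfsg.Agent.Lib.Helper10.Card

set_option autoImplicit false

namespace Cfsg.Agent.Lib.Helper10

open scoped commutatorElement
open Pointwise

/-- counting by fibres: if every fibre of `f : α → β` injects into `γ` then `|α| ≤ |γ| |β|` -/
theorem card_le_mul_of_fiber_inj {α β γ : Type*} [Finite α] [Finite β] [Finite γ] (f : α → β)
    (h : ∀ a₀ : α, ∃ g : {a // f a = f a₀} → γ, Function.Injective g) :
    Nat.card α ≤ Nat.card γ * Nat.card β := by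
  classical
  have : Fintype β := Fintype.ofFinite β
  have h1 : Nat.card α = Nat.card (Σ y : β, {x // f x = y}) :=
    Nat.card_congr (Equiv.sigmaFiberEquiv f).symm
  rw [h1, Nat.card_sigma]
  have hle : ∀ y : β, Nat.card {x // f x = y} ≤ Nat.card γ := by
    intro y
    by_cases hy : ∃ a₀, f a₀ = y
    · obtain ⟨a₀, rfl⟩ := hy
      obtain ⟨g, hg⟩ := h a₀
      exact Nat.card_le_card_of_injective g hg
    · have : IsEmpty {x // f x = y} := ⟨fun x => hy ⟨x.1, x.2⟩⟩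
      simp
  calc ∑ y : β, Nat.card {x // f x = y} ≤ ∑ _y : β, Nat.card γ := Finset.sum_le_sum fun y _ => hle y
    _ = Nat.card γ * Nat.card β := by
      rw [Finset.sum_const, Finset.card_univ, smul_eq_mul, ← Nat.card_eq_fintype_card, mul_comm]

variable {G : Type*} [Group G]

theorem centralizer_sup_eq (X₁ X₂ : Subgroup G) :
    Subgroup.centralizer ((X₁ ⊔ X₂ : Subgroup G) : Set G) =
      Subgroup.centralizer (X₁ : Set G) ⊓ Subgroup.centralizer (X₂ : Set G) := by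
  apply le_antisymm
  · exact le_inf (Subgroup.centralizer_le (le_sup_left : X₁ ≤ X₁ ⊔ X₂))
      (Subgroup.centralizer_le (le_sup_right : X₂ ≤ X₁ ⊔ X₂))
  · intro x hx
    rw [Subgroup.mem_centralizer_iff]
    have h1 : X₁ ⊔ X₂ ≤ Subgroup.centralizer ({x} : Set G) := by
      apply sup_le
      · intro h hh
        rw [Subgroup.mem_centralizer_iff]
        intro y hy
        rw [Set.mem_singleton_iff] at hy
        subst hy
        exact (Subgroup.mem_centralizer_iff.mp hx.1 h hh).symm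
      · intro h hh
        rw [Subgroup.mem_centralizer_iff]
        intro y hy
        rw [Set.mem_singleton_iff] at hy
        subst hy
        exact (Subgroup.mem_centralizer_iff.mp hx.2 h hh).symm
    intro h hh
    have := Subgroup.mem_centralizer_iff.mp (h1 hh) x (Set.mem_singleton x)
    exact this.symm

/-- the context of the replacement theorems: `V` abelian, `A` normalizes `V` and acts with abelian
image -/
structure ReplCtx (V A : Subgroup G) : Prop where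
  comm : ∀ x ∈ V, ∀ y ∈ V, x * y = y * x
  norm : A ≤ Subgroup.normalizer (V : Set G)
  ab : ⁅A, A⁆ ≤ Subgroup.centralizer (V : Set G)

namespace ReplCtx

variable {V A : Subgroup G} (h : ReplCtx V A)
include h

theorem conj_mem {a v : G} (ha : a ∈ A) (hv : v ∈ V) : a * v * a⁻¹ ∈ V :=
  (Subgroup.mem_normalizer_iff.mp (h.norm ha) v).mp hv

theorem comm_mem {a v : G} (ha : a ∈ A) (hv : v ∈ V) : ⁅v, a⁆ ∈ V := by
  rw [commutatorElement_def]
  have : v * a * v⁻¹ * a⁻¹ = v * (a * v⁻¹ * a⁻¹) := by group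
  rw [this]
  exact V.mul_mem hv (h.conj_mem ha (V.inv_mem hv))

theorem commutator_le {U : Subgroup G} (hU : U ≤ V) : ⁅U, A⁆ ≤ V :=
  Subgroup.commutator_le.mpr fun _ hu _ ha => h.comm_mem ha (hU hu)

/-- the actions of two elements of `A` on `V` commute -/
theorem conj_conj_comm {a b v : G} (ha : a ∈ A) (hb : b ∈ A) (hv : v ∈ V) :
    a * (b * v * b⁻¹) * a⁻¹ = b * (a * v * a⁻¹) * b⁻¹ := by
  have hc : ⁅a, b⁆ ∈ Subgroup.centralizer (V : Set G) :=
    h.ab (Subgroup.commutator_mem_commutator ha hb)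
  have hw : b * (a * v * a⁻¹) * b⁻¹ ∈ V := h.conj_mem hb (h.conj_mem ha hv)
  have h1 := Subgroup.mem_centralizer_iff.mp hc _ hw
  -- h1 : w * ⁅a,b⁆ = ⁅a,b⁆ * w
  have h2 : a * (b * v * b⁻¹) * a⁻¹ = ⁅a, b⁆ * (b * (a * v * a⁻¹) * b⁻¹) * ⁅a, b⁆⁻¹ := by
    rw [commutatorElement_def]; group
  rw [h2, ← h1]; group

/-- key identity: if `t` moves `v` by a fixed point `z` of `A`, it centralizes `[v, c]` -/
theorem conj_comm_eq {t c v z : G} (ht : t ∈ A) (hc : c ∈ A) (hv : v ∈ V)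
    (hzC : z ∈ Subgroup.centralizer (A : Set G)) (htv : t * v * t⁻¹ = v * z) :
    t * ⁅v, c⁆ * t⁻¹ = ⁅v, c⁆ := by
  have h1 : t * ⁅v, c⁆ * t⁻¹ = (t * v * t⁻¹) * (t * (c * v * c⁻¹) * t⁻¹)⁻¹ := by
    rw [commutatorElement_def]; group
  have hcz : c * z = z * c := Subgroup.mem_centralizer_iff.mp hzC c hc
  rw [h1, h.conj_conj_comm ht hc hv, htv]
  have h3 : c * z * c⁻¹ = z := by rw [hcz]; group
  have h2 : c * (v * z) * c⁻¹ = c * v * c⁻¹ * z := by
    calc c * (v * z) * c⁻¹ = c * v * c⁻¹ * (c * z * c⁻¹) := by group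
      _ = c * v * c⁻¹ * z := by rw [h3]
  rw [h2, commutatorElement_def]; group

/-- if `[u,a] w = [u,a'] w'` with `w, w'` fixed by `A`, then `a⁻¹ a'` centralizes `[⟨u⟩, A]` -/
theorem inv_mul_mem_centralizer {u a a' w w' : G} (hu : u ∈ V) (ha : a ∈ A) (ha' : a' ∈ A)
    (hw : w ∈ V ⊓ Subgroup.centralizer (A : Set G))
    (hw' : w' ∈ V ⊓ Subgroup.centralizer (A : Set G))
    (heq : ⁅u, a⁆ * w = ⁅u, a'⁆ * w') :
    a⁻¹ * a' ∈ Subgroup.centralizer ((⁅Subgroup.zpowers u, A⁆ : Subgroup G) : Set G) := by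
  have hzV : w' * w⁻¹ ∈ V := V.mul_mem hw'.1 (V.inv_mem hw.1)
  have hzC : w' * w⁻¹ ∈ Subgroup.centralizer (A : Set G) :=
    Subgroup.mul_mem _ hw'.2 (Subgroup.inv_mem _ hw.2)
  set z := w' * w⁻¹ with hz
  set t := a⁻¹ * a' with ht
  have htA : t ∈ A := A.mul_mem (A.inv_mem ha) ha'
  have e0 : ⁅u, a'⁆ = ⁅u, a⁆ * w * w'⁻¹ := eq_mul_inv_of_mul_eq heq.symm
  have e1 : a' * u * a'⁻¹ = z * (a * u * a⁻¹) := by
    have : a' * u * a'⁻¹ = (u⁻¹ * ⁅u, a'⁆)⁻¹ := by rw [commutatorElement_def]; group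
    rw [this, e0, hz, commutatorElement_def]; group
  have haz : a * z = z * a := Subgroup.mem_centralizer_iff.mp hzC a ha
  have e2 : t * u * t⁻¹ = u * z := by
    have : t * u * t⁻¹ = a⁻¹ * (a' * u * a'⁻¹) * a := by rw [ht]; group
    rw [this, e1]
    have h3 : a⁻¹ * (z * (a * u * a⁻¹)) * a = a⁻¹ * (z * a) * u := by group
    rw [h3, ← haz, h.comm u hu z hzV]; group
  have e3 : ∀ k : ℤ, t * u ^ k * t⁻¹ = u ^ k * z ^ k := by
    intro k
    rw [← conj_zpow, e2]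
    have hcm : Commute u z := h.comm u hu z hzV
    exact hcm.mul_zpow k
  rw [Subgroup.mem_centralizer_iff]
  have hle : ⁅Subgroup.zpowers u, A⁆ ≤ Subgroup.centralizer ({t} : Set G) := by
    rw [Subgroup.commutator_le]
    rintro _ ⟨k, rfl⟩ c hc
    rw [Subgroup.mem_centralizer_iff]
    intro y hy
    rw [Set.mem_singleton_iff] at hy
    subst hy
    have := h.conj_comm_eq htA hc (V.zpow_mem hu k)
      (Subgroup.zpow_mem _ hzC k) (e3 k)
    calc t * ⁅u ^ k, c⁆ = (t * ⁅u ^ k, c⁆ * t⁻¹) * t := by group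
      _ = ⁅u ^ k, c⁆ * t := by rw [this]
  intro x hx
  exact (Subgroup.mem_centralizer_iff.mp (hle hx) t (Set.mem_singleton t)).symm

/-- the counting inequality `|A| |X ∩ W| ≤ |C_A(X)| |X|` for `X = [⟨u⟩, A]`, `W = C_V(A)` -/
theorem card_mul_le_cyclic [Finite G] {u : G} (hu : u ∈ V) :
    Nat.card A * Nat.card ↥(⁅Subgroup.zpowers u, A⁆ ⊓ (V ⊓ Subgroup.centralizer (A : Set G))) ≤
      Nat.card ↥(A ⊓ Subgroup.centralizer ((⁅Subgroup.zpowers u, A⁆ : Subgroup G) : Set G)) *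
        Nat.card ↥(⁅Subgroup.zpowers u, A⁆ : Subgroup G) := by
  set X : Subgroup G := ⁅Subgroup.zpowers u, A⁆ with hX
  let f : A × ↥(X ⊓ (V ⊓ Subgroup.centralizer (A : Set G))) → X := fun x =>
    ⟨⁅u, (x.1 : G)⁆ * (x.2 : G), X.mul_mem
      (Subgroup.commutator_mem_commutator (Subgroup.mem_zpowers u) x.1.2) x.2.2.1⟩
  have key := card_le_mul_of_fiber_inj (γ := ↥(A ⊓ Subgroup.centralizer (X : Set G))) f (by
    rintro ⟨a₀, w₀⟩
    refine ⟨fun x => ⟨(a₀ : G)⁻¹ * (x.1.1 : G), A.mul_mem (A.inv_mem a₀.2) x.1.1.2, ?_⟩, ?_⟩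
    · have hx : ⁅u, (x.1.1 : G)⁆ * (x.1.2 : G) = ⁅u, (a₀ : G)⁆ * (w₀ : G) :=
        congrArg Subtype.val x.2
      exact h.inv_mul_mem_centralizer hu a₀.2 x.1.1.2 w₀.2.2 x.1.2.2.2 hx.symm
    · rintro ⟨⟨a, w⟩, hx⟩ ⟨⟨a', w'⟩, hx'⟩ hg
      have h1 : (a₀ : G)⁻¹ * (a : G) = (a₀ : G)⁻¹ * (a' : G) := congrArg Subtype.val hg
      have h2 : (a : G) = a' := mul_left_cancel h1
      have h3 : a = a' := Subtype.ext h2
      subst h3
      have e1 : ⁅u, (a : G)⁆ * (w : G) = ⁅u, (a₀ : G)⁆ * (w₀ : G) := congrArg Subtype.val hx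
      have e2 : ⁅u, (a : G)⁆ * (w' : G) = ⁅u, (a₀ : G)⁆ * (w₀ : G) := congrArg Subtype.val hx'
      have h4 : (w : G) = w' := mul_left_cancel (e1.trans e2.symm)
      have h5 : w = w' := Subtype.ext h4
      subst h5
      rfl)
  rw [Nat.card_prod] at key
  exact key

end ReplCtx

/-- the product `|B| |C_V(B)|` -/
noncomputable def offVal (V B : Subgroup G) : ℕ :=
  Nat.card B * Nat.card ↥(V ⊓ Subgroup.centralizer (B : Set G))

theorem nat_sm_aux {b₁ b₂ c₁ c₂ x₁ x₂ c d e m : ℕ} (hpos : 0 < x₁ * c) (hx2 : 0 < x₂)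
    (h1 : b₁ * c₁ = m) (h2 : b₂ * c₂ = m) (hsup : x₁ * c ≤ m) (hinf : x₂ * e ≤ m)
    (hx : b₁ * b₂ ≤ x₁ * x₂) (hd : d * c = c₁ * c₂) (hde : d ≤ e) : x₂ * e = m ∧ d = e := by
  have key : m * m ≤ (x₁ * c) * (x₂ * d) := by
    calc m * m = (b₁ * c₁) * (b₂ * c₂) := by rw [h1, h2]
      _ = (b₁ * b₂) * (d * c) := by rw [hd]; ring
      _ ≤ (x₁ * x₂) * (d * c) := Nat.mul_le_mul_right _ hx
      _ = (x₁ * c) * (x₂ * d) := by ring
  have k2 : (x₁ * c) * (x₂ * d) ≤ (x₁ * c) * (x₂ * e) :=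
    Nat.mul_le_mul_left _ (Nat.mul_le_mul_left _ hde)
  have k3 : (x₁ * c) * (x₂ * e) ≤ m * m := Nat.mul_le_mul hsup hinf
  have e1 : (x₁ * c) * (x₂ * d) = (x₁ * c) * (x₂ * e) := le_antisymm k2 (k3.trans key)
  have e2 : x₂ * d = x₂ * e := Nat.eq_of_mul_eq_mul_left hpos e1
  have e3 : d = e := Nat.eq_of_mul_eq_mul_left hx2 e2
  refine ⟨?_, e3⟩
  by_contra hne
  have hlt : x₂ * e < m := lt_of_le_of_ne hinf hne
  have : (x₁ * c) * (x₂ * e) < (x₁ * c) * m := Nat.mul_lt_mul_of_pos_left hlt hpos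
  have h4 : (x₁ * c) * m ≤ m * m := Nat.mul_le_mul_right _ hsup
  have h5 : m * m ≤ (x₁ * c) * (x₂ * e) := key.trans k2
  omega

theorem commuting_le_normalizer {V C₁ C₂ : Subgroup G} (hVc : ∀ x ∈ V, ∀ y ∈ V, x * y = y * x)
    (h₁ : C₁ ≤ V) (h₂ : C₂ ≤ V) : C₁ ≤ Subgroup.normalizer (C₂ : Set G) := by
  refine le_trans ?_ (Subgroup.centralizer_le_normalizer _)
  intro x hx
  rw [Subgroup.mem_centralizer_iff]
  intro y hy
  exact hVc y (h₂ hy) x (h₁ hx)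

/-- supermodularity of `B ↦ |B| |C_V(B)|`, in the case of equality -/
theorem offVal_inf_of_max [Finite G] {V : Subgroup G} (hVc : ∀ x ∈ V, ∀ y ∈ V, x * y = y * x)
    (B₁ B₂ : Subgroup G) (m : ℕ) (h1 : offVal V B₁ = m) (h2 : offVal V B₂ = m)
    (hsup : offVal V (B₁ ⊔ B₂) ≤ m) (hinf : offVal V (B₁ ⊓ B₂) ≤ m) :
    offVal V (B₁ ⊓ B₂) = m ∧
      V ⊓ Subgroup.centralizer ((B₁ ⊓ B₂ : Subgroup G) : Set G) =
        (V ⊓ Subgroup.centralizer (B₁ : Set G)) ⊔ (V ⊓ Subgroup.centralizer (B₂ : Set G)) := by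
  unfold offVal at h1 h2 hsup hinf ⊢
  set C₁ := V ⊓ Subgroup.centralizer (B₁ : Set G) with hC₁
  set C₂ := V ⊓ Subgroup.centralizer (B₂ : Set G) with hC₂
  have hx : Nat.card B₁ * Nat.card B₂ ≤ Nat.card ↥(B₁ ⊔ B₂) * Nat.card ↥(B₁ ⊓ B₂) := by
    rw [← card_mul_set_mul_card_inf B₁ B₂]
    apply Nat.mul_le_mul_right
    have hsub : (B₁ : Set G) * (B₂ : Set G) ⊆ ((B₁ ⊔ B₂ : Subgroup G) : Set G) := by
      rintro _ ⟨a, ha, b, hb, rfl⟩
      exact Subgroup.mul_mem _ ((le_sup_left : B₁ ≤ B₁ ⊔ B₂) ha) ((le_sup_right : B₂ ≤ B₁ ⊔ B₂) hb)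
    exact Nat.card_le_card_of_injective (fun x => (⟨x.1, hsub x.2⟩ : ↥(B₁ ⊔ B₂)))
      (fun x y hxy => Subtype.ext (by
        have : ((⟨x.1, hsub x.2⟩ : ↥(B₁ ⊔ B₂)) : G) = ((⟨y.1, hsub y.2⟩ : ↥(B₁ ⊔ B₂)) : G) :=
          congrArg Subtype.val hxy
        exact this))
  have hd : Nat.card ↥(C₁ ⊔ C₂) * Nat.card ↥(C₁ ⊓ C₂) = Nat.card C₁ * Nat.card C₂ :=
    card_sup_mul_card_inf (commuting_le_normalizer hVc inf_le_left inf_le_left)
  have hsupC : V ⊓ Subgroup.centralizer ((B₁ ⊔ B₂ : Subgroup G) : Set G) = C₁ ⊓ C₂ := by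
    rw [centralizer_sup_eq, hC₁, hC₂, inf_inf_distrib_left]
  have hle : C₁ ⊔ C₂ ≤ V ⊓ Subgroup.centralizer ((B₁ ⊓ B₂ : Subgroup G) : Set G) := by
    apply sup_le
    · exact inf_le_inf_left V (Subgroup.centralizer_le (inf_le_left : B₁ ⊓ B₂ ≤ B₁))
    · exact inf_le_inf_left V (Subgroup.centralizer_le (inf_le_right : B₁ ⊓ B₂ ≤ B₂))
  rw [hsupC] at hsup
  have hde : Nat.card ↥(C₁ ⊔ C₂) ≤
      Nat.card ↥(V ⊓ Subgroup.centralizer ((B₁ ⊓ B₂ : Subgroup G) : Set G)) :=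
    Subgroup.card_le_of_le hle
  have hpos : 0 < Nat.card ↥(B₁ ⊔ B₂) * Nat.card ↥(C₁ ⊓ C₂) := Nat.mul_pos Nat.card_pos Nat.card_pos
  obtain ⟨r1, r2⟩ := nat_sm_aux hpos Nat.card_pos h1 h2 hsup hinf hx hd hde
  refine ⟨r1, ?_⟩
  exact (Subgroup.eq_of_le_of_card_ge hle (le_of_eq r2.symm)).symm

/-- the conclusion of the replacement theorem for the subgroup `U` of `V` -/
def ReplProp (V A U : Subgroup G) : Prop :=
  V ⊓ Subgroup.centralizer ((A ⊓ Subgroup.centralizer ((⁅U, A⁆ : Subgroup G) : Set G) :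
      Subgroup G) : Set G) = ⁅U, A⁆ ⊔ (V ⊓ Subgroup.centralizer (A : Set G)) ∧
    offVal V A = offVal V (A ⊓ Subgroup.centralizer ((⁅U, A⁆ : Subgroup G) : Set G))

theorem nat_cy_aux {s i x w a b e : ℕ} (hi : 0 < i) (hb : 0 < b) (h1 : s * i = x * w)
    (h2 : a * i ≤ b * x) (h3 : b * e ≤ a * w) (h4 : s ≤ e) : e = s ∧ a * w = b * e := by
  have k1 : (a * w) * i ≤ (b * s) * i := by
    calc (a * w) * i = (a * i) * w := by ring
      _ ≤ (b * x) * w := Nat.mul_le_mul_right _ h2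
      _ = (b * s) * i := by rw [mul_assoc, ← h1]; ring
  have k2 : a * w ≤ b * s := Nat.le_of_mul_le_mul_right k1 hi
  have k3 : b * s ≤ b * e := Nat.mul_le_mul_left _ h4
  have k4 : b * e = b * s := le_antisymm (h3.trans k2) k3
  exact ⟨Nat.eq_of_mul_eq_mul_left hb k4, le_antisymm (k2.trans k3) h3⟩

namespace ReplCtx

variable {V A : Subgroup G} (h : ReplCtx V A)
include h

theorem cyclic_case [Finite G] (hmax : ∀ B : Subgroup G, B ≤ A → offVal V B ≤ offVal V A)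
    {u : G} (hu : u ∈ V) : ReplProp V A (Subgroup.zpowers u) := by
  unfold ReplProp
  set X : Subgroup G := ⁅Subgroup.zpowers u, A⁆ with hX
  set B : Subgroup G := A ⊓ Subgroup.centralizer (X : Set G) with hB
  set W : Subgroup G := V ⊓ Subgroup.centralizer (A : Set G) with hW
  have hXV : X ≤ V := h.commutator_le ((Subgroup.zpowers_le).mpr hu)
  have hle : X ⊔ W ≤ V ⊓ Subgroup.centralizer (B : Set G) := by
    apply sup_le
    · refine le_inf hXV ?_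
      rw [Subgroup.le_centralizer_iff]
      exact inf_le_right
    · exact inf_le_inf_left V (Subgroup.centralizer_le (inf_le_left : B ≤ A))
  have hprod : Nat.card ↥(X ⊔ W) * Nat.card ↥(X ⊓ W) = Nat.card X * Nat.card W :=
    card_sup_mul_card_inf (commuting_le_normalizer h.comm hXV inf_le_left)
  have hcy := h.card_mul_le_cyclic hu
  have hBmax := hmax B inf_le_left
  unfold offVal at hBmax ⊢
  obtain ⟨r1, r2⟩ := nat_cy_aux (Nat.card_pos (α := ↥(X ⊓ W))) (Nat.card_pos (α := B)) hprod hcy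
    hBmax (Subgroup.card_le_of_le hle)
  refine ⟨?_, r2⟩
  exact (Subgroup.eq_of_le_of_card_ge hle (le_of_eq r1)).symm

theorem commutator_sup {U₁ U₂ : Subgroup G} (hU₁ : U₁ ≤ V) (hU₂ : U₂ ≤ V) :
    ⁅U₁ ⊔ U₂, A⁆ = ⁅U₁, A⁆ ⊔ ⁅U₂, A⁆ := by
  apply le_antisymm
  · rw [Subgroup.commutator_le]
    intro g hg a ha
    have hmem : g ∈ ((U₁ ⊔ U₂ : Subgroup G) : Set G) := hg
    rw [← mul_set_eq_sup_of_le_normalizer (commuting_le_normalizer h.comm hU₁ hU₂)] at hmem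
    obtain ⟨x, hx, y, hy, rfl⟩ := hmem
    have hyV : ⁅y, a⁆ ∈ V := h.comm_mem ha (hU₂ hy)
    have e : ⁅x * y, a⁆ = ⁅y, a⁆ * ⁅x, a⁆ := by
      have : ⁅x * y, a⁆ = x * ⁅y, a⁆ * x⁻¹ * ⁅x, a⁆ := by
        simp only [commutatorElement_def]; group
      rw [this, h.comm x (hU₁ hx) _ hyV]; group
    rw [e]
    exact Subgroup.mul_mem _
      ((le_sup_right : ⁅U₂, A⁆ ≤ ⁅U₁, A⁆ ⊔ ⁅U₂, A⁆) (Subgroup.commutator_mem_commutator hy ha))
      ((le_sup_left : ⁅U₁, A⁆ ≤ ⁅U₁, A⁆ ⊔ ⁅U₂, A⁆) (Subgroup.commutator_mem_commutator hx ha))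
  · exact sup_le (Subgroup.commutator_mono le_sup_left le_rfl)
      (Subgroup.commutator_mono le_sup_right le_rfl)

theorem glue [Finite G] (hmax : ∀ B : Subgroup G, B ≤ A → offVal V B ≤ offVal V A)
    {U₁ U₂ : Subgroup G} (hU₁ : U₁ ≤ V) (hU₂ : U₂ ≤ V) (P₁ : ReplProp V A U₁)
    (P₂ : ReplProp V A U₂) : ReplProp V A (U₁ ⊔ U₂) := by
  unfold ReplProp at P₁ P₂ ⊢
  rw [h.commutator_sup hU₁ hU₂, centralizer_sup_eq]
  have e : A ⊓ (Subgroup.centralizer ((⁅U₁, A⁆ : Subgroup G) : Set G) ⊓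
      Subgroup.centralizer ((⁅U₂, A⁆ : Subgroup G) : Set G)) =
      (A ⊓ Subgroup.centralizer ((⁅U₁, A⁆ : Subgroup G) : Set G)) ⊓
      (A ⊓ Subgroup.centralizer ((⁅U₂, A⁆ : Subgroup G) : Set G)) := inf_inf_distrib_left _ _ _
  rw [e]
  obtain ⟨r1, r2⟩ := offVal_inf_of_max h.comm
    (A ⊓ Subgroup.centralizer ((⁅U₁, A⁆ : Subgroup G) : Set G))
    (A ⊓ Subgroup.centralizer ((⁅U₂, A⁆ : Subgroup G) : Set G)) (offVal V A) P₁.2.symm P₂.2.symm
    (hmax _ (sup_le inf_le_left inf_le_left)) (hmax _ (inf_le_left.trans inf_le_left))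
  refine ⟨?_, r1.symm⟩
  rw [r2, P₁.1, P₂.1, ← sup_sup_distrib_right]

theorem replProp_bot : ReplProp V A ⊥ := by
  unfold ReplProp
  have e1 : ⁅(⊥ : Subgroup G), A⁆ = ⊥ := Subgroup.commutator_bot_left A
  have e2 : Subgroup.centralizer (((⊥ : Subgroup G)) : Set G) = ⊤ := by
    rw [eq_top_iff]
    intro x _
    rw [Subgroup.mem_centralizer_iff]
    intro y hy
    have : y = 1 := hy
    subst this
    simp
  rw [e1, e2, inf_top_eq, bot_sup_eq]
  exact ⟨rfl, rfl⟩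

theorem replProp_closure [Finite G]
    (hmax : ∀ B : Subgroup G, B ≤ A → offVal V B ≤ offVal V A) (s : Finset G)
    (hs : ∀ x ∈ s, x ∈ V) : ReplProp V A (Subgroup.closure (s : Set G)) := by
  classical
  induction s using Finset.induction_on with
  | empty =>
    rw [Finset.coe_empty, Subgroup.closure_empty]
    exact h.replProp_bot
  | insert u s _ ih =>
    have hu : u ∈ V := hs u (Finset.mem_insert_self u s)
    have hs' : ∀ x ∈ s, x ∈ V := fun x hx => hs x (Finset.mem_insert_of_mem hx)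
    rw [Finset.coe_insert, Set.insert_eq, Subgroup.closure_union, ← Subgroup.zpowers_eq_closure]
    exact h.glue hmax ((Subgroup.zpowers_le).mpr hu) ((Subgroup.closure_le V).mpr hs')
      (h.cyclic_case hmax hu) (ih hs')

/-- **Timmesfeld replacement**: if no subgroup of `A` has a larger value `|B| |C_V(B)|`, then
`C_A([U,A])` has the same value and fixed points `[U,A] C_V(A)`. -/
theorem replProp_of_max [Finite G]
    (hmax : ∀ B : Subgroup G, B ≤ A → offVal V B ≤ offVal V A) {U : Subgroup G} (hU : U ≤ V) :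
    ReplProp V A U := by
  have hfin : (U : Set G).Finite := Set.toFinite _
  have := h.replProp_closure hmax hfin.toFinset (fun x hx => hU (by simpa using hx))
  rwa [Set.Finite.coe_toFinset, Subgroup.closure_eq] at this

end ReplCtx

end Cfsg.Agent.Lib.Helper10
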