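import Mathlib
import Cfsg.Agent.Lib.Helper10.Card

set_option autoImplicit false

namespace Cfsg.Agent.Lib.Helper10

open Pointwise

variable {G : Type*} [Group G]

theorem mem_sylow_smul_iff_conj' {p : ℕ} {g x : G} {S : Sylow p G} :
    x ∈ ((g • S : Sylow p G) : Subgroup G) ↔ g⁻¹ * x * g ∈ (S : Subgroup G) := by
  rw [Sylow.coe_subgroup_smul, Subgroup.mem_pointwise_smul_iff_inv_smul_mem]
  simp [MulAut.smul_def, mul_assoc]

theorem mem_conj_smul_iff' {g x : G} {S : Subgroup G} :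
    x ∈ MulAut.conj g • S ↔ g⁻¹ * x * g ∈ S := by
  rw [Subgroup.mem_pointwise_smul_iff_inv_smul_mem]
  simp [MulAut.smul_def, mul_assoc]

/-- Sylow conjugacy inside a subgroup `M` of `G`. -/
theorem conj_of_sylow_in' [Finite G] (M A B : Subgroup G) (r : ℕ)
    [Fact r.Prime] (hA : A ≤ M) (hB : B ≤ M) (hAr : IsPGroup r A) (hBr : IsPGroup r B)
    (hAi : ¬ r ∣ A.relIndex M) (hBi : ¬ r ∣ B.relIndex M) :
    ∃ m ∈ M, MulAut.conj m • A = B := by
  have hA' : IsPGroup r (A.subgroupOf M) := hAr.comap_subtype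
  have hB' : IsPGroup r (B.subgroupOf M) := hBr.comap_subtype
  have hAi' : ¬ r ∣ (A.subgroupOf M).index := hAi
  have hBi' : ¬ r ∣ (B.subgroupOf M).index := hBi
  clear hAi hBi
  obtain ⟨m, hm⟩ := MulAction.exists_smul_eq M (hA'.toSylow hAi') (hB'.toSylow hBi')
  refine ⟨m, m.2, ?_⟩
  ext x
  rw [mem_conj_smul_iff']
  constructor
  · intro hx
    have hxM : x ∈ M := by
      have h1 := hA hx
      have : x = (m : G) * ((m : G)⁻¹ * x * m) * (m : G)⁻¹ := by group
      rw [this]
      exact M.mul_mem (M.mul_mem m.2 h1) (M.inv_mem m.2)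
    have h2 : (⟨x, hxM⟩ : M) ∈ ((m • hA'.toSylow hAi' : Sylow r M) : Subgroup M) := by
      rw [mem_sylow_smul_iff_conj', IsPGroup.toSylow_coe, Subgroup.mem_subgroupOf]
      simpa using hx
    rw [hm, IsPGroup.toSylow_coe, Subgroup.mem_subgroupOf] at h2
    exact h2
  · intro hx
    have hxM : x ∈ M := hB hx
    have h2 : (⟨x, hxM⟩ : M) ∈ ((hB'.toSylow hBi' : Sylow r M) : Subgroup M) := by
      rw [IsPGroup.toSylow_coe, Subgroup.mem_subgroupOf]
      exact hx
    rw [← hm, mem_sylow_smul_iff_conj', IsPGroup.toSylow_coe, Subgroup.mem_subgroupOf] at h2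
    simpa using h2

theorem relIndex_mul_card_of_le [Finite G] {A M : Subgroup G} (h : A ≤ M) :
    A.relIndex M * Nat.card A = Nat.card M := by
  have := Subgroup.card_mul_index (A.subgroupOf M)
  rw [Nat.card_congr (Subgroup.subgroupOfEquivOfLe h).toEquiv] at this
  rw [← this, mul_comm]; rfl

/-- the intersection of a Sylow `p`-subgroup with a normal subgroup `C` has `p'`-index in `C` -/
theorem not_dvd_relIndex_inf_sylow [Finite G] {p : ℕ} [Fact p.Prime] (C : Subgroup G) [hC : C.Normal]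
    (S : Sylow p G) : ¬ p ∣ (C ⊓ (S : Subgroup G)).relIndex C := by
  intro hdvd
  have h1 : Nat.card ↥((S : Subgroup G) ⊔ C) * Nat.card ↥((S : Subgroup G) ⊓ C) =
      Nat.card (S : Subgroup G) * Nat.card C :=
    card_sup_mul_card_inf (by rw [Subgroup.normalizer_eq_top_iff.mpr hC]; exact le_top)
  have h2 := relIndex_mul_card_of_le (inf_le_left : C ⊓ (S : Subgroup G) ≤ C)
  rw [inf_comm] at h1
  have hpos : 0 < Nat.card ↥(C ⊓ (S : Subgroup G)) := Nat.card_pos
  have h3 : Nat.card ↥((S : Subgroup G) ⊔ C) =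
      Nat.card (S : Subgroup G) * (C ⊓ (S : Subgroup G)).relIndex C := by
    have : Nat.card ↥(C ⊓ (S : Subgroup G)) * Nat.card ↥((S : Subgroup G) ⊔ C) =
        Nat.card ↥(C ⊓ (S : Subgroup G)) *
          (Nat.card (S : Subgroup G) * (C ⊓ (S : Subgroup G)).relIndex C) := by
      rw [mul_comm, h1, ← h2]; ring
    exact Nat.eq_of_mul_eq_mul_left hpos this
  have h4 : Nat.card ↥((S : Subgroup G) ⊔ C) ∣ Nat.card G := Subgroup.card_subgroup_dvd_card _
  rw [h3, ← Subgroup.card_mul_index (S : Subgroup G)] at h4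
  have h5 : (C ⊓ (S : Subgroup G)).relIndex C ∣ (S : Subgroup G).index :=
    Nat.dvd_of_mul_dvd_mul_left Nat.card_pos h4
  exact S.not_dvd_index (hdvd.trans h5)

/-- Frattini-type conjugacy: the intersections of a normal subgroup `C` with two conjugate Sylow
subgroups are conjugate under `C` -/
theorem exists_conj_inf_sylow [Finite G] {p : ℕ} [Fact p.Prime] (C : Subgroup G) [hC : C.Normal]
    (S : Sylow p G) (g : G) :
    ∃ c ∈ C, MulAut.conj c • (C ⊓ (S : Subgroup G)) = C ⊓ ((g • S : Sylow p G) : Subgroup G) :=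
  conj_of_sylow_in' C _ _ p inf_le_left inf_le_left (S.2.to_le inf_le_right)
    ((g • S).2.to_le inf_le_right) (not_dvd_relIndex_inf_sylow C S)
    (not_dvd_relIndex_inf_sylow C (g • S))

end Cfsg.Agent.Lib.Helper10
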