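import Mathlib
import Cfsg.Prelude.Def_PLocal
import Cfsg.Agent.Lib.Helper10.ThompsonIn
import Cfsg.Agent.Lib.Helper10.SylowIn
import Cfsg.Agent.Lib.Helper10.Card

set_option autoImplicit false

namespace Cfsg.Agent.Lib.Helper10

open Cfsg Pointwise

section InjOn

variable {G G' : Type*} [Group G] [Group G']

/-- injectivity on a subgroup, in two-element form -/
theorem eq_of_map_eq_of_mem {f : G →* G'} {T : Subgroup G} (hinj : ∀ x ∈ T, f x = 1 → x = 1)
    {x y : G} (hx : x ∈ T) (hy : y ∈ T) (h : f x = f y) : x = y := by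
  have : x * y⁻¹ = 1 := hinj _ (T.mul_mem hx (T.inv_mem hy))
    (by rw [map_mul, map_inv, h, mul_inv_cancel])
  exact mul_inv_eq_one.mp this

theorem card_map_of_injOn {f : G →* G'} {T A : Subgroup G} (hinj : ∀ x ∈ T, f x = 1 → x = 1)
    (hA : A ≤ T) : Nat.card (A.map f) = Nat.card A := by
  symm
  apply Nat.card_congr
  exact Equiv.ofBijective (fun a : A => (⟨f a, Subgroup.mem_map_of_mem f a.2⟩ : A.map f))
    ⟨fun a b h => Subtype.ext (eq_of_map_eq_of_mem hinj (hA a.2) (hA b.2)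
      (congrArg Subtype.val h)), fun ⟨_, a, ha, rfl⟩ => ⟨⟨a, ha⟩, rfl⟩⟩

theorem map_inf_comap_of_le {f : G →* G'} {T : Subgroup G} {B : Subgroup G'}
    (hB : B ≤ T.map f) : (T ⊓ B.comap f).map f = B := by
  ext y
  constructor
  · rintro ⟨x, hx, rfl⟩
    exact (Subgroup.mem_inf.mp hx).2
  · intro hy
    obtain ⟨x, hx, rfl⟩ := hB hy
    exact ⟨x, Subgroup.mem_inf.mpr ⟨hx, hy⟩, rfl⟩

theorem elemAb_inf_comap {p : ℕ} {f : G →* G'} {T : Subgroup G}
    (hinj : ∀ x ∈ T, f x = 1 → x = 1) {B : Subgroup G'} (hB : IsElementaryAbelian p B) :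
    IsElementaryAbelian p (T ⊓ B.comap f) := by
  refine ⟨IsMulCommutative.of_setLike_mul_comm ?_, ?_⟩
  · intro a ha b hb
    obtain ⟨haT, haB⟩ := Subgroup.mem_inf.mp ha
    obtain ⟨hbT, hbB⟩ := Subgroup.mem_inf.mp hb
    apply eq_of_map_eq_of_mem hinj (T.mul_mem haT hbT) (T.mul_mem hbT haT)
    rw [map_mul, map_mul]
    exact elemAb_comm hB _ haB _ hbB
  · intro a ha
    obtain ⟨haT, haB⟩ := Subgroup.mem_inf.mp ha
    apply hinj _ (T.pow_mem haT p)
    rw [map_pow]
    exact hB.2 _ haB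

theorem maxElemAbIn_map_of_injOn {p : ℕ} {f : G →* G'} {T A : Subgroup G}
    (hinj : ∀ x ∈ T, f x = 1 → x = 1) (hA : A ∈ maxElemAbIn p T) :
    A.map f ∈ maxElemAbIn p (T.map f) := by
  refine ⟨Subgroup.map_mono hA.1, elemAb_map hA.2.1 f, ?_⟩
  intro B hBT hB
  have e : Nat.card B = Nat.card (T ⊓ B.comap f : Subgroup G) := by
    conv_lhs => rw [← map_inf_comap_of_le hBT]
    exact card_map_of_injOn hinj inf_le_left
  rw [card_map_of_injOn hinj hA.1, e]
  exact hA.2.2 _ inf_le_left (elemAb_inf_comap hinj hB)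

theorem maxElemAbIn_inf_comap {p : ℕ} {f : G →* G'} {T : Subgroup G}
    (hinj : ∀ x ∈ T, f x = 1 → x = 1) {B : Subgroup G'} (hB : B ∈ maxElemAbIn p (T.map f)) :
    T ⊓ B.comap f ∈ maxElemAbIn p T := by
  refine ⟨inf_le_left, elemAb_inf_comap hinj hB.2.1, ?_⟩
  intro C hCT hC
  have e : Nat.card (T ⊓ B.comap f : Subgroup G) = Nat.card B := by
    rw [← card_map_of_injOn hinj (inf_le_left : T ⊓ B.comap f ≤ T), map_inf_comap_of_le hB.1]
  rw [e, ← card_map_of_injOn hinj hCT]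
  exact hB.2.2 _ (Subgroup.map_mono hCT) (elemAb_map hC f)

/-- `J` commutes with homomorphisms that are injective on the subgroup -/
theorem map_thompsonSubgroupOf_of_injOn {G G' : Type*} [Group G] [Group G'] (p : ℕ)
    {f : G →* G'} {T : Subgroup G}
    (hinj : ∀ x ∈ T, f x = 1 → x = 1) :
    (thompsonSubgroupOf p T).map f = thompsonSubgroupOf p (T.map f) := by
  rw [thompsonSubgroupOf_eq_sSup, thompsonSubgroupOf_eq_sSup]
  apply le_antisymm
  · rw [Subgroup.map_le_iff_le_comap]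
    apply sSup_le
    intro A hA
    rw [← Subgroup.map_le_iff_le_comap]
    exact le_sSup (maxElemAbIn_map_of_injOn hinj hA)
  · apply sSup_le
    intro B hB
    rw [← map_inf_comap_of_le hB.1]
    exact Subgroup.map_mono (le_sSup (maxElemAbIn_inf_comap hinj hB))

/-- `Ω₁(Z(T))` commutes with homomorphisms that are injective on the subgroup -/
theorem map_omegaZ_of_injOn (p : ℕ) {f : G →* G'} {T : Subgroup G}
    (hinj : ∀ x ∈ T, f x = 1 → x = 1) :
    (omegaOne p (T ⊓ Subgroup.centralizer (T : Set G))).map f =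
      omegaOne p (T.map f ⊓ Subgroup.centralizer ((T.map f : Subgroup G') : Set G')) := by
  unfold omegaOne
  rw [MonoidHom.map_closure]
  congr 1
  ext y
  constructor
  · rintro ⟨x, ⟨hx, hxp⟩, rfl⟩
    obtain ⟨hxT, hxC⟩ := Subgroup.mem_inf.mp hx
    refine ⟨Subgroup.mem_inf.mpr ⟨Subgroup.mem_map_of_mem f hxT, ?_⟩, by
      rw [← map_pow, hxp, map_one]⟩
    rw [Subgroup.mem_centralizer_iff]
    rintro _ ⟨t, ht, rfl⟩
    rw [← map_mul, ← map_mul, (Subgroup.mem_centralizer_iff.mp hxC) t ht]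
  · rintro ⟨hy, hyp⟩
    obtain ⟨hyT, hyC⟩ := Subgroup.mem_inf.mp hy
    obtain ⟨x, hxT, rfl⟩ := hyT
    refine ⟨x, ⟨Subgroup.mem_inf.mpr ⟨hxT, ?_⟩, ?_⟩, rfl⟩
    · rw [Subgroup.mem_centralizer_iff]
      intro t ht
      apply eq_of_map_eq_of_mem hinj (T.mul_mem ht hxT) (T.mul_mem hxT ht)
      rw [map_mul, map_mul]
      exact (Subgroup.mem_centralizer_iff.mp hyC) (f t) (Subgroup.mem_map_of_mem f ht)
    · apply hinj _ (T.pow_mem hxT p)
      rw [map_pow]
      exact hyp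

end InjOn

section Quot

variable {G : Type*} [Group G]

/-- a `p`-subgroup meets a normal `p'`-subgroup trivially -/
theorem eq_one_of_mem_pgroup_of_mk_eq_one {p : ℕ} [Fact p.Prime] (N : Subgroup G)
    [N.Normal] (hN : (Nat.card N).Coprime p) {E : Subgroup G} (hE : IsPGroup p E) :
    ∀ x ∈ E, QuotientGroup.mk' N x = 1 → x = 1 := by
  intro x hx h
  have hxN : x ∈ N := by rwa [QuotientGroup.mk'_apply, QuotientGroup.eq_one_iff] at h
  obtain ⟨k, hk⟩ := hE ⟨x, hx⟩
  have hk' : x ^ (p ^ k) = 1 := by simpa using congrArg Subtype.val hk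
  have h1 : orderOf x ∣ p ^ k := orderOf_dvd_of_pow_eq_one hk'
  have h2 : orderOf x ∣ Nat.card N := by
    have := orderOf_dvd_natCard (⟨x, hxN⟩ : N)
    rwa [Subgroup.orderOf_mk] at this
  have hc : (Nat.card N).Coprime (p ^ k) := Nat.Coprime.pow_right k hN
  have h3 : orderOf x ∣ 1 := by
    have := Nat.dvd_gcd h2 h1
    rwa [Nat.Coprime.gcd_eq_one hc] at this
  exact orderOf_eq_one_iff.mp (Nat.dvd_one.mp h3)

theorem mem_normalizer_of_conj_smul_eq {E : Subgroup G} {n : G} (h : MulAut.conj n • E = E) :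
    n ∈ Subgroup.normalizer (E : Set G) := by
  rw [Subgroup.mem_normalizer_iff]
  intro x
  constructor
  · intro hx
    rw [← h, mem_conj_smul_iff']
    have : n⁻¹ * (n * x * n⁻¹) * n = x := by group
    rw [this]; exact hx
  · intro hx
    rw [← h, mem_conj_smul_iff'] at hx
    have : n⁻¹ * (n * x * n⁻¹) * n = x := by group
    rwa [this] at hx

/-- normalizers of `p`-subgroups lift through the quotient by a normal `p'`-subgroup -/
theorem exists_mem_normalizer_mk_eq [Finite G] {p : ℕ} [Fact p.Prime] (N : Subgroup G)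
    [N.Normal] (hN : (Nat.card N).Coprime p) {E : Subgroup G} (hE : IsPGroup p E)
    (nb : G ⧸ N)
    (hn : nb ∈ Subgroup.normalizer
      ((E.map (QuotientGroup.mk' N) : Subgroup (G ⧸ N)) : Set (G ⧸ N))) :
    ∃ n ∈ Subgroup.normalizer (E : Set G), QuotientGroup.mk' N n = nb := by
  obtain ⟨n₀, rfl⟩ := QuotientGroup.mk'_surjective N nb
  have hEK : E ≤ N ⊔ E := le_sup_right
  have hE'K : MulAut.conj n₀ • E ≤ N ⊔ E := by
    intro x hx
    rw [mem_conj_smul_iff'] at hx
    rw [← QuotientGroup.comap_map_mk', Subgroup.mem_comap]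
    have h1 := (Subgroup.mem_normalizer_iff.mp hn _).mp (Subgroup.mem_map_of_mem _ hx)
    have e : QuotientGroup.mk' N x = QuotientGroup.mk' N n₀ * QuotientGroup.mk' N (n₀⁻¹ * x * n₀) *
        (QuotientGroup.mk' N n₀)⁻¹ := by
      rw [← map_inv, ← map_mul, ← map_mul]
      congr 1; group
    rw [e]; exact h1
  have hE' : IsPGroup p (MulAut.conj n₀ • E : Subgroup G) :=
    hE.map (MulAut.conj n₀).toMonoidHom
  have hcardE' : Nat.card (MulAut.conj n₀ • E : Subgroup G) = Nat.card E :=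
    Subgroup.card_map_of_injective (MulAut.conj n₀).injective
  -- indices
  have hKcard : Nat.card ↥(N ⊔ E) ∣ Nat.card N * Nat.card E := by
    have h := card_sup_mul_card_inf (H := E) (K := N) (by
      rw [Subgroup.normalizer_eq_top]; exact le_top)
    rw [sup_comm] at h
    exact Dvd.intro _ (by rw [h, mul_comm])
  have hidx : ∀ F : Subgroup G, F ≤ N ⊔ E → Nat.card F = Nat.card E → ¬ p ∣ F.relIndex (N ⊔ E) := by
    intro F hF hcF hdvd
    have h1 := relIndex_mul_card_of_le hF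
    have hpos : 0 < Nat.card E := Nat.card_pos
    have h2 : F.relIndex (N ⊔ E) ∣ Nat.card N := by
      have h3 : F.relIndex (N ⊔ E) * Nat.card F ∣ Nat.card N * Nat.card E := by
        rw [h1]; exact hKcard
      rw [hcF] at h3
      exact Nat.dvd_of_mul_dvd_mul_right hpos h3
    have h4 : p ∣ Nat.card N := hdvd.trans h2
    have hp : p.Prime := Fact.out
    exact hp.one_lt.ne' (Nat.dvd_one.mp ((Nat.Coprime.gcd_eq_one hN) ▸ Nat.dvd_gcd h4 dvd_rfl))
  obtain ⟨m, hm, hmE⟩ := conj_of_sylow_in' (N ⊔ E) (MulAut.conj n₀ • E) E p hE'K hEK hE' hE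
    (hidx _ hE'K hcardE') (hidx _ hEK rfl)
  -- the image of `m` lies in the image of `E`
  have hmimg : QuotientGroup.mk' N m ∈ E.map (QuotientGroup.mk' N) := by
    have h1 : QuotientGroup.mk' N m ∈ (N ⊔ E).map (QuotientGroup.mk' N) :=
      Subgroup.mem_map_of_mem _ hm
    rwa [Subgroup.map_sup, QuotientGroup.map_mk'_self, bot_sup_eq] at h1
  obtain ⟨e₁, he₁, he₁m⟩ := hmimg
  refine ⟨e₁⁻¹ * m * n₀, ?_, ?_⟩
  · apply mem_normalizer_of_conj_smul_eq
    rw [map_mul, map_mul, mul_smul, mul_smul, hmE]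
    exact Subgroup.conj_smul_eq_self_of_mem (E.inv_mem he₁)
  · rw [map_mul, map_mul, map_inv, he₁m]
    group

/-- centralizers of `p`-subgroups lift through the quotient by a normal `p'`-subgroup -/
theorem exists_mem_centralizer_mk_eq [Finite G] {p : ℕ} [Fact p.Prime] (N : Subgroup G)
    [N.Normal] (hN : (Nat.card N).Coprime p) {E : Subgroup G} (hE : IsPGroup p E)
    (cb : G ⧸ N)
    (hc : cb ∈ Subgroup.centralizer
      ((E.map (QuotientGroup.mk' N) : Subgroup (G ⧸ N)) : Set (G ⧸ N))) :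
    ∃ c ∈ Subgroup.centralizer (E : Set G), QuotientGroup.mk' N c = cb := by
  obtain ⟨n, hn1, hn2⟩ := exists_mem_normalizer_mk_eq N hN hE cb
    (Subgroup.centralizer_le_normalizer _ hc)
  refine ⟨n, ?_, hn2⟩
  rw [Subgroup.mem_centralizer_iff]
  intro e he
  have h1 : n * e * n⁻¹ ∈ E := (Subgroup.mem_normalizer_iff.mp hn1 e).mp he
  have h2 : n * e * n⁻¹ * e⁻¹ ∈ E := E.mul_mem h1 (E.inv_mem he)
  have h3 : QuotientGroup.mk' N (n * e * n⁻¹ * e⁻¹) = 1 := by
    simp only [map_mul, map_inv, hn2]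
    have := (Subgroup.mem_centralizer_iff.mp hc) (QuotientGroup.mk' N e)
      (Subgroup.mem_map_of_mem _ he)
    rw [← this]; group
  have h4 := eq_one_of_mem_pgroup_of_mk_eq_one N hN hE _ h2 h3
  calc e * n = (n * e * n⁻¹ * e⁻¹)⁻¹ * n * e := by group
    _ = n * e := by rw [h4]; group

end Quot

end Cfsg.Agent.Lib.Helper10
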