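import Mathlib
import Cfsg.Prelude.Def_PLocal
import Cfsg.Agent.S3734
import Cfsg.Agent.Lib.Helper10.Replacement
import Cfsg.Agent.Lib.Helper10.Thompson
import Cfsg.Agent.Lib.Helper10.Card
import Cfsg.Agent.Lib.Helper10.TFQuot
import Cfsg.Agent.Lib.Helper10.SylowIn
import Cfsg.Agent.Lib.Helper24.Coprime
import Cfsg.Agent.Lib.Helper24.CoprimeAbelian
import Cfsg.Agent.Lib.Helper47.PCoreOf2
import Cfsg.Agent.Lib.Helper50.CoprimeHyperplane
import Cfsg.Agent.Lib.Helper55.Cores

set_option autoImplicit false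

/-!
# Best offenders in faithful groups with self-centralizing `p'`-core (KS 9.3)
-/

namespace Cfsg.Agent.Lib.Helper10

open scoped commutatorElement
open Pointwise
open Cfsg

variable {G : Type*} [Group G]

theorem conj_smul_eq_of_mem_normalizer_h10 {E : Subgroup G} {n : G}
    (h : n ∈ Subgroup.normalizer (E : Set G)) : MulAut.conj n • E = E := by
  ext x
  rw [mem_conj_smul_iff']
  have := (Subgroup.mem_normalizer_iff.mp (Subgroup.inv_mem _ h) x)
  rw [inv_inv] at this
  exact this.symm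

/-- if `X` normalizes `H₁` and `H₂` then it normalizes `[H₁, H₂]` -/
theorem le_normalizer_commutator_of_le {X H₁ H₂ : Subgroup G}
    (h₁ : X ≤ Subgroup.normalizer (H₁ : Set G)) (h₂ : X ≤ Subgroup.normalizer (H₂ : Set G)) :
    X ≤ Subgroup.normalizer ((⁅H₁, H₂⁆ : Subgroup G) : Set G) := by
  intro x hx
  apply mem_normalizer_of_conj_smul_eq
  have e1 : MulAut.conj x • H₁ = H₁ := conj_smul_eq_of_mem_normalizer_h10 (h₁ hx)
  have e2 : MulAut.conj x • H₂ = H₂ := conj_smul_eq_of_mem_normalizer_h10 (h₂ hx)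
  change (⁅H₁, H₂⁆ : Subgroup G).map (MulAut.conj x).toMonoidHom = ⁅H₁, H₂⁆
  rw [Subgroup.map_commutator]
  change ⁅MulAut.conj x • H₁, MulAut.conj x • H₂⁆ = ⁅H₁, H₂⁆
  rw [e1, e2]


theorem le_normalizer_of_forall_conj_mem {X E : Subgroup G}
    (h : ∀ x ∈ X, ∀ e ∈ E, x * e * x⁻¹ ∈ E) : X ≤ Subgroup.normalizer (E : Set G) := by
  intro x hx
  rw [Subgroup.mem_normalizer_iff]
  intro e
  constructor
  · exact h x hx e
  · intro he
    have := h x⁻¹ (X.inv_mem hx) _ he
    have e2 : x⁻¹ * (x * e * x⁻¹) * x⁻¹⁻¹ = e := by group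
    rwa [e2] at this

theorem mem_normalizer_inf {E₁ E₂ : Subgroup G} {x : G}
    (h₁ : x ∈ Subgroup.normalizer (E₁ : Set G)) (h₂ : x ∈ Subgroup.normalizer (E₂ : Set G)) :
    x ∈ Subgroup.normalizer ((E₁ ⊓ E₂ : Subgroup G) : Set G) := by
  rw [Subgroup.mem_normalizer_iff] at h₁ h₂ ⊢
  intro y
  rw [Subgroup.mem_inf, Subgroup.mem_inf, ← h₁ y, ← h₂ y]

/-- hypotheses of KS 9.3: `H` acts faithfully on the elementary abelian `V`, and `O_{p'}(H)`
contains its centralizer in `H` -/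
structure FFHyp (p : ℕ) (V H : Subgroup G) : Prop where
  elem : IsElementaryAbelian p V
  norm : H ≤ Subgroup.normalizer (V : Set G)
  faith : H ⊓ Subgroup.centralizer (V : Set G) = ⊥
  cent : Subgroup.centralizer (pPrimeCore p ↥H : Set ↥H) ≤ pPrimeCore p ↥H

/-- `O_{p'}(H)` inside `G` -/
def ffQ (p : ℕ) (H : Subgroup G) : Subgroup G := (pPrimeCore p ↥H).map H.subtype

theorem ffQ_le (p : ℕ) (H : Subgroup G) : ffQ p H ≤ H := Subgroup.map_subtype_le _

theorem le_normalizer_ffQ (p : ℕ) (H : Subgroup G) :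
    H ≤ Subgroup.normalizer (ffQ p H : Set G) := by
  apply le_normalizer_of_forall_conj_mem
  rintro x hx _ ⟨e, he, rfl⟩
  have hn : (pPrimeCore p ↥H).Normal := inferInstance
  exact ⟨⟨x, hx⟩ * e * ⟨x, hx⟩⁻¹, hn.conj_mem e he ⟨x, hx⟩, by simp⟩

theorem card_ffQ_coprime [Finite G] (p : ℕ) (H : Subgroup G) : (Nat.card (ffQ p H)).Coprime p := by
  unfold ffQ
  rw [Subgroup.card_map_of_injective H.subtype_injective]
  exact Cfsg.Agent.Lib.Helper55.pPrimeCore_card_coprime p

namespace FFHyp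

variable {p : ℕ} {V H : Subgroup G} (h : FFHyp p V H)
include h

theorem le_ffQ_of_le_centralizer {X : Subgroup G} (hXH : X ≤ H)
    (hX : X ≤ Subgroup.centralizer (ffQ p H : Set G)) : X ≤ ffQ p H := by
  intro x hx
  have h1 : (⟨x, hXH hx⟩ : ↥H) ∈ Subgroup.centralizer (pPrimeCore p ↥H : Set ↥H) := by
    intro y hy
    have := hX hx (y : G) ⟨y, hy, rfl⟩
    exact Subtype.ext this
  exact ⟨⟨x, hXH hx⟩, h.cent h1, rfl⟩

theorem eq_one_of_mem_of_mem_centralizer {x : G} (hxH : x ∈ H)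
    (hx : x ∈ Subgroup.centralizer (V : Set G)) : x = 1 := by
  have : x ∈ H ⊓ Subgroup.centralizer (V : Set G) := Subgroup.mem_inf.mpr ⟨hxH, hx⟩
  rw [h.faith, Subgroup.mem_bot] at this
  exact this

theorem bo_comm {A : Subgroup G} (hAH : A ≤ H) (hA : IsBestOffenderOn p V A) :
    ∀ x ∈ A, ∀ y ∈ A, x * y = y * x := by
  intro x hx y hy
  have h1 : ⁅x, y⁆ ∈ ⁅A, A⁆ := Subgroup.commutator_mem_commutator hx hy
  have h2 : ⁅x, y⁆ = 1 :=
    h.eq_one_of_mem_of_mem_centralizer (hAH (Subgroup.commutator_le_self A |> fun f => f h1))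
      (hA.2.1 h1)
  rw [commutatorElement_def] at h2
  calc x * y = (x * y * x⁻¹ * y⁻¹) * (y * x) := by group
    _ = y * x := by rw [h2, one_mul]

theorem bo_pow {A : Subgroup G} (hAH : A ≤ H) (hA : IsBestOffenderOn p V A) :
    ∀ a ∈ A, a ^ p = 1 := by
  intro a ha
  exact h.eq_one_of_mem_of_mem_centralizer (H.pow_mem (hAH ha) p) (hA.2.2 a ha)

theorem bo_elemAb {A : Subgroup G} (hAH : A ≤ H) (hA : IsBestOffenderOn p V A) :
    IsElementaryAbelian p A :=
  ⟨isMulCommutative_iff_of_setLike.mpr (h.bo_comm hAH hA), h.bo_pow hAH hA⟩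


/-- **Core lemma.** A nontrivial best offender `A ≤ H` has, for every `1 ≠ B ≤ A`, a subgroup `A₀`
of index `p` not containing `B` which is again a best offender, with the same value
`|A₀| |C_V(A₀)| = |A| |C_V(A)|`. -/
theorem exists_hyperplane_bestOffender [Finite G] [Fact p.Prime] {A B : Subgroup G} (hAH : A ≤ H)
    (hA : IsBestOffenderOn p V A) (hBA : B ≤ A) (hB : B ≠ ⊥) :
    ∃ A₀ : Subgroup G, A₀ ≤ A ∧ ¬ B ≤ A₀ ∧ Nat.card A = p * Nat.card A₀ ∧
      IsBestOffenderOn p V A₀ ∧ offVal V A₀ = offVal V A := by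
  have hp : p.Prime := Fact.out
  set Q := ffQ p H with hQ
  have hcomm := h.bo_comm hAH hA
  have hpow := h.bo_pow hAH hA
  have hAe := h.bo_elemAb hAH hA
  have hAp : IsPGroup p A := elemAb_isPGroup hAe
  have hVp : IsPGroup p V := elemAb_isPGroup h.elem
  have hVc := elemAb_comm h.elem
  haveI hAab : IsMulCommutative A := hAe.1
  have hQH : Q ≤ H := ffQ_le p H
  have hAQ : A ≤ Subgroup.normalizer (Q : Set G) := hAH.trans (le_normalizer_ffQ p H)
  have hQcop : (Nat.card Q).Coprime p := card_ffQ_coprime p H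
  have hcop : (Nat.card A).Coprime (Nat.card Q) := by
    obtain ⟨k, hk⟩ := IsPGroup.iff_card.mp hAp
    rw [hk]
    exact (hQcop.symm).pow_left k
  have hAQ0 : A ⊓ Q = ⊥ := Cfsg.Agent.Lib.Helper50.inf_eq_bot_of_isPGroup_of_coprime hAp hQcop
  -- `B` does not centralize `Q`
  have hBQ : ¬ B ≤ Subgroup.centralizer (Q : Set G) := by
    intro hcon
    have h1 : B ≤ Q := h.le_ffQ_of_le_centralizer (hBA.trans hAH) hcon
    have h2 : B ≤ A ⊓ Q := le_inf hBA h1
    rw [hAQ0] at h2
    exact hB (le_bot_iff.mp h2)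
  -- coprime generation
  have hgen := (Cfsg.Agent.S3734.result A Q hAab hAQ hcop).1
  obtain ⟨A₀, hA₀mem, hK⟩ : ∃ A₀ ∈ {B : Subgroup G | B ≤ A ∧ ∃ a ∈ A, B ⊔ Subgroup.zpowers a = A},
      ¬ (Q ⊓ Subgroup.centralizer (A₀ : Set G) ≤ Subgroup.centralizer (B : Set G)) := by
    by_contra hcon
    push Not at hcon
    apply hBQ
    rw [Subgroup.le_centralizer_iff, ← hgen]
    exact iSup₂_le hcon
  obtain ⟨hA₀A, a, haA, hsup⟩ := hA₀mem
  set K := Q ⊓ Subgroup.centralizer (A₀ : Set G) with hKdef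
  have hBA₀ : ¬ B ≤ A₀ := by
    intro hcon
    apply hK
    exact inf_le_right.trans (Subgroup.centralizer_le hcon)
  have haA₀ : a ∉ A₀ := by
    intro hcon
    apply hBA₀
    have : A₀ ⊔ Subgroup.zpowers a = A₀ := sup_eq_left.mpr ((Subgroup.zpowers_le).mpr hcon)
    rw [this] at hsup
    rw [hsup]; exact hBA
  have ha1 : a ≠ 1 := fun hcon => haA₀ (hcon ▸ A₀.one_mem)
  have hap : a ^ p = 1 := hpow a haA
  have hoa : orderOf a = p := orderOf_eq_prime hap ha1
  -- `|A| = p |A₀|`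
  have hinf : Subgroup.zpowers a ⊓ A₀ = ⊥ := by
    rw [eq_bot_iff]
    intro x hx
    obtain ⟨hx1, hx2⟩ := Subgroup.mem_inf.mp hx
    rw [Subgroup.mem_bot]
    by_contra hx1'
    apply haA₀
    obtain ⟨i, rfl⟩ := Subgroup.mem_zpowers_iff.mp hx1
    have hcop' : (i.natAbs).Coprime p := by
      rw [Nat.coprime_comm, Nat.Prime.coprime_iff_not_dvd hp]
      intro hdvd
      apply hx1'
      have : (p : ℤ) ∣ i := Int.natCast_dvd.mpr hdvd
      obtain ⟨j, rfl⟩ := this
      rw [zpow_mul, zpow_natCast, hap, one_zpow]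
    have hmem : a ∈ Subgroup.zpowers (a ^ i) := by
      have hfin : orderOf (a ^ i) = orderOf a := by
        rcases Int.natAbs_eq i with hi | hi
        · rw [hi, zpow_natCast]
          exact Nat.Coprime.orderOf_pow (by rw [hoa]; exact hcop'.symm)
        · rw [hi, zpow_neg, orderOf_inv, zpow_natCast]
          exact Nat.Coprime.orderOf_pow (by rw [hoa]; exact hcop'.symm)
      have hle : Subgroup.zpowers (a ^ i) ≤ Subgroup.zpowers a :=
        (Subgroup.zpowers_le).mpr (Subgroup.zpow_mem _ (Subgroup.mem_zpowers a) i)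
      have hcard : Nat.card (Subgroup.zpowers a) ≤ Nat.card (Subgroup.zpowers (a ^ i)) := by
        rw [Nat.card_zpowers, Nat.card_zpowers, hfin]
      rw [Subgroup.eq_of_le_of_card_ge hle hcard]
      exact Subgroup.mem_zpowers a
    exact (Subgroup.zpowers_le.mpr hx2) hmem
  have hcardA : Nat.card A = p * Nat.card A₀ := by
    have hn : Subgroup.zpowers a ≤ Subgroup.normalizer (A₀ : Set G) := by
      apply le_normalizer_of_forall_conj_mem
      intro x hx e he
      have hxA : x ∈ A := (Subgroup.zpowers_le.mpr haA) hx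
      have : x * e * x⁻¹ = e := by
        rw [hcomm x hxA e (hA₀A he)]; group
      rw [this]; exact he
    have := card_sup_mul_card_inf hn
    rw [hinf, Subgroup.card_bot, mul_one, sup_comm, hsup, Nat.card_zpowers, hoa] at this
    exact this
  -- `K` and `U`
  set U := V ⊓ Subgroup.centralizer (A₀ : Set G) with hUdef
  have hKQ : K ≤ Q := inf_le_left
  have hKH : K ≤ H := hKQ.trans hQH
  have hA₀c : ∀ x ∈ A, x ∈ Subgroup.normalizer ((Subgroup.centralizer (A₀ : Set G) : Subgroup G) : Set G) := by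
    intro x hxA
    have : x ∈ Subgroup.centralizer (A₀ : Set G) := by
      intro y hy
      exact (hcomm x hxA y (hA₀A hy)).symm
    exact Subgroup.le_normalizer this
  have hAK : A ≤ Subgroup.normalizer (K : Set G) := by
    intro x hx
    rw [hKdef]
    exact mem_normalizer_inf (hAQ hx) (hA₀c x hx)
  have hKU : K ≤ Subgroup.normalizer (U : Set G) := by
    intro x hx
    rw [hUdef]
    exact mem_normalizer_inf (h.norm (hKH hx)) (Subgroup.le_normalizer (Subgroup.mem_inf.mp hx).2)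
  have hCVA : V ⊓ Subgroup.centralizer (A : Set G) =
      U ⊓ Subgroup.centralizer ((Subgroup.zpowers a : Subgroup G) : Set G) := by
    rw [← hsup, centralizer_sup_eq, hUdef, inf_assoc]
  have hCle : V ⊓ Subgroup.centralizer (A : Set G) ≤ U := by rw [hCVA]; exact inf_le_left
  -- `a` does not centralize `U`
  have haU : ¬ U ≤ Subgroup.centralizer ((Subgroup.zpowers a : Subgroup G) : Set G) := by
    intro hcon
    have hAU : ⁅A, U⁆ = ⊥ := by
      rw [Subgroup.commutator_eq_bot_iff_le_centralizer, ← hsup]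
      apply sup_le
      · rw [Subgroup.le_centralizer_iff]; exact inf_le_right
      · rw [Subgroup.le_centralizer_iff]; exact hcon
    have h1 : ⁅⁅A, U⁆, K⁆ = ⊥ := by rw [hAU, Subgroup.commutator_bot_left]
    have h2 : ⁅⁅U, K⁆, A⁆ = ⊥ := by
      have hle : ⁅U, K⁆ ≤ U := Cfsg.Agent.Lib.Helper24.commutator_le_of_le_normalizer U K hKU
      rw [eq_bot_iff]
      calc ⁅⁅U, K⁆, A⁆ ≤ ⁅U, A⁆ := Subgroup.commutator_mono hle le_rfl
        _ = ⊥ := by rw [Subgroup.commutator_comm, hAU]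
    have h3 : ⁅⁅K, A⁆, U⁆ = ⊥ := Subgroup.commutator_commutator_eq_bot_of_rotate h1 h2
    set Q₀ := ⁅K, A⁆ with hQ₀def
    have hQ₀K : Q₀ ≤ K := Cfsg.Agent.Lib.Helper24.commutator_le_of_le_normalizer K A hAK
    have hQ₀U : U ≤ Subgroup.centralizer (Q₀ : Set G) := by
      rw [Subgroup.commutator_eq_bot_iff_le_centralizer] at h3
      rw [Subgroup.le_centralizer_iff]; exact h3
    have hQ₀V : Q₀ ≤ Subgroup.normalizer (V : Set G) := (hQ₀K.trans hKH).trans h.norm
    have hQ₀cop : (Nat.card Q₀).Coprime (Nat.card V) := by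
      obtain ⟨k, hk⟩ := IsPGroup.iff_card.mp hVp
      rw [hk]
      exact (Nat.Coprime.coprime_dvd_left (Subgroup.card_dvd_of_le (hQ₀K.trans hKQ)) hQcop).pow_right k
    haveI : IsMulCommutative V := h.elem.1
    have hdis := Cfsg.Agent.Lib.Helper24.commutator_inf_centralizer_eq_bot_of_abelian V Q₀ hQ₀V hQ₀cop
    have hV₀V : ⁅V, Q₀⁆ ≤ V := Cfsg.Agent.Lib.Helper24.commutator_le_of_le_normalizer V Q₀ hQ₀V
    have hV₀ : ⁅V, Q₀⁆ = ⊥ := by
      by_contra hne
      have hA₀Q₀ : A₀ ≤ Subgroup.normalizer (Q₀ : Set G) := by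
        have : Q₀ ≤ Subgroup.centralizer (A₀ : Set G) := hQ₀K.trans inf_le_right
        rw [Subgroup.le_centralizer_iff] at this
        apply le_normalizer_of_forall_conj_mem
        intro x hx q hq
        have hc := this hx q hq
        have : x * q * x⁻¹ = q := by rw [← hc, mul_inv_cancel_right]
        rw [this]; exact hq
      have hA₀V₀ : A₀ ≤ Subgroup.normalizer ((⁅V, Q₀⁆ : Subgroup G) : Set G) :=
        le_normalizer_commutator_of_le ((hA₀A.trans hAH).trans h.norm) hA₀Q₀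
      have hfix := Cfsg.Agent.Lib.Helper47.inf_centralizer_ne_bot_of_pgroup (hAp.to_le hA₀A)
        (hVp.to_le hV₀V) hA₀V₀ hne
      apply hfix
      rw [eq_bot_iff, ← hdis]
      exact le_inf inf_le_left ((inf_le_inf_right _ hV₀V).trans hQ₀U)
    have hQ₀bot : Q₀ = ⊥ := by
      rw [eq_bot_iff]
      intro x hx
      rw [Subgroup.mem_bot]
      apply h.eq_one_of_mem_of_mem_centralizer (hKH (hQ₀K hx))
      rw [Subgroup.commutator_eq_bot_iff_le_centralizer, Subgroup.le_centralizer_iff] at hV₀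
      exact hV₀ hx
    apply hK
    have hKA : K ≤ Subgroup.centralizer (A : Set G) :=
      Subgroup.commutator_eq_bot_iff_le_centralizer.mp hQ₀bot
    exact hKA.trans (Subgroup.centralizer_le hBA)
  -- counting
  have hne : V ⊓ Subgroup.centralizer (A : Set G) ≠ U := by
    intro heq
    apply haU
    rw [← heq]
    exact inf_le_right.trans (Subgroup.centralizer_le ((Subgroup.zpowers_le).mpr haA))
  have hUp : IsPGroup p U := hVp.to_le inf_le_left
  have h1 : p * Nat.card ↥(V ⊓ Subgroup.centralizer (A : Set G)) ≤ Nat.card U := by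
    obtain ⟨m, hm⟩ := IsPGroup.iff_card.mp (hUp.to_le hCle)
    obtain ⟨n, hn⟩ := IsPGroup.iff_card.mp hUp
    have hlt : Nat.card ↥(V ⊓ Subgroup.centralizer (A : Set G)) < Nat.card U := by
      by_contra hcon
      push Not at hcon
      exact hne (Subgroup.eq_of_le_of_card_ge hCle hcon)
    rw [hm, hn] at hlt ⊢
    have hmn : m < n := (Nat.pow_lt_pow_iff_right hp.one_lt).mp hlt
    calc p * p ^ m = p ^ (m + 1) := by rw [pow_succ, mul_comm]
      _ ≤ p ^ n := Nat.pow_le_pow_right hp.pos hmn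
  have h2 := hA.1 A₀ hA₀A
  rw [hcardA] at h2
  have h3 : Nat.card U ≤ p * Nat.card ↥(V ⊓ Subgroup.centralizer (A : Set G)) := by
    have hpos : 0 < Nat.card A₀ := Nat.card_pos
    have : Nat.card A₀ * Nat.card U ≤ Nat.card A₀ * (p * Nat.card ↥(V ⊓ Subgroup.centralizer (A : Set G))) := by
      calc Nat.card A₀ * Nat.card U ≤ p * Nat.card A₀ * Nat.card ↥(V ⊓ Subgroup.centralizer (A : Set G)) := h2
        _ = Nat.card A₀ * (p * Nat.card ↥(V ⊓ Subgroup.centralizer (A : Set G))) := by ring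
    exact Nat.le_of_mul_le_mul_left this hpos
  have h4 : Nat.card U = p * Nat.card ↥(V ⊓ Subgroup.centralizer (A : Set G)) := le_antisymm h3 h1
  have hval : offVal V A₀ = offVal V A := by
    unfold offVal
    rw [hcardA, ← hUdef, h4]; ring
  refine ⟨A₀, hA₀A, hBA₀, hcardA, ⟨?_, ?_, ?_⟩, hval⟩
  · intro B' hB'
    calc Nat.card B' * Nat.card ↥(V ⊓ Subgroup.centralizer (B' : Set G))
        ≤ Nat.card A * Nat.card ↥(V ⊓ Subgroup.centralizer (A : Set G)) := hA.1 B' (hB'.trans hA₀A)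
      _ = Nat.card A₀ * Nat.card ↥(V ⊓ Subgroup.centralizer (A₀ : Set G)) := hval.symm
  · exact (Subgroup.commutator_mono hA₀A hA₀A).trans hA.2.1
  · intro x hx
    exact hA.2.2 x (hA₀A hx)

end FFHyp

end Cfsg.Agent.Lib.Helper10
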