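import Mathlib
import Cfsg.Prelude.Def_PLocal
import Cfsg.Agent.Lib.Helper10.FFCore

set_option autoImplicit false

/-!
# Minimal best offenders (KS 9.3.1 -- 9.3.3)
-/

namespace Cfsg.Agent.Lib.Helper10

open scoped commutatorElement
open Pointwise
open Cfsg

variable {G : Type*} [Group G]

theorem offVal_bot [Finite G] (V : Subgroup G) : offVal V ⊥ = Nat.card V := by
  unfold offVal
  have : V ⊓ Subgroup.centralizer (((⊥ : Subgroup G) : Subgroup G) : Set G) = V := by
    apply inf_eq_left.mpr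
    intro v _ y hy
    have hy' : y = 1 := Subgroup.mem_bot.mp hy
    rw [hy']; simp
  rw [this, Subgroup.card_bot, one_mul]

/-- elements of a product of commuting subgroups -/
theorem exists_mul_of_mem_sup_comm {X Y : Subgroup G} (hc : ∀ x ∈ X, ∀ y ∈ Y, x * y = y * x)
    {g : G} (hg : g ∈ X ⊔ Y) : ∃ x ∈ X, ∃ y ∈ Y, g = x * y := by
  let S : Subgroup G :=
    { carrier := {g | ∃ x ∈ X, ∃ y ∈ Y, g = x * y}
      one_mem' := ⟨1, X.one_mem, 1, Y.one_mem, by simp⟩
      mul_mem' := by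
        rintro _ _ ⟨x, hx, y, hy, rfl⟩ ⟨x', hx', y', hy', rfl⟩
        refine ⟨x * x', X.mul_mem hx hx', y * y', Y.mul_mem hy hy', ?_⟩
        calc x * y * (x' * y') = x * (y * x') * y' := by group
          _ = x * (x' * y) * y' := by rw [hc x' hx' y hy]
          _ = x * x' * (y * y') := by group
      inv_mem' := by
        rintro _ ⟨x, hx, y, hy, rfl⟩
        refine ⟨x⁻¹, X.inv_mem hx, y⁻¹, Y.inv_mem hy, ?_⟩
        rw [mul_inv_rev, hc x⁻¹ (X.inv_mem hx) y⁻¹ (Y.inv_mem hy)] }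
  have h1 : X ≤ S := fun x hx => ⟨x, hx, 1, Y.one_mem, by simp⟩
  have h2 : Y ≤ S := fun y hy => ⟨1, X.one_mem, y, hy, by simp⟩
  exact (sup_le h1 h2) hg

/-- `|K| · |V : K| = |V|` -/
theorem card_mul_relIndex_of_le {K V : Subgroup G} (hKV : K ≤ V) :
    Nat.card K * K.relIndex V = Nat.card V := by
  have := Subgroup.relIndex_mul_relIndex (⊥ : Subgroup G) K V bot_le hKV
  rwa [Subgroup.relIndex_bot_left, Subgroup.relIndex_bot_left] at this

/-- if `a` normalizes `I` and `[v, a] ∈ I` for all `v ∈ V`, then `[V, ⟨a⟩] ≤ I` -/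
theorem commutator_zpowers_le_of_forall {V I : Subgroup G} {a : G}
    (haI : a ∈ Subgroup.normalizer (I : Set G)) (hI : ∀ v ∈ V, ⁅v, a⁆ ∈ I) :
    ⁅V, Subgroup.zpowers a⁆ ≤ I := by
  let T : Subgroup G :=
    { carrier := {x | x ∈ Subgroup.normalizer (I : Set G) ∧ ∀ v ∈ V, ⁅v, x⁆ ∈ I}
      one_mem' := ⟨Subgroup.one_mem _, fun v _ => by
        rw [commutatorElement_def]; simp⟩
      mul_mem' := by
        rintro x y ⟨hx, hxv⟩ ⟨hy, hyv⟩
        refine ⟨Subgroup.mul_mem _ hx hy, fun v hv => ?_⟩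
        have e : ⁅v, x * y⁆ = ⁅v, x⁆ * (x * ⁅v, y⁆ * x⁻¹) := by
          simp only [commutatorElement_def]; group
        rw [e]
        exact I.mul_mem (hxv v hv) ((Subgroup.mem_normalizer_iff.mp hx _).mp (hyv v hv))
      inv_mem' := by
        rintro x ⟨hx, hxv⟩
        have hx' := Subgroup.inv_mem _ hx
        refine ⟨hx', fun v hv => ?_⟩
        have e : ⁅v, x⁻¹⁆ = x⁻¹ * (⁅v, x⁆)⁻¹ * x⁻¹⁻¹ := by
          simp only [commutatorElement_def]; group
        rw [e]
        exact (Subgroup.mem_normalizer_iff.mp hx' _).mp (I.inv_mem (hxv v hv)) }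
  have hle : Subgroup.zpowers a ≤ T := by
    rw [Subgroup.zpowers_le]; exact ⟨haI, hI⟩
  rw [Subgroup.commutator_le]
  intro v hv x hx
  exact (hle hx).2 v hv

/-- the commutator map `v ↦ [v, a]` on an abelian subgroup normalized by `a` -/
def commHomOn (V : Subgroup G) (hVc : ∀ x ∈ V, ∀ y ∈ V, x * y = y * x) (a : G)
    (ha : a ∈ Subgroup.normalizer (V : Set G)) : ↥V →* ↥V where
  toFun v := ⟨⁅(v : G), a⁆, by
    have h1 : a * (v : G)⁻¹ * a⁻¹ ∈ V := (Subgroup.mem_normalizer_iff.mp ha _).mp (V.inv_mem v.2)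
    have e : ⁅(v : G), a⁆ = (v : G) * (a * (v : G)⁻¹ * a⁻¹) := by
      rw [commutatorElement_def]; group
    rw [e]; exact V.mul_mem v.2 h1⟩
  map_one' := by
    apply Subtype.ext
    simp [commutatorElement_def]
  map_mul' := by
    intro v w
    apply Subtype.ext
    have h1 : a * (v : G)⁻¹ * a⁻¹ ∈ V := (Subgroup.mem_normalizer_iff.mp ha _).mp (V.inv_mem v.2)
    have h2 : a * (w : G)⁻¹ * a⁻¹ ∈ V := (Subgroup.mem_normalizer_iff.mp ha _).mp (V.inv_mem w.2)
    have hw : ⁅(w : G), a⁆ ∈ V := by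
      have e : ⁅(w : G), a⁆ = (w : G) * (a * (w : G)⁻¹ * a⁻¹) := by
        rw [commutatorElement_def]; group
      rw [e]; exact V.mul_mem w.2 h2
    change ⁅((v * w : ↥V) : G), a⁆ = ⁅(v : G), a⁆ * ⁅(w : G), a⁆
    have e1 : ⁅((v * w : ↥V) : G), a⁆ = (v : G) * ⁅(w : G), a⁆ * (a * (v : G)⁻¹ * a⁻¹) := by
      rw [Subgroup.coe_mul]; simp only [commutatorElement_def]; group
    have e2 : ⁅(v : G), a⁆ = (v : G) * (a * (v : G)⁻¹ * a⁻¹) := by
      rw [commutatorElement_def]; group
    rw [e1, e2]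
    have hc := hVc _ hw _ h1
    calc (v : G) * ⁅(w : G), a⁆ * (a * (v : G)⁻¹ * a⁻¹)
        = (v : G) * (⁅(w : G), a⁆ * (a * (v : G)⁻¹ * a⁻¹)) := by simp only [mul_assoc]
      _ = (v : G) * ((a * (v : G)⁻¹ * a⁻¹) * ⁅(w : G), a⁆) := by rw [hc]
      _ = (v : G) * (a * (v : G)⁻¹ * a⁻¹) * ⁅(w : G), a⁆ := by simp only [mul_assoc]

theorem commHomOn_apply (V : Subgroup G) (hVc : ∀ x ∈ V, ∀ y ∈ V, x * y = y * x) (a : G)
    (ha : a ∈ Subgroup.normalizer (V : Set G)) (v : ↥V) :
    ((commHomOn V hVc a ha v : ↥V) : G) = ⁅(v : G), a⁆ := rfl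

theorem mem_centralizer_zpowers_iff {a v : G} :
    v ∈ Subgroup.centralizer ((Subgroup.zpowers a : Subgroup G) : Set G) ↔ a * v = v * a := by
  constructor
  · intro h
    exact h a (Subgroup.mem_zpowers a)
  · intro h
    have h1 : Subgroup.zpowers a ≤ Subgroup.centralizer ({v} : Set G) := by
      rw [Subgroup.zpowers_le, Subgroup.mem_centralizer_iff]
      intro y hy
      rw [Set.mem_singleton_iff] at hy
      rw [hy]; exact h.symm
    intro x hx
    have := h1 hx v (Set.mem_singleton v)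
    exact this.symm

theorem map_ker_commHomOn (V : Subgroup G) (hVc : ∀ x ∈ V, ∀ y ∈ V, x * y = y * x) (a : G)
    (ha : a ∈ Subgroup.normalizer (V : Set G)) :
    (commHomOn V hVc a ha).ker =
      (V ⊓ Subgroup.centralizer ((Subgroup.zpowers a : Subgroup G) : Set G)).subgroupOf V := by
  ext v
  rw [MonoidHom.mem_ker, Subgroup.mem_subgroupOf, Subgroup.mem_inf, mem_centralizer_zpowers_iff]
  constructor
  · intro h1
    have h2 : ⁅(v : G), a⁆ = 1 := by
      rw [← commHomOn_apply V hVc a ha v, h1]; rfl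
    refine ⟨v.2, ?_⟩
    rw [commutatorElement_def] at h2
    calc a * (v : G) = ((v : G) * a * (v : G)⁻¹ * a⁻¹)⁻¹ * ((v : G) * a) := by group
      _ = (v : G) * a := by rw [h2, inv_one, one_mul]
  · rintro ⟨-, h1⟩
    apply Subtype.ext
    rw [commHomOn_apply]
    rw [commutatorElement_def, ← h1]
    simp

theorem map_range_commHomOn (V : Subgroup G) (hVc : ∀ x ∈ V, ∀ y ∈ V, x * y = y * x) (a : G)
    (ha : a ∈ Subgroup.normalizer (V : Set G)) :
    (commHomOn V hVc a ha).range.map V.subtype = ⁅V, Subgroup.zpowers a⁆ := by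
  apply le_antisymm
  · rintro _ ⟨_, ⟨v, rfl⟩, rfl⟩
    change ⁅(v : G), a⁆ ∈ _
    exact Subgroup.commutator_mem_commutator v.2 (Subgroup.mem_zpowers a)
  · have hmem : ∀ v ∈ V, ⁅v, a⁆ ∈ (commHomOn V hVc a ha).range.map V.subtype := by
      intro v hv
      exact ⟨commHomOn V hVc a ha ⟨v, hv⟩, ⟨⟨v, hv⟩, rfl⟩, rfl⟩
    apply commutator_zpowers_le_of_forall _ hmem
    rw [Subgroup.mem_normalizer_iff]
    intro e
    constructor
    · rintro ⟨_, ⟨v, rfl⟩, rfl⟩
      have h1 : a * (v : G) * a⁻¹ ∈ V := (Subgroup.mem_normalizer_iff.mp ha _).mp v.2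
      have e1 : a * (V.subtype (commHomOn V hVc a ha v)) * a⁻¹ = ⁅a * (v : G) * a⁻¹, a⁆ := by
        change a * ⁅(v : G), a⁆ * a⁻¹ = _
        simp only [commutatorElement_def]; group
      rw [e1]
      exact hmem _ h1
    · rintro ⟨_, ⟨v, rfl⟩, hv⟩
      have h1 : a⁻¹ * (v : G) * a ∈ V := by
        have := (Subgroup.mem_normalizer_iff.mp ((Subgroup.normalizer (V : Set G)).inv_mem ha) _).mp v.2
        rwa [inv_inv] at this
      have e1 : e = ⁅a⁻¹ * (v : G) * a, a⁆ := by
        have : e = a⁻¹ * (V.subtype (commHomOn V hVc a ha v)) * a := by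
          rw [hv]; group
        rw [this]
        change a⁻¹ * ⁅(v : G), a⁆ * a = _
        simp only [commutatorElement_def]; group
      rw [e1]
      exact hmem _ h1

/-- `|[V, ⟨a⟩]| = |V : C_V(a)|` for abelian `V` normalized by `a` -/
theorem card_commutator_zpowers (V : Subgroup G) (hVc : ∀ x ∈ V, ∀ y ∈ V, x * y = y * x) (a : G)
    (ha : a ∈ Subgroup.normalizer (V : Set G)) :
    Nat.card ↥(⁅V, Subgroup.zpowers a⁆) =
      (V ⊓ Subgroup.centralizer ((Subgroup.zpowers a : Subgroup G) : Set G)).relIndex V := by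
  rw [← map_range_commHomOn V hVc a ha, Subgroup.card_map_of_injective V.subtype_injective,
    ← Subgroup.index_ker, map_ker_commHomOn]
  rfl

namespace FFHyp

variable {p : ℕ} {V H : Subgroup G} (h : FFHyp p V H)
include h

theorem ne_bot_iff_commutator_ne_bot {B : Subgroup G} (hBH : B ≤ H) :
    ⁅V, B⁆ ≠ ⊥ ↔ B ≠ ⊥ := by
  constructor
  · rintro h1 rfl
    exact h1 (Subgroup.commutator_bot_right V)
  · intro h1 h2
    apply h1
    rw [eq_bot_iff]
    intro x hx
    rw [Subgroup.mem_bot]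
    apply h.eq_one_of_mem_of_mem_centralizer (hBH hx)
    rw [Subgroup.commutator_eq_bot_iff_le_centralizer, Subgroup.le_centralizer_iff] at h2
    exact h2 hx

/-- KS 9.3.1: `|A| |C_V(A)| = |V|` for best offenders `A ≤ H`. -/
theorem offVal_eq_card [Finite G] [Fact p.Prime] :
    ∀ (n : ℕ) (A : Subgroup G), Nat.card A = n → A ≤ H → IsBestOffenderOn p V A →
      offVal V A = Nat.card V := by
  intro n
  induction n using Nat.strong_induction_on with
  | _ n ih =>
    intro A hn hAH hA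
    by_cases hA1 : A = ⊥
    · rw [hA1]; exact offVal_bot V
    · obtain ⟨A₀, hA₀A, -, hcard, hA₀, hval⟩ := h.exists_hyperplane_bestOffender hAH hA le_rfl hA1
      rw [← hval]
      have hp : p.Prime := Fact.out
      have hpos : 0 < Nat.card A₀ := Nat.card_pos
      refine ih (Nat.card A₀) ?_ A₀ rfl (hA₀A.trans hAH) hA₀
      rw [← hn, hcard]
      calc Nat.card A₀ = 1 * Nat.card A₀ := (one_mul _).symm
        _ < p * Nat.card A₀ := Nat.mul_lt_mul_of_pos_right hp.one_lt hpos

/-- a best offender is *minimal* if it is nontrivial and has no proper nontrivial best offender -/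
def IsMinBO (p : ℕ) (V B : Subgroup G) : Prop :=
  IsBestOffenderOn p V B ∧ B ≠ ⊥ ∧
    ∀ C : Subgroup G, C ≤ B → IsBestOffenderOn p V C → C ≠ ⊥ → C = B

omit h in
theorem exists_isMinBO [Finite G] {A : Subgroup G} (hA : IsBestOffenderOn p V A) (hA1 : A ≠ ⊥) :
    ∃ B : Subgroup G, B ≤ A ∧ IsMinBO p V B := by
  let S : Set (Subgroup G) := {B | B ≤ A ∧ IsBestOffenderOn p V B ∧ B ≠ ⊥}
  have hne : S.Nonempty := ⟨A, le_rfl, hA, hA1⟩
  obtain ⟨B, ⟨hBA, hB, hB1⟩, hmin⟩ := wellFounded_lt.has_min S hne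
  refine ⟨B, hBA, hB, hB1, ?_⟩
  intro C hCB hC hC1
  exact eq_of_le_of_not_lt hCB (hmin C ⟨hCB.trans hBA, hC, hC1⟩)

/-- KS 9.3.2: a minimal best offender has order `p` and acts as a transvection group. -/
theorem isMinBO_card [Finite G] [Fact p.Prime] {A : Subgroup G} (hAH : A ≤ H)
    (hA : IsMinBO p V A) :
    Nat.card A = p ∧ Nat.card ↥(⁅V, A⁆) = p ∧
      (V ⊓ Subgroup.centralizer (A : Set G)).relIndex V = p := by
  have hp : p.Prime := Fact.out
  obtain ⟨hAbo, hA1, hmin⟩ := hA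
  obtain ⟨A₀, hA₀A, hAA₀, hcard, hA₀, hval⟩ :=
    h.exists_hyperplane_bestOffender hAH hAbo le_rfl hA1
  have hA₀bot : A₀ = ⊥ := by
    by_contra hne
    exact hAA₀ (hmin A₀ hA₀A hA₀ hne).ge
  have hcardA : Nat.card A = p := by
    rw [hcard, hA₀bot, Subgroup.card_bot, mul_one]
  have hoff := h.offVal_eq_card (Nat.card A) A rfl hAH hAbo
  unfold offVal at hoff
  have hrel := card_mul_relIndex_of_le (inf_le_left : V ⊓ Subgroup.centralizer (A : Set G) ≤ V)
  have hrelp : (V ⊓ Subgroup.centralizer (A : Set G)).relIndex V = p := by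
    have hpos : 0 < Nat.card ↥(V ⊓ Subgroup.centralizer (A : Set G)) := Nat.card_pos
    rw [hcardA, ← hrel, mul_comm] at hoff
    exact (Nat.eq_of_mul_eq_mul_left hpos hoff).symm
  refine ⟨hcardA, ?_, hrelp⟩
  -- `A` is cyclic
  obtain ⟨a, haA, ha1⟩ : ∃ a ∈ A, a ≠ 1 := by
    by_contra hcon
    push Not at hcon
    exact hA1 ((Subgroup.eq_bot_iff_forall A).mpr hcon)
  have hap : a ^ p = 1 := h.bo_pow hAH hAbo a haA
  have hoa : orderOf a = p := orderOf_eq_prime hap ha1
  have hzA : Subgroup.zpowers a = A := by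
    apply Subgroup.eq_of_le_of_card_ge ((Subgroup.zpowers_le).mpr haA)
    rw [Nat.card_zpowers, hoa, hcardA]
  have haV : a ∈ Subgroup.normalizer (V : Set G) := h.norm (hAH haA)
  have := card_commutator_zpowers V (elemAb_comm h.elem) a haV
  rw [hzA] at this
  rw [this, hrelp]

omit h in
theorem iSup_cons {k : ℕ} (B₀ : Subgroup G) (B : Fin k → Subgroup G) :
    ⨆ i, (Fin.cons B₀ B : Fin (k + 1) → Subgroup G) i = B₀ ⊔ ⨆ i, B i := by
  apply le_antisymm
  · apply iSup_le
    intro i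
    refine Fin.cases ?_ ?_ i
    · rw [Fin.cons_zero]; exact le_sup_left
    · intro j
      rw [Fin.cons_succ]
      exact (le_iSup B j).trans le_sup_right
  · apply sup_le
    · have := le_iSup (Fin.cons B₀ B : Fin (k + 1) → Subgroup G) 0
      rwa [Fin.cons_zero] at this
    · apply iSup_le
      intro j
      have := le_iSup (Fin.cons B₀ B : Fin (k + 1) → Subgroup G) j.succ
      rwa [Fin.cons_succ] at this

/-- KS 9.3.3: best offenders are direct products of minimal ones. -/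
theorem exists_decomp [Finite G] [Fact p.Prime] :
    ∀ (n : ℕ) (A : Subgroup G), Nat.card A = n → A ≤ H → IsBestOffenderOn p V A →
      ∃ (k : ℕ) (B : Fin k → Subgroup G), (∀ i, B i ≤ A ∧ IsMinBO p V (B i)) ∧
        iSupIndep B ∧ ⨆ i, B i = A := by
  have hp : p.Prime := Fact.out
  intro n
  induction n using Nat.strong_induction_on with
  | _ n ih =>
    intro A hn hAH hA
    by_cases hA1 : A = ⊥
    · refine ⟨0, fun _ => ⊥, fun i => i.elim0, ?_, ?_⟩
      · rw [iSupIndep_def]; intro i; exact i.elim0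
      · rw [hA1, iSup_of_empty]
    · obtain ⟨B₀, hB₀A, hB₀⟩ := exists_isMinBO hA hA1
      obtain ⟨A₀, hA₀A, hB₀A₀, hcard, hA₀, -⟩ :=
        h.exists_hyperplane_bestOffender hAH hA hB₀A hB₀.2.1
      have hcomm := h.bo_comm hAH hA
      have hpos : 0 < Nat.card A₀ := Nat.card_pos
      have hlt : Nat.card A₀ < n := by
        rw [← hn, hcard]
        calc Nat.card A₀ = 1 * Nat.card A₀ := (one_mul _).symm
          _ < p * Nat.card A₀ := Nat.mul_lt_mul_of_pos_right hp.one_lt hpos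
      obtain ⟨k, B, hB, hind, hsup⟩ := ih (Nat.card A₀) hlt A₀ rfl (hA₀A.trans hAH) hA₀
      have hB₀card : Nat.card B₀ = p := (h.isMinBO_card (hB₀A.trans hAH) hB₀).1
      -- `B₀ ∩ A₀ = 1`
      have hdisj : B₀ ⊓ A₀ = ⊥ := by
        have hdvd : Nat.card ↥(B₀ ⊓ A₀) ∣ p := hB₀card ▸ Subgroup.card_dvd_of_le inf_le_left
        rcases (Nat.dvd_prime hp).mp hdvd with h1 | h1
        · exact Subgroup.card_eq_one.mp h1
        · exfalso
          apply hB₀A₀
          have : B₀ ⊓ A₀ = B₀ := Subgroup.eq_of_le_of_card_ge inf_le_left (by rw [h1, hB₀card])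
          rw [← this]; exact inf_le_right
      -- `B₀ A₀ = A`
      have hjoin : B₀ ⊔ A₀ = A := by
        have hle : B₀ ⊔ A₀ ≤ A := sup_le hB₀A hA₀A
        obtain ⟨r, hr⟩ := Subgroup.card_dvd_of_le (le_sup_right : A₀ ≤ B₀ ⊔ A₀)
        have h2 : Nat.card ↥(B₀ ⊔ A₀) ∣ Nat.card A := Subgroup.card_dvd_of_le hle
        rw [hr, hcard, mul_comm p] at h2
        have h3 : r ∣ p := Nat.dvd_of_mul_dvd_mul_left hpos h2
        rcases (Nat.dvd_prime hp).mp h3 with h1 | h1
        · exfalso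
          apply hB₀A₀
          have : A₀ = B₀ ⊔ A₀ :=
            Subgroup.eq_of_le_of_card_ge le_sup_right (by rw [hr, h1, mul_one])
          rw [this]; exact le_sup_left
        · apply Subgroup.eq_of_le_of_card_ge hle
          rw [hr, h1, hcard, mul_comm]
      refine ⟨k + 1, Fin.cons B₀ B, ?_, ?_, ?_⟩
      · intro i
        refine Fin.cases ?_ ?_ i
        · rw [Fin.cons_zero]; exact ⟨hB₀A, hB₀⟩
        · intro j
          rw [Fin.cons_succ]
          exact ⟨(hB j).1.trans hA₀A, (hB j).2⟩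
      · rw [iSupIndep_def]
        intro i
        refine Fin.cases ?_ ?_ i
        · rw [Fin.cons_zero, disjoint_iff, eq_bot_iff, ← hdisj]
          apply le_inf inf_le_left
          apply inf_le_right.trans
          apply iSup₂_le
          intro j hj
          obtain ⟨j', rfl⟩ := Fin.exists_succ_eq.mpr hj
          rw [Fin.cons_succ, ← hsup]
          exact le_iSup B j'
        · intro i'
          rw [Fin.cons_succ, disjoint_iff, eq_bot_iff]
          have hle : (⨆ (j) (_ : j ≠ i'.succ), (Fin.cons B₀ B : Fin (k + 1) → Subgroup G) j) ≤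
              B₀ ⊔ ⨆ (j) (_ : j ≠ i'), B j := by
            apply iSup₂_le
            intro j
            refine Fin.cases ?_ ?_ j
            · intro _; rw [Fin.cons_zero]; exact le_sup_left
            · intro j' hj'
              rw [Fin.cons_succ]
              have hj'' : j' ≠ i' := fun hc => hj' (by rw [hc])
              exact (le_iSup₂ (f := fun j (_ : j ≠ i') => B j) j' hj'').trans le_sup_right
          have hCle : (⨆ (j) (_ : j ≠ i'), B j) ≤ A₀ := by
            rw [← hsup]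
            exact iSup₂_le fun j _ => le_iSup B j
          intro x hx
          obtain ⟨hx1, hx2⟩ := Subgroup.mem_inf.mp hx
          have hx3 := hle hx2
          have hcomm' : ∀ b ∈ B₀, ∀ c ∈ (⨆ (j) (_ : j ≠ i'), B j), b * c = c * b :=
            fun b hb c hc => hcomm b (hB₀A hb) c (hA₀A (hCle hc))
          obtain ⟨b, hb, c, hc, hxbc⟩ := exists_mul_of_mem_sup_comm hcomm' hx3
          have hxA₀ : x ∈ A₀ := (hB i').1 hx1
          have hbA₀ : b ∈ A₀ := by
            have : b = x * c⁻¹ := by rw [hxbc]; group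
            rw [this]
            exact A₀.mul_mem hxA₀ (A₀.inv_mem (hCle hc))
          have hb1 : b = 1 := by
            have : b ∈ B₀ ⊓ A₀ := Subgroup.mem_inf.mpr ⟨hb, hbA₀⟩
            rwa [hdisj, Subgroup.mem_bot] at this
          rw [hb1, one_mul] at hxbc
          have hd := (iSupIndep_def.mp hind) i'
          rw [disjoint_iff] at hd
          rw [← hd]
          exact Subgroup.mem_inf.mpr ⟨hx1, hxbc ▸ hc⟩
      · rw [iSup_cons, hsup, hjoin]

end FFHyp

end Cfsg.Agent.Lib.Helper10
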