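import Mathlib
import Cfsg.Agent.Lib.Helper86.Ess

set_option autoImplicit false

/-!
# Recognizing `SL₂(p)` from a faithful action on a group of order `p²`
-/

namespace Cfsg.Agent.Lib.Helper10

open Matrix

/-- A subgroup `D = ⟨A, B⟩` generated by two distinct subgroups of order `p`, acting faithfully on
an elementary abelian group `W` of order `p²`, is isomorphic to `SL₂(p)`. -/
theorem nonempty_mulEquiv_SL2_of_faithful {G : Type*} [Group G] [Finite G] {p : ℕ} [Fact p.Prime]
    {W D A B : Subgroup G}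
    (hWc : ∀ x ∈ W, ∀ y ∈ W, x * y = y * x) (hWe : ∀ x ∈ W, x ^ p = 1)
    (hWcard : Nat.card W = p ^ 2) (hDW : D ≤ Subgroup.normalizer (W : Set G))
    (hfaith : D ⊓ Subgroup.centralizer (W : Set G) = ⊥) (hD : D = A ⊔ B)
    (hA : Nat.card A = p) (hB : Nat.card B = p) (hAB : A ≠ B) :
    Nonempty (↥D ≃* Matrix.SpecialLinearGroup (Fin 2) (ZMod p)) := by
  have hp : p.Prime := Fact.out
  obtain ⟨Θ, hΘ⟩ := Cfsg.Agent.Lib.Helper86.exists_hom_GL2 (H := ↥W) p
    (fun a b => Subtype.ext (hWc a a.2 b b.2))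
    (fun a => Subtype.ext (by simpa using hWe a a.2)) hWcard
  let φ : ↥D →* MulAut ↥W := W.normalizerMonoidHom.comp (Subgroup.inclusion hDW)
  have hφ : Function.Injective φ := by
    rw [injective_iff_map_eq_one]
    intro d hd
    have h1 : Subgroup.inclusion hDW d ∈ W.normalizerMonoidHom.ker := hd
    rw [Subgroup.normalizerMonoidHom_ker, Subgroup.mem_subgroupOf] at h1
    have h2 : (d : G) ∈ D ⊓ Subgroup.centralizer (W : Set G) := Subgroup.mem_inf.mpr ⟨d.2, h1⟩
    rw [hfaith, Subgroup.mem_bot] at h2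
    exact Subtype.ext h2
  let ψ : ↥D →* GL (Fin 2) (ZMod p) := Θ.comp φ
  have hψ : Function.Injective ψ := hΘ.comp hφ
  have hAD : A ≤ D := hD ▸ le_sup_left
  have hBD : B ≤ D := hD ▸ le_sup_right
  let A' : Subgroup (GL (Fin 2) (ZMod p)) := (A.subgroupOf D).map ψ
  let B' : Subgroup (GL (Fin 2) (ZMod p)) := (B.subgroupOf D).map ψ
  have hA' : Nat.card A' = p := by
    rw [Subgroup.card_map_of_injective hψ,
      Nat.card_congr (Subgroup.subgroupOfEquivOfLe hAD).toEquiv, hA]
  have hB' : Nat.card B' = p := by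
    rw [Subgroup.card_map_of_injective hψ,
      Nat.card_congr (Subgroup.subgroupOfEquivOfLe hBD).toEquiv, hB]
  have hcardZ : Nat.card (ZMod p) = p := by
    rw [Nat.card_eq_fintype_card, ZMod.card]
  obtain ⟨P, hP⟩ := IsPGroup.exists_le_sylow (IsPGroup.of_card (n := 1) (by rw [hA', pow_one]) :
    IsPGroup p A')
  obtain ⟨Q, hQ⟩ := IsPGroup.exists_le_sylow (IsPGroup.of_card (n := 1) (by rw [hB', pow_one]) :
    IsPGroup p B')
  have hPA : A' = (P : Subgroup (GL (Fin 2) (ZMod p))) := by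
    apply Subgroup.eq_of_le_of_card_ge hP
    rw [Cfsg.Agent.Lib.Helper86.card_sylow_GL2 p P, hcardZ, hA']
  have hQB : B' = (Q : Subgroup (GL (Fin 2) (ZMod p))) := by
    apply Subgroup.eq_of_le_of_card_ge hQ
    rw [Cfsg.Agent.Lib.Helper86.card_sylow_GL2 p Q, hcardZ, hB']
  have hPQ : P ≠ Q := by
    intro hcon
    apply hAB
    have h1 : A' = B' := by rw [hPA, hQB, hcon]
    have h2 : A.subgroupOf D = B.subgroupOf D := Subgroup.map_injective hψ h1
    have h3 := congrArg (Subgroup.map D.subtype) h2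
    rwa [Subgroup.subgroupOf_map_subtype, Subgroup.subgroupOf_map_subtype,
      inf_eq_left.mpr hAD, inf_eq_left.mpr hBD] at h3
  have hge := Cfsg.Agent.Lib.Helper86.GL2.range_toGL_le_sup p P Q hPQ
  rw [← hPA, ← hQB] at hge
  have hsup : A' ⊔ B' = ψ.range := by
    change (A.subgroupOf D).map ψ ⊔ (B.subgroupOf D).map ψ = ψ.range
    rw [← Subgroup.map_sup, ← Subgroup.subgroupOf_sup hAD hBD, ← hD, Subgroup.subgroupOf_self,
      MonoidHom.range_eq_map]
  rw [hsup] at hge
  -- determinants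
  let δ : ↥D →* (ZMod p)ˣ := (Matrix.GeneralLinearGroup.det).comp ψ
  have hδ1 : ∀ (X : Subgroup G), Nat.card X = p → ∀ d : ↥D, (d : G) ∈ X → δ d = 1 := by
    intro X hX d hd
    have h1 : (d : G) ^ p = 1 := by
      have := pow_card_eq_one' (G := ↥X) (x := ⟨(d : G), hd⟩)
      rw [hX] at this
      exact congrArg Subtype.val this
    have h2 : d ^ p = 1 := Subtype.ext (by simpa using h1)
    have h3 : (δ d) ^ p = 1 := by rw [← map_pow, h2, map_one]
    have h4 : (δ d) ^ (p - 1) = 1 := ZMod.units_pow_card_sub_one_eq_one p _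
    have h5 : (δ d) ^ (Nat.gcd p (p - 1)) = 1 := pow_gcd_eq_one.mpr ⟨h3, h4⟩
    have h6 : Nat.gcd p (p - 1) = 1 := by
      have : Nat.Coprime p (p - 1) := by
        rw [hp.coprime_iff_not_dvd]
        apply Nat.not_dvd_of_pos_of_lt
        · have := hp.two_le; omega
        · have := hp.two_le; omega
      exact this
    rwa [h6, pow_one] at h5
  have hδ : ∀ d : ↥D, δ d = 1 := by
    have hker : δ.ker = ⊤ := by
      have hsub : A.subgroupOf D ⊔ B.subgroupOf D = ⊤ := by
        rw [← Subgroup.subgroupOf_sup hAD hBD, ← hD, Subgroup.subgroupOf_self]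
      rw [eq_top_iff, ← hsub]
      apply sup_le
      · intro d hd
        exact hδ1 A hA d hd
      · intro d hd
        exact hδ1 B hB d hd
    intro d
    have : d ∈ δ.ker := hker ▸ Subgroup.mem_top d
    exact this
  have hle : ψ.range ≤ (Matrix.SpecialLinearGroup.toGL :
      Matrix.SpecialLinearGroup (Fin 2) (ZMod p) →* GL (Fin 2) (ZMod p)).range := by
    rintro _ ⟨d, rfl⟩
    have hdet : ((ψ d : GL (Fin 2) (ZMod p)) : Matrix (Fin 2) (Fin 2) (ZMod p)).det = 1 := by
      have := hδ d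
      have h2 := congrArg Units.val this
      simpa [δ] using h2
    refine ⟨⟨((ψ d : GL (Fin 2) (ZMod p)) : Matrix (Fin 2) (Fin 2) (ZMod p)), hdet⟩, ?_⟩
    apply Units.ext
    rfl
  have heq : ψ.range = (Matrix.SpecialLinearGroup.toGL :
      Matrix.SpecialLinearGroup (Fin 2) (ZMod p) →* GL (Fin 2) (ZMod p)).range :=
    le_antisymm hle hge
  exact ⟨(MonoidHom.ofInjective hψ).trans ((MulEquiv.subgroupCongr heq).trans
    (MonoidHom.ofInjective Matrix.SpecialLinearGroup.toGL_injective).symm)⟩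

end Cfsg.Agent.Lib.Helper10
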