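import Mathlib
import Cfsg.Prelude.Def_PLocal
import Cfsg.Agent.Lib.Helper10.FFMin
import Cfsg.Agent.Lib.Helper10.SL2Rec
import Cfsg.Agent.Lib.Helper5.SLGen
import Cfsg.Agent.Lib.Helper5.PSL2Center
import Cfsg.Agent.Lib.Helper86.Ess

set_option autoImplicit false

/-!
# `SL₂(p)` generated by conjugate minimal best offenders (KS 9.3.4 -- 9.3.5)
-/

namespace Cfsg.Agent.Lib.Helper10

open scoped commutatorElement
open Pointwise
open Cfsg

variable {G : Type*} [Group G]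

/-- the largest subgroup `X ≤ N(I)` with `[V, X] ≤ I` -/
def commStab (V I : Subgroup G) : Subgroup G where
  carrier := {x | x ∈ Subgroup.normalizer (I : Set G) ∧ ∀ v ∈ V, ⁅v, x⁆ ∈ I}
  one_mem' := ⟨Subgroup.one_mem _, fun v _ => by
    rw [commutatorElement_def]; simp⟩
  mul_mem' := by
    rintro x y ⟨hx, hxv⟩ ⟨hy, hyv⟩
    refine ⟨Subgroup.mul_mem _ hx hy, fun v hv => ?_⟩
    have e : ⁅v, x * y⁆ = ⁅v, x⁆ * (x * ⁅v, y⁆ * x⁻¹) := by
      simp only [commutatorElement_def]; group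
    rw [e]
    exact I.mul_mem (hxv v hv) ((Subgroup.mem_normalizer_iff.mp hx _).mp (hyv v hv))
  inv_mem' := by
    rintro x ⟨hx, hxv⟩
    have hx' := Subgroup.inv_mem _ hx
    refine ⟨hx', fun v hv => ?_⟩
    have e : ⁅v, x⁻¹⁆ = x⁻¹ * (⁅v, x⁆)⁻¹ * x⁻¹⁻¹ := by
      simp only [commutatorElement_def]; group
    rw [e]
    exact (Subgroup.mem_normalizer_iff.mp hx' _).mp (I.inv_mem (hxv v hv))

theorem mem_commStab {V I : Subgroup G} {x : G} :
    x ∈ commStab V I ↔ x ∈ Subgroup.normalizer (I : Set G) ∧ ∀ v ∈ V, ⁅v, x⁆ ∈ I := Iff.rfl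

theorem commutator_le_of_le_commStab {V I X : Subgroup G} (h : X ≤ commStab V I) :
    ⁅V, X⁆ ≤ I := by
  rw [Subgroup.commutator_le]
  intro v hv x hx
  exact (h hx).2 v hv

theorem le_commStab {V I X : Subgroup G} (hX : X ≤ Subgroup.normalizer (I : Set G))
    (h : ⁅V, X⁆ ≤ I) : X ≤ commStab V I := by
  intro x hx
  exact ⟨hX hx, fun v hv => h (Subgroup.commutator_mem_commutator hv hx)⟩

/-- if `[V, X] ≤ I ≤ V` then `X` normalizes `I` -/
theorem le_normalizer_of_commutator_le {V I X : Subgroup G} (hIV : I ≤ V) (h : ⁅V, X⁆ ≤ I) :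
    X ≤ Subgroup.normalizer (I : Set G) := by
  apply le_normalizer_of_forall_conj_mem
  intro x hx i hi
  have h1 : ⁅i, x⁆ ∈ I := h (Subgroup.commutator_mem_commutator (hIV hi) hx)
  have e : x * i * x⁻¹ = (⁅i, x⁆)⁻¹ * i := by
    rw [commutatorElement_def]; group
  rw [e]
  exact I.mul_mem (I.inv_mem h1) hi

theorem commutator_sup_le {V I X Y : Subgroup G} (hIV : I ≤ V) (hX : ⁅V, X⁆ ≤ I)
    (hY : ⁅V, Y⁆ ≤ I) : ⁅V, X ⊔ Y⁆ ≤ I := by
  apply commutator_le_of_le_commStab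
  exact sup_le (le_commStab (le_normalizer_of_commutator_le hIV hX) hX)
    (le_commStab (le_normalizer_of_commutator_le hIV hY) hY)

/-- `N A / N` is abelian when `A` is -/
theorem commutator_sup_self_le {N A : Subgroup G} (hAN : A ≤ Subgroup.normalizer (N : Set G))
    (hAc : ∀ a ∈ A, ∀ b ∈ A, a * b = b * a) : ⁅N ⊔ A, N ⊔ A⁆ ≤ N := by
  have hMN : N ⊔ A ≤ Subgroup.normalizer (N : Set G) := sup_le Subgroup.le_normalizer hAN
  have h1 : ⁅A, N ⊔ A⁆ ≤ N := by
    apply commutator_le_of_le_commStab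
    apply sup_le
    · intro n hn
      refine ⟨Subgroup.le_normalizer hn, fun a ha => ?_⟩
      have e : ⁅a, n⁆ = (a * n * a⁻¹) * n⁻¹ := by rw [commutatorElement_def]
      rw [e]
      exact N.mul_mem ((Subgroup.mem_normalizer_iff.mp (hAN ha) _).mp hn) (N.inv_mem hn)
    · intro a' ha'
      refine ⟨hAN ha', fun a ha => ?_⟩
      have e : ⁅a, a'⁆ = 1 := by
        rw [commutatorElement_def, hAc a ha a' ha']; group
      rw [e]; exact N.one_mem
  apply commutator_le_of_le_commStab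
  apply sup_le
  · intro n hn
    refine ⟨Subgroup.le_normalizer hn, fun m hm => ?_⟩
    have e : ⁅m, n⁆ = (m * n * m⁻¹) * n⁻¹ := by rw [commutatorElement_def]
    rw [e]
    exact N.mul_mem ((Subgroup.mem_normalizer_iff.mp (hMN hm) _).mp hn) (N.inv_mem hn)
  · intro a ha
    refine ⟨hAN ha, fun m hm => ?_⟩
    have h2 : ⁅a, m⁆ ∈ N := h1 (Subgroup.commutator_mem_commutator ha hm)
    have e : ⁅m, a⁆ = (⁅a, m⁆)⁻¹ := by simp only [commutatorElement_def]; group
    rw [e]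
    exact N.inv_mem h2

section Perfect

open Matrix

/-- transvections of `SL₂(K)` are commutators as soon as some `l ≠ 0` has `l² ≠ 1`
(after helper44's `Om4m.transvection_mem_commutator_SL2`) -/
theorem transvection_mem_commutator_SL2_h10 {K : Type*} [Field K] {l : K} (hl0 : l ≠ 0)
    (hl1 : l ^ 2 ≠ 1) {i j : Fin 2} (hij : i ≠ j) (c : K) :
    Matrix.SpecialLinearGroup.transvection hij c ∈
      commutator (Matrix.SpecialLinearGroup (Fin 2) K) := by
  let h : Matrix.SpecialLinearGroup (Fin 2) K :=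
    ⟨!![l, 0; 0, l⁻¹], by simp [Matrix.det_fin_two, hl0]⟩
  have hl1' : l ^ 2 - 1 ≠ 0 := sub_ne_zero.2 hl1
  have hl1'' : 1 - l ^ 2 ≠ 0 := sub_ne_zero.2 (Ne.symm hl1)
  fin_cases i <;> fin_cases j
  · exact absurd rfl hij
  · have : ⁅h, Matrix.SpecialLinearGroup.transvection hij (c / (l ^ 2 - 1))⁆ =
        Matrix.SpecialLinearGroup.transvection hij c := by
      apply Cfsg.Agent.Lib.Helper5.comm_eq_of_mul_eq
      apply Subtype.ext
      simp only [Matrix.SpecialLinearGroup.coe_mul, Matrix.SpecialLinearGroup.transvection_coe]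
      ext k m
      fin_cases k <;> fin_cases m <;>
        simp [h, Matrix.transvection, Matrix.mul_apply, Fin.sum_univ_two, Matrix.single_apply,
          Matrix.one_apply] <;> field_simp <;> ring
    rw [← this]
    exact Subgroup.commutator_mem_commutator (Subgroup.mem_top _) (Subgroup.mem_top _)
  · have : ⁅h, Matrix.SpecialLinearGroup.transvection hij (c * l ^ 2 / (1 - l ^ 2))⁆ =
        Matrix.SpecialLinearGroup.transvection hij c := by
      apply Cfsg.Agent.Lib.Helper5.comm_eq_of_mul_eq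
      apply Subtype.ext
      simp only [Matrix.SpecialLinearGroup.coe_mul, Matrix.SpecialLinearGroup.transvection_coe]
      ext k m
      fin_cases k <;> fin_cases m <;>
        simp [h, Matrix.transvection, Matrix.mul_apply, Fin.sum_univ_two, Matrix.single_apply,
          Matrix.one_apply] <;> field_simp <;> ring
    rw [← this]
    exact Subgroup.commutator_mem_commutator (Subgroup.mem_top _) (Subgroup.mem_top _)
  · exact absurd rfl hij

theorem commutator_SL2_zmod_eq_top {p : ℕ} [Fact p.Prime] (h2 : p ≠ 2) (h3 : p ≠ 3) :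
    commutator (Matrix.SpecialLinearGroup (Fin 2) (ZMod p)) = ⊤ := by
  have hp : p.Prime := Fact.out
  have hl0 : (2 : ZMod p) ≠ 0 := by
    intro hcon
    have h1 : ((2 : ℕ) : ZMod p) = 0 := by exact_mod_cast hcon
    rw [ZMod.natCast_eq_zero_iff] at h1
    exact h2 ((Nat.prime_dvd_prime_iff_eq hp Nat.prime_two).mp h1)
  have hl1 : (2 : ZMod p) ^ 2 ≠ 1 := by
    intro hcon
    have h1 : ((3 : ℕ) : ZMod p) = 0 := by
      have : (2 : ZMod p) ^ 2 - 1 = 0 := by rw [hcon, sub_self]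
      push_cast
      rw [← this]; ring
    rw [ZMod.natCast_eq_zero_iff] at h1
    exact h3 ((Nat.prime_dvd_prime_iff_eq hp Nat.prime_three).mp h1)
  exact Cfsg.Agent.Lib.Helper5.eq_top_of_transvection_mem _
    (fun i j hij c => transvection_mem_commutator_SL2_h10 hl0 hl1 hij c)

/-- a copy of `SL₂(p)` inside `N A` (with `A` abelian), not inside `N`, forces `p ≤ 3` -/
theorem eq_two_or_three_of_SL2_le_sup {p : ℕ} [Fact p.Prime] {D N A : Subgroup G}
    (e : ↥D ≃* Matrix.SpecialLinearGroup (Fin 2) (ZMod p))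
    (hAN : A ≤ Subgroup.normalizer (N : Set G)) (hAc : ∀ a ∈ A, ∀ b ∈ A, a * b = b * a)
    (hD : D ≤ N ⊔ A) (hDN : ¬ D ≤ N) : p = 2 ∨ p = 3 := by
  by_contra hcon
  push Not at hcon
  have h1 := commutator_SL2_zmod_eq_top hcon.1 hcon.2
  have h2 : commutator ↥D = ⊤ := by
    have h3 : (commutator (Matrix.SpecialLinearGroup (Fin 2) (ZMod p))).map e.symm.toMonoidHom =
        commutator ↥D := by
      rw [commutator_def, commutator_def, Subgroup.map_commutator,
        Subgroup.map_top_of_surjective _ e.symm.surjective]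
    rw [← h3, h1, Subgroup.map_top_of_surjective _ e.symm.surjective]
  have h4 : ⁅D, D⁆ = D := by
    rw [← Subgroup.map_subtype_commutator, h2, ← MonoidHom.range_eq_map, Subgroup.range_subtype]
  apply hDN
  rw [← h4]
  exact (Subgroup.commutator_mono hD hD).trans (commutator_sup_self_le hAN hAc)

end Perfect

/-- normalizing a subgroup normalizes its centralizer -/
theorem normalizer_le_normalizer_centralizer (W : Subgroup G) :
    Subgroup.normalizer (W : Set G) ≤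
      Subgroup.normalizer ((Subgroup.centralizer (W : Set G) : Subgroup G) : Set G) := by
  apply le_normalizer_of_forall_conj_mem
  intro d hd c hc
  rw [Subgroup.mem_centralizer_iff]
  intro w hw
  have hw' : d⁻¹ * w * d ∈ W := by
    have := (Subgroup.mem_normalizer_iff.mp ((Subgroup.normalizer (W : Set G)).inv_mem hd) w).mp hw
    rwa [inv_inv] at this
  have h1 := hc (d⁻¹ * w * d) hw'
  calc w * (d * c * d⁻¹) = d * ((d⁻¹ * w * d) * c) * d⁻¹ := by group
    _ = d * (c * (d⁻¹ * w * d)) * d⁻¹ := by rw [h1]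
    _ = d * c * d⁻¹ * w := by group

namespace FFHyp

variable {p : ℕ} {V H : Subgroup G} (h : FFHyp p V H)
include h

/-- a subgroup of `H` of order `p` with `|[V, B]| = p` centralizes `[V, B]` -/
theorem commutator_le_centralizer_of_card [Finite G] [Fact p.Prime] {B : Subgroup G} (hBH : B ≤ H)
    (hB : Nat.card B = p) (hL : Nat.card ↥(⁅V, B⁆) = p) :
    ⁅V, B⁆ ≤ Subgroup.centralizer (B : Set G) := by
  have hp : p.Prime := Fact.out
  have hLV : ⁅V, B⁆ ≤ V :=
    Cfsg.Agent.Lib.Helper24.commutator_le_of_le_normalizer V B (hBH.trans h.norm)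
  have hBn : B ≤ Subgroup.normalizer ((⁅V, B⁆ : Subgroup G) : Set G) :=
    le_normalizer_of_commutator_le hLV le_rfl
  have hBp : IsPGroup p B := IsPGroup.of_card (n := 1) (by rw [hB, pow_one])
  have hLp : IsPGroup p ↥(⁅V, B⁆) := IsPGroup.of_card (n := 1) (by rw [hL, pow_one])
  have hne : (⁅V, B⁆ : Subgroup G) ≠ ⊥ := by
    intro hcon
    rw [hcon, Subgroup.card_bot] at hL
    exact hp.one_lt.ne hL
  have h1 := Cfsg.Agent.Lib.Helper47.inf_centralizer_ne_bot_of_pgroup hBp hLp hBn hne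
  have h2 := Cfsg.Agent.Lib.Helper86.eq_of_le_of_prime_card hp
    (inf_le_left : ⁅V, B⁆ ⊓ Subgroup.centralizer (B : Set G) ≤ ⁅V, B⁆) h1 hL
  rw [← h2]
  exact inf_le_right

/-- `p`-subgroups of `O_{p'}(H) A` have order dividing `|A|` -/
theorem card_dvd_of_le_ffQ_sup [Finite G] [Fact p.Prime] {A P : Subgroup G} (hAH : A ≤ H)
    (hAp : IsPGroup p A) (hP : IsPGroup p P) (hPle : P ≤ ffQ p H ⊔ A) :
    Nat.card P ∣ Nat.card A := by
  have hQcop : (Nat.card (ffQ p H)).Coprime p := card_ffQ_coprime p H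
  have hQH : ffQ p H ≤ H := ffQ_le p H
  have hPH : P ≤ H := hPle.trans (sup_le hQH hAH)
  have hPn : P ≤ Subgroup.normalizer (ffQ p H : Set G) := hPH.trans (le_normalizer_ffQ p H)
  have hAn : A ≤ Subgroup.normalizer (ffQ p H : Set G) := hAH.trans (le_normalizer_ffQ p H)
  have h1 := card_sup_mul_card_inf hPn
  have h2 := card_sup_mul_card_inf hAn
  rw [Cfsg.Agent.Lib.Helper50.inf_eq_bot_of_isPGroup_of_coprime hP hQcop, Subgroup.card_bot,
    mul_one] at h1
  rw [Cfsg.Agent.Lib.Helper50.inf_eq_bot_of_isPGroup_of_coprime hAp hQcop, Subgroup.card_bot,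
    mul_one] at h2
  have h3 : P ⊔ ffQ p H ≤ A ⊔ ffQ p H := by
    apply sup_le _ le_sup_right
    rw [sup_comm]; exact hPle
  have h4 := Subgroup.card_dvd_of_le h3
  rw [h1, h2] at h4
  exact Nat.dvd_of_mul_dvd_mul_right Nat.card_pos h4

/-- KS 9.3.4: a minimal best offender and a different conjugate of it under `O_{p'}(H)`
generate `SL₂(p)`, acting faithfully on the commutator of order `p²`. -/
theorem sl2_of_conj [Finite G] [Fact p.Prime] {A : Subgroup G} (hAH : A ≤ H) (hA : IsMinBO p V A)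
    {x : G} (hx : x ∈ ffQ p H) (hxA : x ∉ Subgroup.centralizer (A : Set G)) :
    (p = 2 ∨ p = 3) ∧
    Nat.card ↥(⁅V, A ⊔ A.map (MulAut.conj x).toMonoidHom⁆) = p ^ 2 ∧
    (A ⊔ A.map (MulAut.conj x).toMonoidHom) ⊓ Subgroup.centralizer
      ((⁅V, A ⊔ A.map (MulAut.conj x).toMonoidHom⁆ : Subgroup G) : Set G) = ⊥ ∧
    Nonempty (↥(A ⊔ A.map (MulAut.conj x).toMonoidHom) ≃*
      Matrix.SpecialLinearGroup (Fin 2) (ZMod p)) ∧
    ⁅V, A ⊔ A.map (MulAut.conj x).toMonoidHom⁆ =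
      ⁅V, A⁆ ⊔ ⁅V, A.map (MulAut.conj x).toMonoidHom⁆ ∧
    ⁅V, A⁆ ⊓ ⁅V, A.map (MulAut.conj x).toMonoidHom⁆ = ⊥ := by
  have hp : p.Prime := Fact.out
  obtain ⟨hcardA, hcardL₁, hrel⟩ := h.isMinBO_card hAH hA
  obtain ⟨hAbo, hA1, hAmin⟩ := hA
  have hQH : ffQ p H ≤ H := ffQ_le p H
  have hQcop : (Nat.card (ffQ p H)).Coprime p := card_ffQ_coprime p H
  have hxH : x ∈ H := hQH hx
  have hxV : x ∈ Subgroup.normalizer (V : Set G) := h.norm hxH
  have hVx : V.map (MulAut.conj x).toMonoidHom = V := conj_smul_eq_of_mem_normalizer_h10 hxV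
  have hVc := elemAb_comm h.elem
  have hAc := h.bo_comm hAH hAbo
  have hAp : IsPGroup p A := IsPGroup.of_card (n := 1) (by rw [hcardA, pow_one])
  have hAQ : A ⊓ ffQ p H = ⊥ := Cfsg.Agent.Lib.Helper50.inf_eq_bot_of_isPGroup_of_coprime hAp hQcop
  have hAn : A ≤ Subgroup.normalizer (ffQ p H : Set G) := hAH.trans (le_normalizer_ffQ p H)
  generalize hAxdef : A.map (MulAut.conj x).toMonoidHom = Ax
  have hAxH : Ax ≤ H := by
    rw [← hAxdef]
    rintro _ ⟨a, ha, rfl⟩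
    exact H.mul_mem (H.mul_mem hxH (hAH ha)) (H.inv_mem hxH)
  have hcardAx : Nat.card Ax = p := by
    rw [← hAxdef, Subgroup.card_map_of_injective (MulAut.conj x).injective, hcardA]
  have hAxp : IsPGroup p Ax := IsPGroup.of_card (n := 1) (by rw [hcardAx, pow_one])
  have hL₂ : ⁅V, Ax⁆ = (⁅V, A⁆).map (MulAut.conj x).toMonoidHom := by
    rw [Subgroup.map_commutator, hVx, hAxdef]
  have hcardL₂ : Nat.card ↥(⁅V, Ax⁆) = p := by
    rw [hL₂, Subgroup.card_map_of_injective (MulAut.conj x).injective, hcardL₁]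
  have hDH : A ⊔ Ax ≤ H := sup_le hAH hAxH
  have hL₁V : ⁅V, A⁆ ≤ V :=
    Cfsg.Agent.Lib.Helper24.commutator_le_of_le_normalizer V A (hAH.trans h.norm)
  have hL₂V : ⁅V, Ax⁆ ≤ V :=
    Cfsg.Agent.Lib.Helper24.commutator_le_of_le_normalizer V Ax (hAxH.trans h.norm)
  have hWV : ⁅V, A ⊔ Ax⁆ ≤ V :=
    Cfsg.Agent.Lib.Helper24.commutator_le_of_le_normalizer V (A ⊔ Ax) (hDH.trans h.norm)
  have hWeq : ⁅V, A ⊔ Ax⁆ = ⁅V, A⁆ ⊔ ⁅V, Ax⁆ :=
    le_antisymm (commutator_sup_le (sup_le hL₁V hL₂V) le_sup_left le_sup_right)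
      (sup_le (Subgroup.commutator_mono le_rfl le_sup_left)
        (Subgroup.commutator_mono le_rfl le_sup_right))
  have hDW : A ⊔ Ax ≤ Subgroup.normalizer ((⁅V, A ⊔ Ax⁆ : Subgroup G) : Set G) :=
    le_normalizer_of_commutator_le hWV le_rfl
  have hcL₁ := h.commutator_le_centralizer_of_card hAH hcardA hcardL₁
  have hcL₂ := h.commutator_le_centralizer_of_card hAxH hcardAx hcardL₂
  -- `D ≤ Q A`
  have hDle : A ⊔ Ax ≤ ffQ p H ⊔ A := by
    apply sup_le le_sup_right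
    rw [← hAxdef]
    rintro _ ⟨a, ha, rfl⟩
    have h1 : a * x⁻¹ * a⁻¹ ∈ ffQ p H :=
      (Subgroup.mem_normalizer_iff.mp (hAn ha) _).mp ((ffQ p H).inv_mem hx)
    have e : (MulAut.conj x).toMonoidHom a = (x * (a * x⁻¹ * a⁻¹)) * a := by
      simp only [MulEquiv.coe_toMonoidHom, MulAut.conj_apply]; group
    rw [e]
    exact Subgroup.mul_mem _ (Subgroup.mem_sup_left ((ffQ p H).mul_mem hx h1))
      (Subgroup.mem_sup_right ha)
  -- `A ≠ A^x`
  have hAAx : A ≠ Ax := by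
    intro hcon
    apply hxA
    rw [Subgroup.mem_centralizer_iff]
    intro a ha
    have h1 : a * x⁻¹ * a⁻¹ ∈ ffQ p H :=
      (Subgroup.mem_normalizer_iff.mp (hAn ha) _).mp ((ffQ p H).inv_mem hx)
    have h2 : x * a * x⁻¹ ∈ A := by
      rw [hcon, ← hAxdef]
      exact ⟨a, ha, by simp [MulAut.conj_apply]⟩
    have h3 : x * a * x⁻¹ * a⁻¹ ∈ A ⊓ ffQ p H := by
      refine Subgroup.mem_inf.mpr ⟨A.mul_mem h2 (A.inv_mem ha), ?_⟩
      have e : x * a * x⁻¹ * a⁻¹ = x * (a * x⁻¹ * a⁻¹) := by group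
      rw [e]
      exact (ffQ p H).mul_mem hx h1
    rw [hAQ, Subgroup.mem_bot] at h3
    calc a * x = (x * a * x⁻¹ * a⁻¹)⁻¹ * (x * a) := by group
      _ = x * a := by rw [h3, inv_one, one_mul]
  -- the kernel of the action on `W` is a `p`-group
  have hD₀pow : ∀ d ∈ (A ⊔ Ax) ⊓ Subgroup.centralizer ((⁅V, A ⊔ Ax⁆ : Subgroup G) : Set G),
      d ^ p = 1 := by
    intro d hd
    obtain ⟨hdD, hdC⟩ := Subgroup.mem_inf.mp hd
    apply h.eq_one_of_mem_of_mem_centralizer (H.pow_mem (hDH hdD) p)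
    rw [Subgroup.mem_centralizer_iff]
    intro v hv
    have hcW : ⁅v, d⁆ ∈ ⁅V, A ⊔ Ax⁆ := Subgroup.commutator_mem_commutator hv hdD
    have hcomm : ⁅v, d⁆ * d = d * ⁅v, d⁆ := hdC _ hcW
    -- `v d^k v⁻¹ = [v,d]^k d^k`
    have key : ∀ k : ℕ, v * d ^ k * v⁻¹ = ⁅v, d⁆ ^ k * d ^ k := by
      intro k
      induction k with
      | zero => simp
      | succ k ih =>
        have e1 : v * d ^ (k + 1) * v⁻¹ = (v * d ^ k * v⁻¹) * (v * d * v⁻¹) := by
          rw [pow_succ]; group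
        have e2 : v * d * v⁻¹ = ⁅v, d⁆ * d := by
          rw [commutatorElement_def]; group
        have hc' : d ^ k * ⁅v, d⁆ = ⁅v, d⁆ * d ^ k := by
          have : Commute (⁅v, d⁆) d := hcomm
          exact (this.pow_right k).eq.symm
        rw [e1, ih, e2, pow_succ, pow_succ]
        calc ⁅v, d⁆ ^ k * d ^ k * (⁅v, d⁆ * d) = ⁅v, d⁆ ^ k * (d ^ k * ⁅v, d⁆) * d := by group
          _ = ⁅v, d⁆ ^ k * (⁅v, d⁆ * d ^ k) * d := by rw [hc']
          _ = ⁅v, d⁆ ^ k * ⁅v, d⁆ * (d ^ k * d) := by group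
    have h1 := key p
    have h2 : ⁅v, d⁆ ^ p = 1 := h.elem.2 _ (hWV hcW)
    rw [h2, one_mul] at h1
    calc v * d ^ p = (v * d ^ p * v⁻¹) * v := by group
      _ = d ^ p * v := by rw [h1]
  have hD₀p : IsPGroup p ↥((A ⊔ Ax) ⊓
      Subgroup.centralizer ((⁅V, A ⊔ Ax⁆ : Subgroup G) : Set G)) := by
    intro d
    refine ⟨1, ?_⟩
    rw [pow_one]
    exact Subtype.ext (by simpa using hD₀pow d d.2)
  have hD₀n : A ⊔ Ax ≤ Subgroup.normalizer (((A ⊔ Ax) ⊓
      Subgroup.centralizer ((⁅V, A ⊔ Ax⁆ : Subgroup G) : Set G) : Subgroup G) : Set G) := by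
    intro d hd
    exact mem_normalizer_inf (Subgroup.le_normalizer hd)
      (normalizer_le_normalizer_centralizer _ (hDW hd))
  -- `p`-subgroups of `D` have order dividing `p`
  have hsyl : ∀ P : Subgroup G, P ≤ A ⊔ Ax → IsPGroup p P → A ≤ P → P = A := by
    intro P hPD hP hAP
    have h1 := h.card_dvd_of_le_ffQ_sup hAH hAp hP (hPD.trans hDle)
    exact (Subgroup.eq_of_le_of_card_ge hAP (Nat.le_of_dvd Nat.card_pos h1)).symm
  have hD₀ : (A ⊔ Ax) ⊓ Subgroup.centralizer ((⁅V, A ⊔ Ax⁆ : Subgroup G) : Set G) = ⊥ := by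
    by_contra hne
    have h1 : ((A ⊔ Ax) ⊓ Subgroup.centralizer ((⁅V, A ⊔ Ax⁆ : Subgroup G) : Set G)) ⊔ A = A := by
      apply hsyl _ (sup_le inf_le_left le_sup_left) _ le_sup_right
      exact IsPGroup.to_sup_of_normal_left' hD₀p hAp (le_sup_left.trans hD₀n)
    have h2 : (A ⊔ Ax) ⊓ Subgroup.centralizer ((⁅V, A ⊔ Ax⁆ : Subgroup G) : Set G) = A :=
      Cfsg.Agent.Lib.Helper86.eq_of_le_of_prime_card hp (sup_eq_right.mp h1) hne hcardA
    rw [h2] at hD₀n
    have h3 : A ⊔ Ax = A := by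
      apply hsyl _ le_rfl _ le_sup_left
      exact IsPGroup.to_sup_of_normal_left' hAp hAxp (le_sup_right.trans hD₀n)
    apply hAAx
    exact (Subgroup.eq_of_le_of_card_ge (sup_eq_left.mp h3) (by rw [hcardA, hcardAx])).symm
  have hL₁L₂ : ⁅V, A⁆ ≠ ⁅V, Ax⁆ := by
    intro hcon
    apply hA1
    have h1 : A ⊔ Ax ≤ Subgroup.centralizer ((⁅V, A ⊔ Ax⁆ : Subgroup G) : Set G) := by
      rw [hWeq, ← hcon, sup_idem]
      apply sup_le
      · exact Subgroup.le_centralizer_iff.mp hcL₁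
      · rw [hcon]; exact Subgroup.le_centralizer_iff.mp hcL₂
    have h2 : A ⊔ Ax = ⊥ := by
      rw [← hD₀]; exact (inf_eq_left.mpr h1).symm
    exact le_bot_iff.mp (h2 ▸ le_sup_left)
  have hinf : ⁅V, A⁆ ⊓ ⁅V, Ax⁆ = ⊥ := by
    by_contra hne
    apply hL₁L₂
    have h1 := Cfsg.Agent.Lib.Helper86.eq_of_le_of_prime_card hp
      (inf_le_left : ⁅V, A⁆ ⊓ ⁅V, Ax⁆ ≤ ⁅V, A⁆) hne hcardL₁
    have h2 := Cfsg.Agent.Lib.Helper86.eq_of_le_of_prime_card hp
      (inf_le_right : ⁅V, A⁆ ⊓ ⁅V, Ax⁆ ≤ ⁅V, Ax⁆) hne hcardL₂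
    rw [← h1, h2]
  have hcardW : Nat.card ↥(⁅V, A ⊔ Ax⁆) = p ^ 2 := by
    have hn : ⁅V, A⁆ ≤ Subgroup.normalizer ((⁅V, Ax⁆ : Subgroup G) : Set G) := by
      apply le_normalizer_of_forall_conj_mem
      intro y hy e he
      have : y * e * y⁻¹ = e := by
        rw [hVc y (hL₁V hy) e (hL₂V he)]; group
      rw [this]; exact he
    have := card_sup_mul_card_inf hn
    rw [hinf, Subgroup.card_bot, mul_one, hcardL₁, hcardL₂] at this
    rw [hWeq, this, sq]
  have hiso := nonempty_mulEquiv_SL2_of_faithful (W := ⁅V, A ⊔ Ax⁆) (D := A ⊔ Ax) (A := A)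
    (B := Ax) (fun a ha b hb => hVc a (hWV ha) b (hWV hb)) (fun a ha => h.elem.2 a (hWV ha))
    hcardW hDW hD₀ rfl hcardA hcardAx hAAx
  obtain ⟨e⟩ := hiso
  have hp23 : p = 2 ∨ p = 3 := by
    apply eq_two_or_three_of_SL2_le_sup e hAn hAc hDle
    intro hcon
    apply hA1
    have : A ≤ A ⊓ ffQ p H := le_inf le_rfl (le_sup_left.trans hcon)
    rw [hAQ] at this
    exact le_bot_iff.mp this
  exact ⟨hp23, hcardW, hD₀, ⟨e⟩, hWeq, hinf⟩

end FFHyp

end Cfsg.Agent.Lib.Helper10
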