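import Mathlib
import Cfsg.Prelude.Def_PLocal
import Cfsg.Agent.Lib.Helper10.FFSL2
import Cfsg.Agent.Lib.Helper38.SLCard

set_option autoImplicit false

/-!
# The subgroups `E = [O_{p'}(H), A] A` for minimal best offenders `A` (KS 9.3.5 -- 9.3.7)
-/

namespace Cfsg.Agent.Lib.Helper10

open scoped commutatorElement
open Pointwise
open Cfsg

variable {G : Type*} [Group G]

theorem map_conj_map_conj_inv (x : G) (B : Subgroup G) :
    (B.map (MulAut.conj x⁻¹).toMonoidHom).map (MulAut.conj x).toMonoidHom = B := by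
  rw [Subgroup.map_map]
  convert Subgroup.map_id B
  ext y
  simp only [MonoidHom.coe_comp, MulEquiv.coe_toMonoidHom, Function.comp_apply,
    MulAut.conj_apply, MonoidHom.id_apply]
  group

theorem map_conj_inv_map_conj (x : G) (B : Subgroup G) :
    (B.map (MulAut.conj x).toMonoidHom).map (MulAut.conj x⁻¹).toMonoidHom = B := by
  have := map_conj_map_conj_inv x⁻¹ B
  rwa [inv_inv] at this

theorem map_conj_map_conj (x y : G) (B : Subgroup G) :
    (B.map (MulAut.conj y).toMonoidHom).map (MulAut.conj x).toMonoidHom =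
      B.map (MulAut.conj (x * y)).toMonoidHom := by
  rw [Subgroup.map_map]
  congr 1
  ext z
  simp only [MonoidHom.coe_comp, MulEquiv.coe_toMonoidHom, Function.comp_apply,
    MulAut.conj_apply]
  group

theorem map_conj_eq_of_mem_normalizer {E : Subgroup G} {x : G}
    (hx : x ∈ Subgroup.normalizer (E : Set G)) : E.map (MulAut.conj x).toMonoidHom = E :=
  conj_smul_eq_of_mem_normalizer_h10 hx

theorem mem_map_conj_iff {E : Subgroup G} {x y : G} :
    y ∈ E.map (MulAut.conj x).toMonoidHom ↔ x⁻¹ * y * x ∈ E := by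
  constructor
  · rintro ⟨e, he, rfl⟩
    have : x⁻¹ * (MulAut.conj x).toMonoidHom e * x = e := by
      simp only [MulEquiv.coe_toMonoidHom, MulAut.conj_apply]; group
    rw [this]; exact he
  · intro hy
    refine ⟨x⁻¹ * y * x, hy, ?_⟩
    simp only [MulEquiv.coe_toMonoidHom, MulAut.conj_apply]; group

/-- conjugation carries centralizers to centralizers -/
theorem map_conj_centralizer (x : G) (B : Subgroup G) :
    (Subgroup.centralizer (B : Set G)).map (MulAut.conj x).toMonoidHom =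
      Subgroup.centralizer ((B.map (MulAut.conj x).toMonoidHom : Subgroup G) : Set G) := by
  ext y
  rw [mem_map_conj_iff, Subgroup.mem_centralizer_iff, Subgroup.mem_centralizer_iff]
  constructor
  · intro hy b hb
    have hb' : x⁻¹ * b * x ∈ B := mem_map_conj_iff.mp hb
    have h1 := hy _ hb'
    calc b * y = x * ((x⁻¹ * b * x) * (x⁻¹ * y * x)) * x⁻¹ := by group
      _ = x * ((x⁻¹ * y * x) * (x⁻¹ * b * x)) * x⁻¹ := by rw [h1]
      _ = y * b := by group
  · intro hy b hb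
    have hb' : x * b * x⁻¹ ∈ B.map (MulAut.conj x).toMonoidHom := by
      rw [mem_map_conj_iff]
      have : x⁻¹ * (x * b * x⁻¹) * x = b := by group
      rw [this]; exact hb
    have h1 := hy _ hb'
    calc b * (x⁻¹ * y * x) = x⁻¹ * ((x * b * x⁻¹) * y) * x := by group
      _ = x⁻¹ * (y * (x * b * x⁻¹)) * x := by rw [h1]
      _ = x⁻¹ * y * x * b := by group

theorem card_inf_centralizer_map_conj [Finite G] {V : Subgroup G} {x : G}
    (hxV : x ∈ Subgroup.normalizer (V : Set G)) (B : Subgroup G) :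
    Nat.card ↥(V ⊓ Subgroup.centralizer ((B.map (MulAut.conj x).toMonoidHom : Subgroup G) : Set G)) =
      Nat.card ↥(V ⊓ Subgroup.centralizer (B : Set G)) := by
  have h1 : (V ⊓ Subgroup.centralizer (B : Set G)).map (MulAut.conj x).toMonoidHom =
      V ⊓ Subgroup.centralizer ((B.map (MulAut.conj x).toMonoidHom : Subgroup G) : Set G) := by
    rw [Subgroup.map_inf _ _ _ (MulAut.conj x).injective, map_conj_centralizer,
      map_conj_eq_of_mem_normalizer hxV]
  rw [← h1, Subgroup.card_map_of_injective (MulAut.conj x).injective]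

theorem isBestOffenderOn_map_conj [Finite G] {p : ℕ} {V A : Subgroup G} {x : G}
    (hxV : x ∈ Subgroup.normalizer (V : Set G)) (hA : IsBestOffenderOn p V A) :
    IsBestOffenderOn p V (A.map (MulAut.conj x).toMonoidHom) := by
  have hxV' : x⁻¹ ∈ Subgroup.normalizer (V : Set G) := Subgroup.inv_mem _ hxV
  have hCV : (Subgroup.centralizer (V : Set G)).map (MulAut.conj x).toMonoidHom =
      Subgroup.centralizer (V : Set G) := by
    rw [map_conj_centralizer, map_conj_eq_of_mem_normalizer hxV]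
  refine ⟨?_, ?_, ?_⟩
  · intro B' hB'
    have hB : B'.map (MulAut.conj x⁻¹).toMonoidHom ≤ A := by
      have := Subgroup.map_mono (f := (MulAut.conj x⁻¹).toMonoidHom) hB'
      rwa [map_conj_inv_map_conj] at this
    have h1 := hA.1 _ hB
    rw [Subgroup.card_map_of_injective (MulAut.conj x⁻¹).injective,
      card_inf_centralizer_map_conj hxV'] at h1
    rw [Subgroup.card_map_of_injective (MulAut.conj x).injective,
      card_inf_centralizer_map_conj hxV]
    exact h1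
  · rw [← Subgroup.map_commutator, ← hCV]
    exact Subgroup.map_mono hA.2.1
  · rintro _ ⟨a, ha, rfl⟩
    rw [← map_pow, ← hCV]
    exact ⟨a ^ p, hA.2.2 a ha, rfl⟩

/-- a `q`-group acting on a group of order `≢ 1 (mod q)` has nontrivial fixed points -/
theorem inf_centralizer_ne_bot_of_card_not_modEq [Finite G] {q : ℕ} [Fact q.Prime]
    {A R : Subgroup G} (hA : IsPGroup q ↥A) (hAR : A ≤ Subgroup.normalizer (R : Set G))
    (hcard : ¬ Nat.card R ≡ 1 [MOD q]) : R ⊓ Subgroup.centralizer (A : Set G) ≠ ⊥ := by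
  letI : MulAction ↥A ↥R :=
    { smul := fun a x => ⟨a * x * a⁻¹, (Subgroup.mem_normalizer_iff.mp (hAR a.2) x).mp x.2⟩
      one_smul := by
        intro x
        apply Subtype.ext
        show ((1 : ↥A) : G) * x * ((1 : ↥A) : G)⁻¹ = x
        simp
      mul_smul := by
        intro a b x
        apply Subtype.ext
        show ((a * b : ↥A) : G) * x * ((a * b : ↥A) : G)⁻¹ = a * (b * x * (b : G)⁻¹) * (a : G)⁻¹
        simp only [Subgroup.coe_mul]
        group }
  intro hbot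
  apply hcard
  have h1 := hA.card_modEq_card_fixedPoints ↥R
  have h2 : Nat.card ↥(MulAction.fixedPoints ↥A ↥R) = 1 := by
    rw [Nat.card_eq_one_iff_unique]
    constructor
    · constructor
      intro b c
      have hb : ∀ b : ↥(MulAction.fixedPoints ↥A ↥R), ((b : ↥R) : G) = 1 := by
        intro b
        have hmem : ((b : ↥R) : G) ∈ R ⊓ Subgroup.centralizer (A : Set G) := by
          refine Subgroup.mem_inf.mpr ⟨(b : ↥R).2, ?_⟩
          rw [Subgroup.mem_centralizer_iff]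
          intro a ha
          have h3 := b.2 ⟨a, ha⟩
          have h4 : a * ((b : ↥R) : G) * a⁻¹ = ((b : ↥R) : G) := congrArg Subtype.val h3
          calc a * ((b : ↥R) : G) = (a * ((b : ↥R) : G) * a⁻¹) * a := by group
            _ = ((b : ↥R) : G) * a := by rw [h4]
        rwa [hbot, Subgroup.mem_bot] at hmem
      apply Subtype.ext
      apply Subtype.ext
      rw [hb b, hb c]
    · refine ⟨⟨1, ?_⟩⟩
      intro a
      apply Subtype.ext
      show (a : G) * ((1 : ↥R) : G) * (a : G)⁻¹ = ((1 : ↥R) : G)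
      simp
  rwa [h2] at h1

namespace FFHyp

variable {p : ℕ} {V H : Subgroup G} (h : FFHyp p V H)
include h

theorem isMinBO_map_conj [Finite G] {A : Subgroup G} (hA : IsMinBO p V A) {x : G} (hx : x ∈ H) :
    IsMinBO p V (A.map (MulAut.conj x).toMonoidHom) := by
  have hxV : x ∈ Subgroup.normalizer (V : Set G) := h.norm hx
  have hxV' : x⁻¹ ∈ Subgroup.normalizer (V : Set G) := Subgroup.inv_mem _ hxV
  obtain ⟨hAbo, hA1, hAmin⟩ := hA
  refine ⟨isBestOffenderOn_map_conj hxV hAbo, ?_, ?_⟩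
  · intro hcon
    exact hA1 ((Subgroup.map_eq_bot_iff_of_injective A (MulAut.conj x).injective).mp hcon)
  · intro C hCA hC hC1
    have h1 : C.map (MulAut.conj x⁻¹).toMonoidHom ≤ A := by
      have := Subgroup.map_mono (f := (MulAut.conj x⁻¹).toMonoidHom) hCA
      rwa [map_conj_inv_map_conj] at this
    have h2 := hAmin _ h1 (isBestOffenderOn_map_conj hxV' hC)
      (fun hcon => hC1 ((Subgroup.map_eq_bot_iff_of_injective C (MulAut.conj x⁻¹).injective).mp hcon))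
    rw [← h2, map_conj_map_conj_inv]

/-- elements of `H` acting trivially on `[v, d]` for all `v` have order dividing `p` -/
theorem pow_eq_one_of_commute_commutator {d : G} (hdH : d ∈ H)
    (hd : ∀ v ∈ V, ⁅v, d⁆ * d = d * ⁅v, d⁆) : d ^ p = 1 := by
  apply h.eq_one_of_mem_of_mem_centralizer (H.pow_mem hdH p)
  rw [Subgroup.mem_centralizer_iff]
  intro v hv
  have hcV : ⁅v, d⁆ ∈ V := by
    have h1 : d * v⁻¹ * d⁻¹ ∈ V :=
      (Subgroup.mem_normalizer_iff.mp (h.norm hdH) _).mp (V.inv_mem hv)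
    have e : ⁅v, d⁆ = v * (d * v⁻¹ * d⁻¹) := by rw [commutatorElement_def]; group
    rw [e]; exact V.mul_mem hv h1
  have hcomm := hd v hv
  have key : ∀ k : ℕ, v * d ^ k * v⁻¹ = ⁅v, d⁆ ^ k * d ^ k := by
    intro k
    induction k with
    | zero => simp
    | succ k ih =>
      have e1 : v * d ^ (k + 1) * v⁻¹ = (v * d ^ k * v⁻¹) * (v * d * v⁻¹) := by
        rw [pow_succ]; group
      have e2 : v * d * v⁻¹ = ⁅v, d⁆ * d := by
        rw [commutatorElement_def]; group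
      have hc' : d ^ k * ⁅v, d⁆ = ⁅v, d⁆ * d ^ k := by
        have : Commute (⁅v, d⁆) d := hcomm
        exact (this.pow_right k).eq.symm
      rw [e1, ih, e2, pow_succ, pow_succ]
      calc ⁅v, d⁆ ^ k * d ^ k * (⁅v, d⁆ * d) = ⁅v, d⁆ ^ k * (d ^ k * ⁅v, d⁆) * d := by group
        _ = ⁅v, d⁆ ^ k * (⁅v, d⁆ * d ^ k) * d := by rw [hc']
        _ = ⁅v, d⁆ ^ k * ⁅v, d⁆ * (d ^ k * d) := by group
  have h1 := key p
  have h2 : ⁅v, d⁆ ^ p = 1 := h.elem.2 _ hcV
  rw [h2, one_mul] at h1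
  calc v * d ^ p = (v * d ^ p * v⁻¹) * v := by group
    _ = d ^ p * v := by rw [h1]

/-- the stabilizer in `H` of the chain `1 ≤ L ≤ V` -/
def chainStab (_h : FFHyp p V H) (L : Subgroup G) : Subgroup G :=
  H ⊓ Subgroup.centralizer (L : Set G) ⊓ commStab V L

theorem mem_chainStab {L : Subgroup G} {s : G} :
    s ∈ h.chainStab L ↔ s ∈ H ∧ s ∈ Subgroup.centralizer (L : Set G) ∧ ∀ v ∈ V, ⁅v, s⁆ ∈ L := by
  unfold chainStab
  rw [Subgroup.mem_inf, Subgroup.mem_inf, mem_commStab]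
  constructor
  · rintro ⟨⟨h1, h2⟩, -, h3⟩
    exact ⟨h1, h2, h3⟩
  · rintro ⟨h1, h2, h3⟩
    refine ⟨⟨h1, h2⟩, ?_, h3⟩
    apply le_normalizer_of_forall_conj_mem (X := Subgroup.centralizer (L : Set G)) _ h2
    intro c hc l hl
    have := hc l hl
    have e : c * l * c⁻¹ = l := by rw [← this]; group
    rw [e]; exact hl

theorem chainStab_pow {L : Subgroup G} {s : G} (hs : s ∈ h.chainStab L) : s ^ p = 1 := by
  obtain ⟨h1, h2, h3⟩ := h.mem_chainStab.mp hs
  apply h.pow_eq_one_of_commute_commutator h1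
  intro v hv
  exact h2 _ (h3 v hv)

theorem isPGroup_chainStab [Fact p.Prime] (L : Subgroup G) : IsPGroup p ↥(h.chainStab L) := by
  intro s
  refine ⟨1, ?_⟩
  rw [pow_one]
  exact Subtype.ext (by simpa using h.chainStab_pow s.2)

theorem chainStab_inf_ffQ [Finite G] [Fact p.Prime] (L : Subgroup G) :
    h.chainStab L ⊓ ffQ p H = ⊥ :=
  Cfsg.Agent.Lib.Helper50.inf_eq_bot_of_isPGroup_of_coprime (h.isPGroup_chainStab L)
    (card_ffQ_coprime p H)

/-- the chain stabilizer is normalized by the elements of `H` normalizing `L` -/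
theorem conj_mem_chainStab {L : Subgroup G} {k s : G} (hkH : k ∈ H)
    (hkL : k ∈ Subgroup.normalizer (L : Set G)) (hs : s ∈ h.chainStab L) :
    k * s * k⁻¹ ∈ h.chainStab L := by
  obtain ⟨h1, h2, h3⟩ := h.mem_chainStab.mp hs
  rw [h.mem_chainStab]
  refine ⟨H.mul_mem (H.mul_mem hkH h1) (H.inv_mem hkH), ?_, ?_⟩
  · exact (Subgroup.mem_normalizer_iff.mp (normalizer_le_normalizer_centralizer L hkL) s).mp h2
  · intro v hv
    have hv' : k⁻¹ * v * k ∈ V := by
      have := (Subgroup.mem_normalizer_iff.mp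
        ((Subgroup.normalizer (V : Set G)).inv_mem (h.norm hkH)) v).mp hv
      rwa [inv_inv] at this
    have h4 := h3 _ hv'
    have e : ⁅v, k * s * k⁻¹⁆ = k * ⁅k⁻¹ * v * k, s⁆ * k⁻¹ := by
      simp only [commutatorElement_def]; group
    rw [e]
    exact (Subgroup.mem_normalizer_iff.mp hkL _).mp h4

/-- the chain stabilizer is abelian -/
theorem chainStab_comm {L : Subgroup G} (hLV : L ≤ V) {s t : G} (hs : s ∈ h.chainStab L)
    (ht : t ∈ h.chainStab L) : s * t = t * s := by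
  obtain ⟨hs1, hs2, hs3⟩ := h.mem_chainStab.mp hs
  obtain ⟨ht1, ht2, ht3⟩ := h.mem_chainStab.mp ht
  have hVc := elemAb_comm h.elem
  have key : ∀ s ∈ h.chainStab L, ∀ v : G, s * v * s⁻¹ = (⁅v, s⁆)⁻¹ * v := by
    intro s _ v
    rw [commutatorElement_def]; group
  have h1 : ∀ v ∈ V, (s * t) * v * (s * t)⁻¹ = (t * s) * v * (t * s)⁻¹ := by
    intro v hv
    have e1 : (s * t) * v * (s * t)⁻¹ = s * (t * v * t⁻¹) * s⁻¹ := by group
    have e2 : (t * s) * v * (t * s)⁻¹ = t * (s * v * s⁻¹) * t⁻¹ := by group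
    have c1 : s * (⁅v, t⁆)⁻¹ * s⁻¹ = (⁅v, t⁆)⁻¹ := by
      have := hs2 _ (L.inv_mem (ht3 v hv))
      rw [← this]; group
    have c2 : t * (⁅v, s⁆)⁻¹ * t⁻¹ = (⁅v, s⁆)⁻¹ := by
      have := ht2 _ (L.inv_mem (hs3 v hv))
      rw [← this]; group
    rw [e1, e2, key t ht v, key s hs v]
    calc s * ((⁅v, t⁆)⁻¹ * v) * s⁻¹ = (s * (⁅v, t⁆)⁻¹ * s⁻¹) * (s * v * s⁻¹) := by group
      _ = (⁅v, t⁆)⁻¹ * ((⁅v, s⁆)⁻¹ * v) := by rw [c1, key s hs v]
      _ = ((⁅v, t⁆)⁻¹ * (⁅v, s⁆)⁻¹) * v := by group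
      _ = ((⁅v, s⁆)⁻¹ * (⁅v, t⁆)⁻¹) * v := by
          rw [hVc _ (hLV (L.inv_mem (ht3 v hv))) _ (hLV (L.inv_mem (hs3 v hv)))]
      _ = (t * (⁅v, s⁆)⁻¹ * t⁻¹) * ((⁅v, t⁆)⁻¹ * v) := by rw [c2]; group
      _ = (t * (⁅v, s⁆)⁻¹ * t⁻¹) * (t * v * t⁻¹) := by rw [key t ht v]
      _ = t * ((⁅v, s⁆)⁻¹ * v) * t⁻¹ := by group
  have h2 : (t * s)⁻¹ * (s * t) = 1 := by
    apply h.eq_one_of_mem_of_mem_centralizer
    · exact H.mul_mem (H.inv_mem (H.mul_mem ht1 hs1)) (H.mul_mem hs1 ht1)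
    · rw [Subgroup.mem_centralizer_iff]
      intro v hv
      have := h1 v hv
      calc v * ((t * s)⁻¹ * (s * t))
          = (t * s)⁻¹ * ((t * s) * v * (t * s)⁻¹) * (t * s) * ((t * s)⁻¹ * (s * t)) := by group
        _ = (t * s)⁻¹ * ((s * t) * v * (s * t)⁻¹) * (t * s) * ((t * s)⁻¹ * (s * t)) := by rw [this]
        _ = (t * s)⁻¹ * (s * t) * v := by group
  calc s * t = (t * s) * ((t * s)⁻¹ * (s * t)) := by group
    _ = t * s := by rw [h2, mul_one]

/-- **Subgroups of order `p` of `H` inducing transvections are determined by their centre.** -/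
theorem eq_of_commutator_eq [Finite G] [Fact p.Prime] {A B : Subgroup G} (hAH : A ≤ H)
    (hBH : B ≤ H) (hcardA : Nat.card A = p) (hcardB : Nat.card B = p) (hL : ⁅V, A⁆ = ⁅V, B⁆)
    (hcardL : Nat.card ↥(⁅V, A⁆) = p) : A = B := by
  have hp : p.Prime := Fact.out
  by_contra hne
  have hLV : ⁅V, A⁆ ≤ V :=
    Cfsg.Agent.Lib.Helper24.commutator_le_of_le_normalizer V A (hAH.trans h.norm)
  have hAS : A ≤ h.chainStab ⁅V, A⁆ := by
    intro a ha
    rw [h.mem_chainStab]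
    refine ⟨hAH ha, ?_, fun v hv => Subgroup.commutator_mem_commutator hv ha⟩
    exact (Subgroup.le_centralizer_iff.mp (h.commutator_le_centralizer_of_card hAH hcardA hcardL)) ha
  have hBS : B ≤ h.chainStab ⁅V, A⁆ := by
    intro b hb
    rw [h.mem_chainStab]
    refine ⟨hBH hb, ?_, fun v hv => hL ▸ Subgroup.commutator_mem_commutator hv hb⟩
    have := h.commutator_le_centralizer_of_card hBH hcardB (hL ▸ hcardL)
    rw [← hL] at this
    exact (Subgroup.le_centralizer_iff.mp this) hb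
  have hPS : A ⊔ B ≤ h.chainStab ⁅V, A⁆ := sup_le hAS hBS
  have hPc : ∀ x ∈ A ⊔ B, ∀ y ∈ A ⊔ B, x * y = y * x :=
    fun x hx y hy => h.chainStab_comm hLV (hPS hx) (hPS hy)
  have hPH : A ⊔ B ≤ H := sup_le hAH hBH
  have hAB : A ⊓ B = ⊥ := by
    by_contra hcon
    apply hne
    have h1 := Cfsg.Agent.Lib.Helper86.eq_of_le_of_prime_card hp
      (inf_le_left : A ⊓ B ≤ A) hcon hcardA
    have h2 := Cfsg.Agent.Lib.Helper86.eq_of_le_of_prime_card hp
      (inf_le_right : A ⊓ B ≤ B) hcon hcardB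
    rw [← h1, h2]
  have hcardP : Nat.card ↥(A ⊔ B) = p * p := by
    have hn : A ≤ Subgroup.normalizer (B : Set G) := by
      apply le_normalizer_of_forall_conj_mem
      intro a ha b hb
      have : a * b * a⁻¹ = b := by
        rw [hPc a (Subgroup.mem_sup_left ha) b (Subgroup.mem_sup_right hb)]; group
      rw [this]; exact hb
    have := card_sup_mul_card_inf hn
    rwa [hAB, Subgroup.card_bot, mul_one, hcardA, hcardB] at this
  have hQcop : (Nat.card (ffQ p H)).Coprime p := card_ffQ_coprime p H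
  have hPab : IsMulCommutative ↥(A ⊔ B) := isMulCommutative_iff_of_setLike.mpr hPc
  have hPQ : A ⊔ B ≤ Subgroup.normalizer (ffQ p H : Set G) := hPH.trans (le_normalizer_ffQ p H)
  have hcop : (Nat.card ↥(A ⊔ B)).Coprime (Nat.card (ffQ p H)) := by
    rw [hcardP]
    exact Nat.Coprime.mul_left hQcop.symm hQcop.symm
  have hgen := (Cfsg.Agent.S3734.result (A ⊔ B) (ffQ p H) hPab hPQ hcop).1
  have hcl : ∀ B'' ∈ {B'' : Subgroup G | B'' ≤ A ⊔ B ∧ ∃ c ∈ A ⊔ B, B'' ⊔ Subgroup.zpowers c = A ⊔ B},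
      ffQ p H ⊓ Subgroup.centralizer (B'' : Set G) ≤ Subgroup.centralizer ((A ⊔ B : Subgroup G) : Set G) := by
    rintro B'' ⟨hB''P, c, hcP, hsup⟩
    have hB''1 : B'' ≠ ⊥ := by
      intro hcon
      rw [hcon, bot_sup_eq] at hsup
      have h1 : Nat.card ↥(Subgroup.zpowers c) = p * p := by rw [hsup, hcardP]
      rw [Nat.card_zpowers] at h1
      have h2 : orderOf c ∣ p := orderOf_dvd_of_pow_eq_one (h.chainStab_pow (hPS hcP))
      have h3 := Nat.le_of_dvd hp.pos h2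
      rw [h1] at h3
      have := hp.one_lt
      nlinarith
    obtain ⟨b, hbB'', hb1⟩ : ∃ b ∈ B'', b ≠ 1 := by
      by_contra hcon
      push Not at hcon
      exact hB''1 ((Subgroup.eq_bot_iff_forall B'').mpr hcon)
    have hbS : b ∈ h.chainStab ⁅V, A⁆ := hPS (hB''P hbB'')
    have hbH : b ∈ H := hPH (hB''P hbB'')
    -- `L = [V, ⟨b⟩]`
    have hLb : ⁅V, Subgroup.zpowers b⁆ = ⁅V, A⁆ := by
      have hle : ⁅V, Subgroup.zpowers b⁆ ≤ ⁅V, A⁆ := by
        apply commutator_le_of_le_commStab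
        rw [Subgroup.zpowers_le]
        have : b ∈ H ⊓ Subgroup.centralizer ((⁅V, A⁆ : Subgroup G) : Set G) ⊓ commStab V ⁅V, A⁆ := hbS
        exact (Subgroup.mem_inf.mp this).2
      have hzH : Subgroup.zpowers b ≤ H := (Subgroup.zpowers_le).mpr hbH
      have hne' : ⁅V, Subgroup.zpowers b⁆ ≠ ⊥ := by
        rw [h.ne_bot_iff_commutator_ne_bot hzH]
        intro hcon
        apply hb1
        have : b ∈ (⊥ : Subgroup G) := hcon ▸ Subgroup.mem_zpowers b
        exact Subgroup.mem_bot.mp this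
      exact Cfsg.Agent.Lib.Helper86.eq_of_le_of_prime_card hp hle hne' hcardL
    intro k hk
    obtain ⟨hkQ, hkC⟩ := Subgroup.mem_inf.mp hk
    have hkH : k ∈ H := ffQ_le p H hkQ
    have hkb : b * k = k * b := hkC b hbB''
    have hkL : k ∈ Subgroup.normalizer ((⁅V, A⁆ : Subgroup G) : Set G) := by
      rw [← hLb]
      have hX1 : H ⊓ Subgroup.centralizer ((Subgroup.zpowers b : Subgroup G) : Set G) ≤
          Subgroup.normalizer (V : Set G) := inf_le_left.trans h.norm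
      have hX2 : H ⊓ Subgroup.centralizer ((Subgroup.zpowers b : Subgroup G) : Set G) ≤
          Subgroup.normalizer ((Subgroup.zpowers b : Subgroup G) : Set G) := by
        apply le_normalizer_of_forall_conj_mem
        intro y hy z hz
        have := (Subgroup.mem_inf.mp hy).2 z hz
        have e : y * z * y⁻¹ = z := by rw [← this]; group
        rw [e]; exact hz
      apply le_normalizer_commutator_of_le hX1 hX2
      exact Subgroup.mem_inf.mpr ⟨hkH, mem_centralizer_zpowers_iff.mpr hkb⟩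
    rw [Subgroup.mem_centralizer_iff]
    intro x hx
    have hxS := hPS hx
    have hxH := hPH hx
    have h1 : k * x * k⁻¹ * x⁻¹ ∈ h.chainStab ⁅V, A⁆ ⊓ ffQ p H := by
      refine Subgroup.mem_inf.mpr ⟨?_, ?_⟩
      · exact Subgroup.mul_mem _ (h.conj_mem_chainStab hkH hkL hxS) (Subgroup.inv_mem _ hxS)
      · have h2 : x * k⁻¹ * x⁻¹ ∈ ffQ p H :=
          (Subgroup.mem_normalizer_iff.mp (le_normalizer_ffQ p H hxH) _).mp ((ffQ p H).inv_mem hkQ)
        have e : k * x * k⁻¹ * x⁻¹ = k * (x * k⁻¹ * x⁻¹) := by group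
        rw [e]
        exact (ffQ p H).mul_mem hkQ h2
    rw [h.chainStab_inf_ffQ, Subgroup.mem_bot] at h1
    calc x * k = (k * x * k⁻¹ * x⁻¹)⁻¹ * (k * x) := by group
      _ = k * x := by rw [h1, inv_one, one_mul]
  have hQC : ffQ p H ≤ Subgroup.centralizer ((A ⊔ B : Subgroup G) : Set G) := by
    rw [← hgen]
    exact iSup₂_le hcl
  have hPQ' : A ⊔ B ≤ ffQ p H :=
    h.le_ffQ_of_le_centralizer hPH (Subgroup.le_centralizer_iff.mp hQC)
  have hAp : IsPGroup p A := IsPGroup.of_card (n := 1) (by rw [hcardA, pow_one])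
  have hAQ : A ⊓ ffQ p H = ⊥ := Cfsg.Agent.Lib.Helper50.inf_eq_bot_of_isPGroup_of_coprime hAp hQcop
  have hA1 : A = ⊥ := by
    rw [eq_bot_iff, ← hAQ]
    exact le_inf le_rfl (le_sup_left.trans hPQ')
  rw [hA1, Subgroup.card_bot] at hcardA
  exact hp.one_lt.ne hcardA

omit h in
/-- a subgroup of order `p²` of `V` meets every hyperplane `C_V(X)` -/
theorem inf_centralizer_ne_bot_of_card [Finite G] [Fact p.Prime] {U X : Subgroup G}
    (hVc : ∀ x ∈ V, ∀ y ∈ V, x * y = y * x) (hUV : U ≤ V) (hU : Nat.card U = p ^ 2)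
    (hX : (V ⊓ Subgroup.centralizer (X : Set G)).relIndex V = p) :
    U ⊓ Subgroup.centralizer (X : Set G) ≠ ⊥ := by
  have hp : p.Prime := Fact.out
  intro hcon
  have hn : U ≤ Subgroup.normalizer ((V ⊓ Subgroup.centralizer (X : Set G) : Subgroup G) : Set G) := by
    apply le_normalizer_of_forall_conj_mem
    intro u hu c hc
    have : u * c * u⁻¹ = c := by
      rw [hVc u (hUV hu) c (Subgroup.mem_inf.mp hc).1]; group
    rw [this]; exact hc
  have h1 := card_sup_mul_card_inf hn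
  have h2 : U ⊓ (V ⊓ Subgroup.centralizer (X : Set G)) = ⊥ := by
    rw [← inf_assoc, inf_eq_left.mpr hUV, hcon]
  rw [h2, Subgroup.card_bot, mul_one, hU] at h1
  have h3 : Nat.card ↥(U ⊔ (V ⊓ Subgroup.centralizer (X : Set G))) ≤ Nat.card V :=
    Subgroup.card_le_of_le (sup_le hUV inf_le_left)
  have h4 := card_mul_relIndex_of_le (inf_le_left : V ⊓ Subgroup.centralizer (X : Set G) ≤ V)
  rw [hX] at h4
  rw [h1, ← h4] at h3
  have hpos : 0 < Nat.card ↥(V ⊓ Subgroup.centralizer (X : Set G)) := Nat.card_pos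
  have := hp.one_lt
  nlinarith

omit h in
/-- the conjugates of a second line under a transvection group cover the plane -/
theorem exists_conj_mem_of_mem_sup [Finite G] [Fact p.Prime] {A L₁ L₂ : Subgroup G}
    (hVc : ∀ x ∈ V, ∀ y ∈ V, x * y = y * x) (hL₁V : L₁ ≤ V) (hL₂V : L₂ ≤ V)
    (hcardA : Nat.card A = p) (hcardL₁ : Nat.card L₁ = p) (hVA : ⁅V, A⁆ ≤ L₁)
    (hAL₁ : L₁ ≤ Subgroup.centralizer (A : Set G))
    (hAL₂ : L₂ ⊓ Subgroup.centralizer (A : Set G) = ⊥) {w : G} (hw : w ∈ L₁ ⊔ L₂) :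
    w ∈ L₁ ∨ ∃ a' ∈ A, a' * w * a'⁻¹ ∈ L₂ := by
  have hp : p.Prime := Fact.out
  obtain ⟨l₁, hl₁, l₂, hl₂, rfl⟩ :=
    exists_mul_of_mem_sup_comm (fun x hx y hy => hVc x (hL₁V hx) y (hL₂V hy)) hw
  by_cases hl₂1 : l₂ = 1
  · left; rw [hl₂1, mul_one]; exact hl₁
  right
  have hmem : ∀ a' : ↥A, ⁅(a' : G), l₂⁆ ∈ L₁ := by
    intro a'
    have h1 : ⁅l₂, (a' : G)⁆ ∈ ⁅V, A⁆ := Subgroup.commutator_mem_commutator (hL₂V hl₂) a'.2
    have e : ⁅(a' : G), l₂⁆ = (⁅l₂, (a' : G)⁆)⁻¹ := by simp only [commutatorElement_def]; group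
    rw [e]; exact L₁.inv_mem (hVA h1)
  let f : ↥A → ↥L₁ := fun a' => ⟨⁅(a' : G), l₂⁆, hmem a'⟩
  have hinj : Function.Injective f := by
    intro a' a'' hff
    have h1 : ⁅(a' : G), l₂⁆ = ⁅(a'' : G), l₂⁆ := congrArg Subtype.val hff
    by_contra hne
    have hc1 : ((a'' : G)⁻¹ * (a' : G)) ≠ 1 := by
      intro hcon
      apply hne
      apply Subtype.ext
      calc (a' : G) = (a'' : G) * ((a'' : G)⁻¹ * (a' : G)) := by group
        _ = (a'' : G) := by rw [hcon, mul_one]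
    have hcA : (a'' : G)⁻¹ * (a' : G) ∈ A := A.mul_mem (A.inv_mem a''.2) a'.2
    have hcl : ((a'' : G)⁻¹ * (a' : G)) * l₂ = l₂ * ((a'' : G)⁻¹ * (a' : G)) := by
      simp only [commutatorElement_def] at h1
      calc ((a'' : G)⁻¹ * (a' : G)) * l₂
          = (a'' : G)⁻¹ * ((a' : G) * l₂ * (a' : G)⁻¹ * l₂⁻¹) * l₂ * (a' : G) := by group
        _ = (a'' : G)⁻¹ * ((a'' : G) * l₂ * (a'' : G)⁻¹ * l₂⁻¹) * l₂ * (a' : G) := by rw [h1]
        _ = l₂ * ((a'' : G)⁻¹ * (a' : G)) := by group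
    have hz : Subgroup.zpowers ((a'' : G)⁻¹ * (a' : G)) = A := by
      apply Cfsg.Agent.Lib.Helper86.eq_of_le_of_prime_card hp ((Subgroup.zpowers_le).mpr hcA) _ hcardA
      intro hcon
      apply hc1
      have : (a'' : G)⁻¹ * (a' : G) ∈ (⊥ : Subgroup G) := hcon ▸ Subgroup.mem_zpowers _
      exact Subgroup.mem_bot.mp this
    have h2 : l₂ ∈ Subgroup.centralizer (A : Set G) := by
      rw [← hz]; exact mem_centralizer_zpowers_iff.mpr hcl
    have h3 : l₂ ∈ L₂ ⊓ Subgroup.centralizer (A : Set G) := Subgroup.mem_inf.mpr ⟨hl₂, h2⟩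
    rw [hAL₂, Subgroup.mem_bot] at h3
    exact hl₂1 h3
  have hbij := Function.Injective.bijective_of_nat_card_le hinj (by rw [hcardL₁, hcardA])
  obtain ⟨a', ha'⟩ := hbij.2 ⟨l₁⁻¹, L₁.inv_mem hl₁⟩
  have h1 : ⁅(a' : G), l₂⁆ = l₁⁻¹ := congrArg Subtype.val ha'
  refine ⟨a', a'.2, ?_⟩
  have h2 : (a' : G) * l₁ = l₁ * (a' : G) := hAL₁ hl₁ a' a'.2
  have e : (a' : G) * (l₁ * l₂) * (a' : G)⁻¹ = l₂ := by
    rw [commutatorElement_def] at h1
    calc (a' : G) * (l₁ * l₂) * (a' : G)⁻¹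
        = ((a' : G) * l₁) * (a' : G)⁻¹ * ((a' : G) * l₂ * (a' : G)⁻¹ * l₂⁻¹) * l₂ := by group
      _ = (l₁ * (a' : G)) * (a' : G)⁻¹ * l₁⁻¹ * l₂ := by rw [h2, h1]
      _ = l₂ := by group
  rw [e]; exact hl₂

omit h in
theorem map_conj_one (A : Subgroup G) : A.map (MulAut.conj (1 : G)).toMonoidHom = A := by
  ext y
  rw [mem_map_conj_iff]
  simp

/-- every element of `W = [V, ⟨A, A^r⟩]` lies in the centre `[V, A^t]` of a conjugate `A^t ≤ ⟨A, A^r⟩`,
`t ∈ O_{p'}(H)` -/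
theorem exists_conj_of_mem_commutator [Finite G] [Fact p.Prime] {A : Subgroup G} (hAH : A ≤ H)
    (hA : IsMinBO p V A) {r : G} (hr : r ∈ ffQ p H)
    (hrA : r ∉ Subgroup.centralizer (A : Set G)) {w : G}
    (hw : w ∈ ⁅V, A ⊔ A.map (MulAut.conj r).toMonoidHom⁆) :
    ∃ B : Subgroup G, B ≤ A ⊔ A.map (MulAut.conj r).toMonoidHom ∧
      (∃ t ∈ ffQ p H, B = A.map (MulAut.conj t).toMonoidHom) ∧ w ∈ ⁅V, B⁆ := by
  have hp : p.Prime := Fact.out
  obtain ⟨-, hcardW, hD₀, -, hWeq, hinf⟩ := h.sl2_of_conj hAH hA hr hrA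
  obtain ⟨hcardA, hcardL₁, hrel⟩ := h.isMinBO_card hAH hA
  have hrH : r ∈ H := ffQ_le p H hr
  have hAr := h.isMinBO_map_conj hA hrH
  have hArH : A.map (MulAut.conj r).toMonoidHom ≤ H := by
    rintro _ ⟨a, ha, rfl⟩
    exact H.mul_mem (H.mul_mem hrH (hAH ha)) (H.inv_mem hrH)
  obtain ⟨hcardAr, hcardL₂, -⟩ := h.isMinBO_card hArH hAr
  have hVc := elemAb_comm h.elem
  have hL₁V : ⁅V, A⁆ ≤ V :=
    Cfsg.Agent.Lib.Helper24.commutator_le_of_le_normalizer V A (hAH.trans h.norm)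
  have hL₂V : ⁅V, A.map (MulAut.conj r).toMonoidHom⁆ ≤ V :=
    Cfsg.Agent.Lib.Helper24.commutator_le_of_le_normalizer V _ (hArH.trans h.norm)
  have hcL₁ := h.commutator_le_centralizer_of_card hAH hcardA hcardL₁
  have hAL₂ : ⁅V, A.map (MulAut.conj r).toMonoidHom⁆ ⊓ Subgroup.centralizer (A : Set G) = ⊥ := by
    by_contra hcon
    have h1 := Cfsg.Agent.Lib.Helper86.eq_of_le_of_prime_card hp
      (inf_le_left : ⁅V, A.map (MulAut.conj r).toMonoidHom⁆ ⊓ Subgroup.centralizer (A : Set G) ≤ _)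
      hcon hcardL₂
    have h2 : ⁅V, A.map (MulAut.conj r).toMonoidHom⁆ ≤ Subgroup.centralizer (A : Set G) := by
      rw [← h1]; exact inf_le_right
    have h3 : A ≤ (A ⊔ A.map (MulAut.conj r).toMonoidHom) ⊓ Subgroup.centralizer
        ((⁅V, A ⊔ A.map (MulAut.conj r).toMonoidHom⁆ : Subgroup G) : Set G) := by
      apply le_inf le_sup_left
      rw [hWeq, Subgroup.le_centralizer_iff]
      exact sup_le hcL₁ h2
    rw [hD₀] at h3
    exact hA.2.1 (le_bot_iff.mp h3)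
  rw [hWeq] at hw
  rcases exists_conj_mem_of_mem_sup hVc hL₁V hL₂V hcardA hcardL₁ le_rfl hcL₁ hAL₂ hw with h1 | h1
  · refine ⟨A, le_sup_left, ⟨1, Subgroup.one_mem _, (map_conj_one A).symm⟩, h1⟩
  · obtain ⟨a', ha', hw'⟩ := h1
    have ha'D : a'⁻¹ ∈ A ⊔ A.map (MulAut.conj r).toMonoidHom :=
      Subgroup.inv_mem _ (Subgroup.mem_sup_left ha')
    have ha'Q : a'⁻¹ ∈ Subgroup.normalizer (ffQ p H : Set G) :=
      le_normalizer_ffQ p H (H.inv_mem (hAH ha'))
    have ha'V : a'⁻¹ ∈ Subgroup.normalizer (V : Set G) := h.norm (H.inv_mem (hAH ha'))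
    refine ⟨(A.map (MulAut.conj r).toMonoidHom).map (MulAut.conj a'⁻¹).toMonoidHom, ?_, ?_, ?_⟩
    · have h2 := Subgroup.map_mono (f := (MulAut.conj a'⁻¹).toMonoidHom)
        (le_sup_right : A.map (MulAut.conj r).toMonoidHom ≤ A ⊔ A.map (MulAut.conj r).toMonoidHom)
      rwa [map_conj_eq_of_mem_normalizer (Subgroup.le_normalizer ha'D)] at h2
    · refine ⟨a'⁻¹ * r * a', ?_, ?_⟩
      · have := (Subgroup.mem_normalizer_iff.mp ha'Q r).mp hr
        rwa [inv_inv] at this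
      · rw [← map_conj_map_conj (a'⁻¹ * r) a' A,
          map_conj_eq_of_mem_normalizer (Subgroup.le_normalizer ha'), map_conj_map_conj]
    · have h2 : ⁅V, (A.map (MulAut.conj r).toMonoidHom).map (MulAut.conj a'⁻¹).toMonoidHom⁆ =
          (⁅V, A.map (MulAut.conj r).toMonoidHom⁆).map (MulAut.conj a'⁻¹).toMonoidHom := by
        rw [Subgroup.map_commutator, map_conj_eq_of_mem_normalizer ha'V]
      rw [h2, mem_map_conj_iff, inv_inv]
      exact hw'

/-- KS 9.3.5: all conjugates of `A` under `O_{p'}(H)` lie in `⟨A, A^r⟩`. -/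
theorem map_conj_le_of_mem_ffQ [Finite G] [Fact p.Prime] {A : Subgroup G} (hAH : A ≤ H)
    (hA : IsMinBO p V A) {r : G} (hr : r ∈ ffQ p H)
    (hrA : r ∉ Subgroup.centralizer (A : Set G)) {s : G} (hs : s ∈ ffQ p H) :
    A.map (MulAut.conj s).toMonoidHom ≤ A ⊔ A.map (MulAut.conj r).toMonoidHom := by
  have hp : p.Prime := Fact.out
  obtain ⟨-, hcardW, hD₀, -, hWeq, hinf⟩ := h.sl2_of_conj hAH hA hr hrA
  have hsH : s ∈ H := ffQ_le p H hs
  have hBs := h.isMinBO_map_conj hA hsH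
  have hBsH : A.map (MulAut.conj s).toMonoidHom ≤ H := by
    rintro _ ⟨a, ha, rfl⟩
    exact H.mul_mem (H.mul_mem hsH (hAH ha)) (H.inv_mem hsH)
  obtain ⟨hcardBs, hcardLs, hrels⟩ := h.isMinBO_card hBsH hBs
  have hVc := elemAb_comm h.elem
  have hDH : A ⊔ A.map (MulAut.conj r).toMonoidHom ≤ H := by
    apply sup_le hAH
    rintro _ ⟨a, ha, rfl⟩
    exact H.mul_mem (H.mul_mem (ffQ_le p H hr) (hAH ha)) (H.inv_mem (ffQ_le p H hr))
  have hWV : ⁅V, A ⊔ A.map (MulAut.conj r).toMonoidHom⁆ ≤ V :=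
    Cfsg.Agent.Lib.Helper24.commutator_le_of_le_normalizer V _ (hDH.trans h.norm)
  have hcLs := h.commutator_le_centralizer_of_card hBsH hcardBs hcardLs
  -- facts about the conjugates `A^t ≤ D`
  have hconj : ∀ B : Subgroup G, (∃ t ∈ ffQ p H, B = A.map (MulAut.conj t).toMonoidHom) →
      B ≤ H ∧ IsMinBO p V B := by
    rintro B ⟨t, ht, rfl⟩
    refine ⟨?_, h.isMinBO_map_conj hA (ffQ_le p H ht)⟩
    rintro _ ⟨a, ha, rfl⟩
    exact H.mul_mem (H.mul_mem (ffQ_le p H ht) (hAH ha)) (H.inv_mem (ffQ_le p H ht))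
  -- Step 1: `[V, A^s] ≤ W`
  have hLsW : ⁅V, A.map (MulAut.conj s).toMonoidHom⁆ ≤
      ⁅V, A ⊔ A.map (MulAut.conj r).toMonoidHom⁆ := by
    by_contra hnle
    obtain ⟨w, hw, hw1⟩ : ∃ w ∈ ⁅V, A ⊔ A.map (MulAut.conj r).toMonoidHom⁆ ⊓
        Subgroup.centralizer ((A.map (MulAut.conj s).toMonoidHom : Subgroup G) : Set G), w ≠ 1 := by
      by_contra hcon
      push Not at hcon
      exact inf_centralizer_ne_bot_of_card hVc hWV hcardW hrels
        ((Subgroup.eq_bot_iff_forall _).mpr hcon)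
    obtain ⟨hwW, hwC⟩ := Subgroup.mem_inf.mp hw
    obtain ⟨B, hBD, ⟨t, ht, hBt⟩, hwB⟩ := h.exists_conj_of_mem_commutator hAH hA hr hrA hwW
    obtain ⟨hBH, hBmin⟩ := hconj B ⟨t, ht, hBt⟩
    obtain ⟨hcardB, hcardLt, -⟩ := h.isMinBO_card hBH hBmin
    have hLtW : ⁅V, B⁆ ≤ ⁅V, A ⊔ A.map (MulAut.conj r).toMonoidHom⁆ :=
      Subgroup.commutator_mono le_rfl hBD
    have hLtC : ⁅V, B⁆ ≤ Subgroup.centralizer
        ((A.map (MulAut.conj s).toMonoidHom : Subgroup G) : Set G) := by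
      have hne : ⁅V, B⁆ ⊓ Subgroup.centralizer
          ((A.map (MulAut.conj s).toMonoidHom : Subgroup G) : Set G) ≠ ⊥ := by
        intro hcon
        apply hw1
        have : w ∈ ⁅V, B⁆ ⊓ Subgroup.centralizer
          ((A.map (MulAut.conj s).toMonoidHom : Subgroup G) : Set G) := Subgroup.mem_inf.mpr ⟨hwB, hwC⟩
        rwa [hcon, Subgroup.mem_bot] at this
      have := Cfsg.Agent.Lib.Helper86.eq_of_le_of_prime_card hp inf_le_left hne hcardLt
      rw [← this]; exact inf_le_right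
    have hBne : B ≠ A.map (MulAut.conj s).toMonoidHom := by
      intro hcon
      apply hnle
      rw [← hcon]; exact hLtW
    -- the pair `B, B^x = A^s`
    have hxQ : s * t⁻¹ ∈ ffQ p H := (ffQ p H).mul_mem hs ((ffQ p H).inv_mem ht)
    have hBx : B.map (MulAut.conj (s * t⁻¹)).toMonoidHom = A.map (MulAut.conj s).toMonoidHom := by
      rw [hBt, map_conj_map_conj]
      congr 3
      group
    have hxB : s * t⁻¹ ∉ Subgroup.centralizer (B : Set G) := by
      intro hcon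
      apply hBne
      rw [← hBx]
      symm
      apply map_conj_eq_of_mem_normalizer
      apply le_normalizer_of_forall_conj_mem (X := Subgroup.centralizer (B : Set G)) _ hcon
      intro c hc b hb
      have := hc b hb
      have e : c * b * c⁻¹ = b := by rw [← this]; group
      rw [e]; exact hb
    obtain ⟨-, -, hD₀', -, hWeq', -⟩ := h.sl2_of_conj hBH hBmin hxQ hxB
    rw [hBx] at hD₀' hWeq'
    have h3 : A.map (MulAut.conj s).toMonoidHom ≤ (B ⊔ A.map (MulAut.conj s).toMonoidHom) ⊓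
        Subgroup.centralizer ((⁅V, B ⊔ A.map (MulAut.conj s).toMonoidHom⁆ : Subgroup G) : Set G) := by
      apply le_inf le_sup_right
      rw [hWeq', Subgroup.le_centralizer_iff]
      exact sup_le hLtC hcLs
    rw [hD₀'] at h3
    exact hBs.2.1 (le_bot_iff.mp h3)
  -- Step 2
  obtain ⟨w, hw, hw1⟩ : ∃ w ∈ ⁅V, A.map (MulAut.conj s).toMonoidHom⁆, w ≠ 1 := by
    by_contra hcon
    push Not at hcon
    have h1 : ⁅V, A.map (MulAut.conj s).toMonoidHom⁆ = ⊥ := (Subgroup.eq_bot_iff_forall _).mpr hcon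
    rw [h1, Subgroup.card_bot] at hcardLs
    exact hp.one_lt.ne hcardLs
  obtain ⟨B, hBD, ⟨t, ht, hBt⟩, hwB⟩ := h.exists_conj_of_mem_commutator hAH hA hr hrA (hLsW hw)
  obtain ⟨hBH, hBmin⟩ := hconj B ⟨t, ht, hBt⟩
  obtain ⟨hcardB, hcardLt, -⟩ := h.isMinBO_card hBH hBmin
  have hne : ⁅V, B⁆ ⊓ ⁅V, A.map (MulAut.conj s).toMonoidHom⁆ ≠ ⊥ := by
    intro hcon
    apply hw1
    have : w ∈ ⁅V, B⁆ ⊓ ⁅V, A.map (MulAut.conj s).toMonoidHom⁆ := Subgroup.mem_inf.mpr ⟨hwB, hw⟩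
    rwa [hcon, Subgroup.mem_bot] at this
  have h1 := Cfsg.Agent.Lib.Helper86.eq_of_le_of_prime_card hp inf_le_left hne hcardLt
  have h2 := Cfsg.Agent.Lib.Helper86.eq_of_le_of_prime_card hp inf_le_right hne hcardLs
  have h3 : ⁅V, B⁆ = ⁅V, A.map (MulAut.conj s).toMonoidHom⁆ := by rw [← h1, h2]
  have h4 := h.eq_of_commutator_eq hBH hBsH hcardB hcardBs h3 hcardLt
  rw [← h4]; exact hBD

/-- KS 9.3.5: `[O_{p'}(H), A] A = ⟨A, A^r⟩`. -/
theorem ffE_eq [Finite G] [Fact p.Prime] {A : Subgroup G} (hAH : A ≤ H)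
    (hA : IsMinBO p V A) {r : G} (hr : r ∈ ffQ p H)
    (hrA : r ∉ Subgroup.centralizer (A : Set G)) :
    ⁅ffQ p H, A⁆ ⊔ A = A ⊔ A.map (MulAut.conj r).toMonoidHom := by
  apply le_antisymm
  · apply sup_le _ le_sup_left
    rw [Subgroup.commutator_le]
    intro s hs a ha
    have h1 : s * a * s⁻¹ ∈ A ⊔ A.map (MulAut.conj r).toMonoidHom :=
      h.map_conj_le_of_mem_ffQ hAH hA hr hrA hs ⟨a, ha, by simp [MulAut.conj_apply]⟩
    rw [commutatorElement_def]
    exact Subgroup.mul_mem _ h1 (Subgroup.inv_mem _ (Subgroup.mem_sup_left ha))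
  · apply sup_le le_sup_right
    rintro _ ⟨a, ha, rfl⟩
    have e : (MulAut.conj r).toMonoidHom a = ⁅r, a⁆ * a := by
      simp only [MulEquiv.coe_toMonoidHom, MulAut.conj_apply, commutatorElement_def]; group
    rw [e]
    exact Subgroup.mul_mem _ (Subgroup.mem_sup_left (Subgroup.commutator_mem_commutator hr ha))
      (Subgroup.mem_sup_right ha)

/-- a minimal best offender does not centralize `O_{p'}(H)` -/
theorem exists_not_mem_centralizer [Finite G] [Fact p.Prime] {A : Subgroup G} (hAH : A ≤ H)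
    (hA : IsMinBO p V A) : ∃ r ∈ ffQ p H, r ∉ Subgroup.centralizer (A : Set G) := by
  have hp : p.Prime := Fact.out
  by_contra hcon
  push Not at hcon
  have h1 : A ≤ Subgroup.centralizer (ffQ p H : Set G) := Subgroup.le_centralizer_iff.mp hcon
  have h2 := h.le_ffQ_of_le_centralizer hAH h1
  obtain ⟨hcardA, -, -⟩ := h.isMinBO_card hAH hA
  have hAp : IsPGroup p A := IsPGroup.of_card (n := 1) (by rw [hcardA, pow_one])
  have hAQ : A ⊓ ffQ p H = ⊥ :=
    Cfsg.Agent.Lib.Helper50.inf_eq_bot_of_isPGroup_of_coprime hAp (card_ffQ_coprime p H)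
  apply hA.2.1
  rw [eq_bot_iff, ← hAQ]
  exact le_inf le_rfl h2

/-- KS 9.3.5: the structure of `[O_{p'}(H), A]` for a minimal best offender `A`. -/
theorem commutator_ffQ_structure [Finite G] [Fact p.Prime] {A : Subgroup G} (hAH : A ≤ H)
    (hA : IsMinBO p V A) :
    (p = 2 ∧ Nat.card ↥(⁅ffQ p H, A⁆) = 3) ∨
      (p = 3 ∧ Nat.card ↥(⁅ffQ p H, A⁆) = 8 ∧ ¬ IsMulCommutative ↥(⁅ffQ p H, A⁆)) := by
  have hp : p.Prime := Fact.out
  obtain ⟨r, hr, hrA⟩ := h.exists_not_mem_centralizer hAH hA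
  obtain ⟨hp23, -, -, ⟨e⟩, -, -⟩ := h.sl2_of_conj hAH hA hr hrA
  have hE := h.ffE_eq hAH hA hr hrA
  obtain ⟨hcardA, -, -⟩ := h.isMinBO_card hAH hA
  have hcardD : Nat.card ↥(A ⊔ A.map (MulAut.conj r).toMonoidHom) = p * (p ^ 2 - 1) := by
    rw [Nat.card_congr e.toEquiv, Cfsg.Agent.Lib.Helper38.card_SL2, ZMod.card]
  have hAn : A ≤ Subgroup.normalizer (ffQ p H : Set G) := hAH.trans (le_normalizer_ffQ p H)
  have hRQ : ⁅ffQ p H, A⁆ ≤ ffQ p H :=
    Cfsg.Agent.Lib.Helper24.commutator_le_of_le_normalizer _ A hAn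
  have hAR : A ≤ Subgroup.normalizer ((⁅ffQ p H, A⁆ : Subgroup G) : Set G) :=
    Cfsg.Agent.Lib.Helper24.le_normalizer_commutator_right _ A hAn
  have hAp : IsPGroup p A := IsPGroup.of_card (n := 1) (by rw [hcardA, pow_one])
  have hQcop : (Nat.card (ffQ p H)).Coprime p := card_ffQ_coprime p H
  have hAQ : A ⊓ ffQ p H = ⊥ := Cfsg.Agent.Lib.Helper50.inf_eq_bot_of_isPGroup_of_coprime hAp hQcop
  have hARinf : A ⊓ ⁅ffQ p H, A⁆ = ⊥ := by
    rw [eq_bot_iff, ← hAQ]
    exact inf_le_inf_left A hRQ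
  have hcardR : Nat.card ↥(⁅ffQ p H, A⁆) = p ^ 2 - 1 := by
    have h1 := card_sup_mul_card_inf hAR
    rw [hARinf, Subgroup.card_bot, mul_one, sup_comm, hE, hcardD, hcardA] at h1
    exact (Nat.eq_of_mul_eq_mul_left hp.pos h1).symm
  rcases hp23 with h2 | h3
  · left
    refine ⟨h2, ?_⟩
    rw [hcardR, h2]; norm_num
  · right
    refine ⟨h3, by rw [hcardR, h3]; norm_num, ?_⟩
    intro hc
    subst h3
    have hcardR' : Nat.card ↥(⁅ffQ 3 H, A⁆) = 8 := by rw [hcardR]; norm_num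
    have hAc := h.bo_comm hAH hA.1
    have hAsolv : Group.IsSolvable ↥A :=
      Group.isSolvable_of_comm (fun a b => Subtype.ext (hAc a a.2 b b.2))
    have hcopQ : (Nat.card A).Coprime (Nat.card (ffQ 3 H)) := by
      rw [hcardA]; exact hQcop.symm
    have h1 := Cfsg.Agent.Lib.Helper24.commutator_commutator_eq A (ffQ 3 H) hAn hcopQ (Or.inl hAsolv)
    have hcop : (Nat.card A).Coprime (Nat.card ↥(⁅ffQ 3 H, A⁆)) := by
      rw [hcardA, hcardR']; decide
    have h2 := Cfsg.Agent.Lib.Helper24.commutator_inf_centralizer_eq_bot_of_abelian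
      (⁅ffQ 3 H, A⁆) A hAR hcop
    rw [h1] at h2
    have h3 := inf_centralizer_ne_bot_of_card_not_modEq (q := 3) hAp hAR (by rw [hcardR']; decide)
    exact h3 h2

end FFHyp

end Cfsg.Agent.Lib.Helper10
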