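import Mathlib
import Cfsg.Prelude.Def_PLocal
import Cfsg.Agent.Lib.Helper10.FFE

set_option autoImplicit false

/-!
# The direct decomposition `H = E × C_H([V, E])` (KS 9.3.6 -- 9.3.7)
-/

namespace Cfsg.Agent.Lib.Helper10

open scoped commutatorElement
open Pointwise
open Cfsg

variable {G : Type*} [Group G]

/-- `E = [O_{p'}(H), A] A` -/
def ffE (p : ℕ) (H A : Subgroup G) : Subgroup G := ⁅ffQ p H, A⁆ ⊔ A

theorem le_ffE (p : ℕ) (H A : Subgroup G) : A ≤ ffE p H A := le_sup_right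

section Families

variable {ι : Type*} [DecidableEq ι]

/-- a family of subgroups `W i ≤ V` with `C_{W i}(E i) = 1` and `W j ≤ C(E i)` for `i ≠ j`
meets the common centralizer trivially -/
theorem biSup_inf_eq_bot_of_pairwise (W E : ι → Subgroup G) (V K : Subgroup G)
    (hVc : ∀ x ∈ V, ∀ y ∈ V, x * y = y * x) (hWV : ∀ i, W i ≤ V)
    (hK : ∀ i, K ≤ Subgroup.centralizer (E i : Set G))
    (hWC : ∀ i, W i ⊓ Subgroup.centralizer (E i : Set G) = ⊥)
    (hpair : ∀ i j, i ≠ j → W j ≤ Subgroup.centralizer (E i : Set G)) (S : Finset ι) :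
    (⨆ i ∈ S, W i) ⊓ K = ⊥ := by
  induction S using Finset.induction_on with
  | empty => simp
  | insert i₀ S hi₀ ih =>
    rw [Finset.iSup_insert, eq_bot_iff]
    intro x hx
    obtain ⟨hx1, hxK⟩ := Subgroup.mem_inf.mp hx
    have hSV : (⨆ i ∈ S, W i) ≤ V := iSup₂_le (fun i _ => hWV i)
    obtain ⟨w, hw, u, hu, rfl⟩ := exists_mul_of_mem_sup_comm
      (fun x hx y hy => hVc x (hWV i₀ hx) y (hSV hy)) hx1
    have huC : u ∈ Subgroup.centralizer (E i₀ : Set G) := by
      have hle : (⨆ i ∈ S, W i) ≤ Subgroup.centralizer (E i₀ : Set G) := by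
        apply iSup₂_le
        intro i hi
        apply hpair i₀ i
        rintro rfl
        exact hi₀ hi
      exact hle hu
    have hw1 : w = 1 := by
      have : w ∈ W i₀ ⊓ Subgroup.centralizer (E i₀ : Set G) := by
        refine Subgroup.mem_inf.mpr ⟨hw, ?_⟩
        have e : w = (w * u) * u⁻¹ := by group
        rw [e]
        exact Subgroup.mul_mem _ (hK i₀ hxK) (Subgroup.inv_mem _ huC)
      rwa [hWC, Subgroup.mem_bot] at this
    rw [hw1, one_mul] at hxK ⊢
    rw [← ih]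
    exact Subgroup.mem_inf.mpr ⟨hu, hxK⟩

theorem centralizer_bot_eq_top : Subgroup.centralizer (((⊥ : Subgroup G) : Subgroup G) : Set G) = ⊤ := by
  simp

theorem mem_centralizer_sup {X Y : Subgroup G} {c : G}
    (hX : c ∈ Subgroup.centralizer (X : Set G)) (hY : c ∈ Subgroup.centralizer (Y : Set G)) :
    c ∈ Subgroup.centralizer ((X ⊔ Y : Subgroup G) : Set G) := by
  have hle : X ⊔ Y ≤ Subgroup.centralizer ((Subgroup.zpowers c : Subgroup G) : Set G) := by
    apply sup_le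
    · rw [Subgroup.le_centralizer_iff, Subgroup.zpowers_le]; exact hX
    · rw [Subgroup.le_centralizer_iff, Subgroup.zpowers_le]; exact hY
  rw [Subgroup.le_centralizer_iff, Subgroup.zpowers_le] at hle
  exact hle

/-- `V = (∏ W i) C_V(∏ E i)` when `V = W i C_V(E i)` for all `i` and `W j ≤ C(E i)` for `i ≠ j` -/
theorem biSup_sup_centralizer_eq (W E : ι → Subgroup G) (V : Subgroup G)
    (hVc : ∀ x ∈ V, ∀ y ∈ V, x * y = y * x) (hWV : ∀ i, W i ≤ V)
    (hfac : ∀ i, W i ⊔ (V ⊓ Subgroup.centralizer (E i : Set G)) = V)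
    (hpair : ∀ i j, i ≠ j → W j ≤ Subgroup.centralizer (E i : Set G)) (S : Finset ι) :
    (⨆ i ∈ S, W i) ⊔ (V ⊓ Subgroup.centralizer ((⨆ i ∈ S, E i : Subgroup G) : Set G)) = V := by
  induction S using Finset.induction_on with
  | empty =>
    simp only [Finset.notMem_empty, iSup_false, iSup_bot, bot_sup_eq]
    rw [centralizer_bot_eq_top, inf_top_eq]
  | insert i₀ S hi₀ ih =>
    have hSV : (⨆ i ∈ S, W i) ≤ V := iSup₂_le (fun i _ => hWV i)
    rw [Finset.iSup_insert, Finset.iSup_insert]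
    apply le_antisymm (sup_le (sup_le (hWV i₀) hSV) inf_le_left)
    intro v hv
    rw [← ih] at hv
    obtain ⟨u, hu, c, hc, rfl⟩ := exists_mul_of_mem_sup_comm
      (fun x hx y hy => hVc x (hSV hx) y (Subgroup.mem_inf.mp hy).1) hv
    obtain ⟨hcV, hcC⟩ := Subgroup.mem_inf.mp hc
    have hcV' := hcV
    rw [← hfac i₀] at hcV'
    obtain ⟨w, hw, c', hc', rfl⟩ := exists_mul_of_mem_sup_comm
      (fun x hx y hy => hVc x (hWV i₀ hx) y (Subgroup.mem_inf.mp hy).1) hcV'
    obtain ⟨hc'V, hc'C⟩ := Subgroup.mem_inf.mp hc'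
    have hwC : w ∈ Subgroup.centralizer ((⨆ i ∈ S, E i : Subgroup G) : Set G) := by
      have hle : (⨆ i ∈ S, E i) ≤ Subgroup.centralizer (W i₀ : Set G) := by
        apply iSup₂_le
        intro i hi
        rw [Subgroup.le_centralizer_iff]
        apply hpair i i₀
        rintro rfl
        exact hi₀ hi
      rw [Subgroup.le_centralizer_iff] at hle
      exact hle hw
    have hc'S : c' ∈ Subgroup.centralizer ((⨆ i ∈ S, E i : Subgroup G) : Set G) := by
      have e : c' = w⁻¹ * (w * c') := by group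
      rw [e]
      exact Subgroup.mul_mem _ (Subgroup.inv_mem _ hwC) hcC
    have e : u * (w * c') = (w * u) * c' := by
      rw [← mul_assoc, hVc u (hSV hu) w (hWV i₀ hw)]
    rw [e]
    exact Subgroup.mul_mem _
      (Subgroup.mem_sup_left (Subgroup.mul_mem _ (Subgroup.mem_sup_left hw) (Subgroup.mem_sup_right hu)))
      (Subgroup.mem_sup_right (Subgroup.mem_inf.mpr ⟨hc'V, mem_centralizer_sup hc'C hc'S⟩))

end Families

namespace FFHyp

variable {p : ℕ} {V H : Subgroup G} (h : FFHyp p V H)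
include h

omit h in
theorem map_conj_le_H {A : Subgroup G} (hAH : A ≤ H) {x : G} (hx : x ∈ H) :
    A.map (MulAut.conj x).toMonoidHom ≤ H := by
  rintro _ ⟨a, ha, rfl⟩
  exact H.mul_mem (H.mul_mem hx (hAH ha)) (H.inv_mem hx)

omit h in
theorem ffE_le {A : Subgroup G} (hAH : A ≤ H) : ffE p H A ≤ H := by
  apply sup_le _ hAH
  exact (Cfsg.Agent.Lib.Helper24.commutator_le_of_le_normalizer _ A
    (hAH.trans (le_normalizer_ffQ p H))).trans (ffQ_le p H)

omit h in
/-- `(E_A)^x = E_{A^x}` for `x ∈ H` -/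
theorem map_conj_ffE {A : Subgroup G} {x : G} (hx : x ∈ H) :
    (ffE p H A).map (MulAut.conj x).toMonoidHom = ffE p H (A.map (MulAut.conj x).toMonoidHom) := by
  unfold ffE
  rw [Subgroup.map_sup, Subgroup.map_commutator,
    map_conj_eq_of_mem_normalizer (le_normalizer_ffQ p H hx)]

/-- the facts about `E_A` collected from KS 9.3.4, 9.3.5 -/
theorem ffE_facts [Finite G] [Fact p.Prime] {A : Subgroup G} (hAH : A ≤ H) (hA : IsMinBO p V A) :
    (p = 2 ∨ p = 3) ∧ Nonempty (↥(ffE p H A) ≃* Matrix.SpecialLinearGroup (Fin 2) (ZMod p)) ∧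
      Nat.card ↥(⁅V, ffE p H A⁆) = p ^ 2 ∧
      ffE p H A ⊓ Subgroup.centralizer ((⁅V, ffE p H A⁆ : Subgroup G) : Set G) = ⊥ ∧
      (∀ t ∈ ffQ p H, A.map (MulAut.conj t).toMonoidHom ≤ ffE p H A) ∧
      (∀ w ∈ ⁅V, ffE p H A⁆, ∃ t ∈ ffQ p H, w ∈ ⁅V, A.map (MulAut.conj t).toMonoidHom⁆) ∧
      ⁅V, ffE p H A⁆ ⊓ Subgroup.centralizer (ffE p H A : Set G) = ⊥ ∧
      Nat.card V ≤ p ^ 2 * Nat.card ↥(V ⊓ Subgroup.centralizer (ffE p H A : Set G)) := by
  have hp : p.Prime := Fact.out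
  obtain ⟨r, hr, hrA⟩ := h.exists_not_mem_centralizer hAH hA
  obtain ⟨hp23, hcardW, hD₀, ⟨e⟩, hWeq, hinf⟩ := h.sl2_of_conj hAH hA hr hrA
  have hE : ffE p H A = A ⊔ A.map (MulAut.conj r).toMonoidHom := h.ffE_eq hAH hA hr hrA
  rw [hE]
  refine ⟨hp23, ⟨e⟩, hcardW, hD₀, ?_, ?_, ?_, ?_⟩
  · intro t ht
    exact h.map_conj_le_of_mem_ffQ hAH hA hr hrA ht
  · intro w hw
    obtain ⟨B, -, ⟨t, ht, rfl⟩, hwB⟩ := h.exists_conj_of_mem_commutator hAH hA hr hrA hw
    exact ⟨t, ht, hwB⟩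
  · -- `C_W(E) = 1`
    obtain ⟨hcardA, hcardL₁, -⟩ := h.isMinBO_card hAH hA
    have hrH : r ∈ H := ffQ_le p H hr
    have hAr := h.isMinBO_map_conj hA hrH
    have hArH := map_conj_le_H hAH hrH
    obtain ⟨hcardAr, hcardL₂, -⟩ := h.isMinBO_card hArH hAr
    have hVc := elemAb_comm h.elem
    have hL₁V : ⁅V, A⁆ ≤ V :=
      Cfsg.Agent.Lib.Helper24.commutator_le_of_le_normalizer V A (hAH.trans h.norm)
    have hL₂V : ⁅V, A.map (MulAut.conj r).toMonoidHom⁆ ≤ V :=
      Cfsg.Agent.Lib.Helper24.commutator_le_of_le_normalizer V _ (hArH.trans h.norm)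
    have hcL₁ := h.commutator_le_centralizer_of_card hAH hcardA hcardL₁
    have hcL₂ := h.commutator_le_centralizer_of_card hArH hcardAr hcardL₂
    -- a subgroup of `D` centralizing one centre and meeting the centralizer of the other is trivial
    have key : ∀ X L L' : Subgroup G, X ≤ A ⊔ A.map (MulAut.conj r).toMonoidHom → X ≠ ⊥ →
        L ⊔ L' = ⁅V, A⊔ A.map (MulAut.conj r).toMonoidHom⁆ → Nat.card L' = p →
        L ≤ Subgroup.centralizer (X : Set G) → L' ⊓ Subgroup.centralizer (X : Set G) = ⊥ := by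
      intro X L L' hXD hX1 hLL' hcardL' hLX
      by_contra hcon
      have h1 := Cfsg.Agent.Lib.Helper86.eq_of_le_of_prime_card hp
        (inf_le_left : L' ⊓ Subgroup.centralizer (X : Set G) ≤ L') hcon hcardL'
      have h2 : L' ≤ Subgroup.centralizer (X : Set G) := by
        rw [← h1]; exact inf_le_right
      have h3 : X ≤ (A ⊔ A.map (MulAut.conj r).toMonoidHom) ⊓ Subgroup.centralizer
          ((⁅V, A ⊔ A.map (MulAut.conj r).toMonoidHom⁆ : Subgroup G) : Set G) := by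
        apply le_inf hXD
        rw [← hLL', Subgroup.le_centralizer_iff]
        exact sup_le hLX h2
      rw [hD₀] at h3
      exact hX1 (le_bot_iff.mp h3)
    have k1 := key A _ _ le_sup_left hA.2.1 hWeq.symm hcardL₂ hcL₁
    have k2 := key (A.map (MulAut.conj r).toMonoidHom) _ _ le_sup_right hAr.2.1
      (by rw [sup_comm]; exact hWeq.symm) hcardL₁ hcL₂
    rw [eq_bot_iff]
    intro w hw
    obtain ⟨hwW, hwC⟩ := Subgroup.mem_inf.mp hw
    rw [hWeq] at hwW
    obtain ⟨l₁, hl₁, l₂, hl₂, rfl⟩ :=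
      exists_mul_of_mem_sup_comm (fun x hx y hy => hVc x (hL₁V hx) y (hL₂V hy)) hwW
    have hle1 : A ≤ A ⊔ A.map (MulAut.conj r).toMonoidHom := le_sup_left
    have hle2 : A.map (MulAut.conj r).toMonoidHom ≤ A ⊔ A.map (MulAut.conj r).toMonoidHom :=
      le_sup_right
    have hwA : l₁ * l₂ ∈ Subgroup.centralizer (A : Set G) :=
      Subgroup.centralizer_le hle1 hwC
    have hwAr : l₁ * l₂ ∈ Subgroup.centralizer
        ((A.map (MulAut.conj r).toMonoidHom : Subgroup G) : Set G) :=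
      Subgroup.centralizer_le hle2 hwC
    have hl₂1 : l₂ = 1 := by
      have : l₂ ∈ ⁅V, A.map (MulAut.conj r).toMonoidHom⁆ ⊓ Subgroup.centralizer (A : Set G) := by
        refine Subgroup.mem_inf.mpr ⟨hl₂, ?_⟩
        have e : l₂ = l₁⁻¹ * (l₁ * l₂) := by group
        rw [e]
        exact Subgroup.mul_mem _ (Subgroup.inv_mem _ (hcL₁ hl₁)) hwA
      rwa [k1, Subgroup.mem_bot] at this
    have hl₁1 : l₁ = 1 := by
      have : l₁ ∈ ⁅V, A⁆ ⊓ Subgroup.centralizer
          ((A.map (MulAut.conj r).toMonoidHom : Subgroup G) : Set G) := by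
        refine Subgroup.mem_inf.mpr ⟨hl₁, ?_⟩
        have e : l₁ = (l₁ * l₂) * l₂⁻¹ := by group
        rw [e]
        exact Subgroup.mul_mem _ hwAr (Subgroup.inv_mem _ (hcL₂ hl₂))
      rwa [k2, Subgroup.mem_bot] at this
    rw [hl₁1, hl₂1, one_mul, Subgroup.mem_bot]
  · -- `|V : C_V(E)| ≤ p²`
    obtain ⟨hcardA, -, hrel₁⟩ := h.isMinBO_card hAH hA
    have hrH : r ∈ H := ffQ_le p H hr
    have hAr := h.isMinBO_map_conj hA hrH
    have hArH := map_conj_le_H hAH hrH
    obtain ⟨-, -, hrel₂⟩ := h.isMinBO_card hArH hAr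
    have hVc := elemAb_comm h.elem
    have hc₁ := card_mul_relIndex_of_le (inf_le_left : V ⊓ Subgroup.centralizer (A : Set G) ≤ V)
    have hc₂ := card_mul_relIndex_of_le (inf_le_left : V ⊓ Subgroup.centralizer
      ((A.map (MulAut.conj r).toMonoidHom : Subgroup G) : Set G) ≤ V)
    rw [hrel₁] at hc₁
    rw [hrel₂] at hc₂
    have hn : V ⊓ Subgroup.centralizer (A : Set G) ≤ Subgroup.normalizer
        ((V ⊓ Subgroup.centralizer ((A.map (MulAut.conj r).toMonoidHom : Subgroup G) : Set G) :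
          Subgroup G) : Set G) := by
      apply le_normalizer_of_forall_conj_mem
      intro u hu c hc
      have : u * c * u⁻¹ = c := by
        rw [hVc u (Subgroup.mem_inf.mp hu).1 c (Subgroup.mem_inf.mp hc).1]; group
      rw [this]; exact hc
    have h1 := card_sup_mul_card_inf hn
    have h2 : Nat.card ↥((V ⊓ Subgroup.centralizer (A : Set G)) ⊔
        (V ⊓ Subgroup.centralizer ((A.map (MulAut.conj r).toMonoidHom : Subgroup G) : Set G))) ≤
        Nat.card V := Subgroup.card_le_of_le (sup_le inf_le_left inf_le_left)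
    have h3 : (V ⊓ Subgroup.centralizer (A : Set G)) ⊓
        (V ⊓ Subgroup.centralizer ((A.map (MulAut.conj r).toMonoidHom : Subgroup G) : Set G)) ≤
        V ⊓ Subgroup.centralizer ((A ⊔ A.map (MulAut.conj r).toMonoidHom : Subgroup G) : Set G) := by
      intro v hv
      obtain ⟨hv1, hv2⟩ := Subgroup.mem_inf.mp hv
      refine Subgroup.mem_inf.mpr ⟨(Subgroup.mem_inf.mp hv1).1, ?_⟩
      have hle : A ⊔ A.map (MulAut.conj r).toMonoidHom ≤
          Subgroup.centralizer ((Subgroup.zpowers v : Subgroup G) : Set G) := by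
        apply sup_le
        · rw [Subgroup.le_centralizer_iff, Subgroup.zpowers_le]
          exact (Subgroup.mem_inf.mp hv1).2
        · rw [Subgroup.le_centralizer_iff, Subgroup.zpowers_le]
          exact (Subgroup.mem_inf.mp hv2).2
      rw [Subgroup.le_centralizer_iff, Subgroup.zpowers_le] at hle
      exact hle
    have h4 := Subgroup.card_le_of_le h3
    have hpos₁ : 0 < Nat.card ↥(V ⊓ Subgroup.centralizer (A : Set G)) := Nat.card_pos
    -- arithmetic
    have h5 : Nat.card ↥(V ⊓ Subgroup.centralizer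
        ((A.map (MulAut.conj r).toMonoidHom : Subgroup G) : Set G)) ≤
        p * Nat.card ↥((V ⊓ Subgroup.centralizer (A : Set G)) ⊓
        (V ⊓ Subgroup.centralizer ((A.map (MulAut.conj r).toMonoidHom : Subgroup G) : Set G))) := by
      apply Nat.le_of_mul_le_mul_left _ hpos₁
      rw [← h1]
      calc _ ≤ Nat.card V * Nat.card ↥((V ⊓ Subgroup.centralizer (A : Set G)) ⊓
            (V ⊓ Subgroup.centralizer ((A.map (MulAut.conj r).toMonoidHom : Subgroup G) : Set G))) :=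
            Nat.mul_le_mul_right _ h2
        _ = _ := by rw [← hc₁]; ring
    calc Nat.card V = Nat.card ↥(V ⊓ Subgroup.centralizer
          ((A.map (MulAut.conj r).toMonoidHom : Subgroup G) : Set G)) * p := hc₂.symm
      _ ≤ (p * Nat.card ↥((V ⊓ Subgroup.centralizer (A : Set G)) ⊓
        (V ⊓ Subgroup.centralizer ((A.map (MulAut.conj r).toMonoidHom : Subgroup G) : Set G)))) * p :=
          Nat.mul_le_mul_right _ h5
      _ ≤ (p * Nat.card ↥(V ⊓ Subgroup.centralizer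
          ((A ⊔ A.map (MulAut.conj r).toMonoidHom : Subgroup G) : Set G))) * p :=
          Nat.mul_le_mul_right _ (Nat.mul_le_mul_left _ h4)
      _ = _ := by ring

theorem ffE_map_conj_le [Finite G] [Fact p.Prime] {A : Subgroup G} (hAH : A ≤ H)
    (hA : IsMinBO p V A) {t : G} (ht : t ∈ ffQ p H) :
    ffE p H (A.map (MulAut.conj t).toMonoidHom) ≤ ffE p H A := by
  obtain ⟨-, -, -, -, hconj, -, -, -⟩ := h.ffE_facts hAH hA
  apply sup_le _ (hconj t ht)
  rw [Subgroup.commutator_le]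
  intro s hs y hy
  have h1 : s * y * s⁻¹ ∈ ffE p H A := by
    have h2 : s * y * s⁻¹ ∈ (A.map (MulAut.conj t).toMonoidHom).map (MulAut.conj s).toMonoidHom :=
      ⟨y, hy, by simp [MulAut.conj_apply]⟩
    rw [map_conj_map_conj] at h2
    exact hconj (s * t) ((ffQ p H).mul_mem hs ht) h2
  rw [commutatorElement_def]
  exact Subgroup.mul_mem _ h1 (Subgroup.inv_mem _ (hconj t ht hy))

/-- `E_{A^t} = E_A` for `t ∈ O_{p'}(H)` -/
theorem ffE_map_conj [Finite G] [Fact p.Prime] {A : Subgroup G} (hAH : A ≤ H)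
    (hA : IsMinBO p V A) {t : G} (ht : t ∈ ffQ p H) :
    ffE p H (A.map (MulAut.conj t).toMonoidHom) = ffE p H A := by
  apply le_antisymm (h.ffE_map_conj_le hAH hA ht)
  have htH : t ∈ H := ffQ_le p H ht
  have h1 := h.ffE_map_conj_le (map_conj_le_H hAH htH) (h.isMinBO_map_conj hA htH)
    ((ffQ p H).inv_mem ht)
  rwa [map_conj_inv_map_conj] at h1

/-- KS 9.3.6 for the subgroups `E_A`: they coincide as soon as their commutators with `V` meet. -/
theorem ffE_eq_of_inf_ne_bot [Finite G] [Fact p.Prime] {A B : Subgroup G} (hAH : A ≤ H)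
    (hA : IsMinBO p V A) (hBH : B ≤ H) (hB : IsMinBO p V B)
    (hne : ⁅V, ffE p H A⁆ ⊓ ⁅V, ffE p H B⁆ ≠ ⊥) : ffE p H A = ffE p H B := by
  have hp : p.Prime := Fact.out
  obtain ⟨w, hw, hw1⟩ : ∃ w ∈ ⁅V, ffE p H A⁆ ⊓ ⁅V, ffE p H B⁆, w ≠ 1 := by
    by_contra hcon
    push Not at hcon
    exact hne ((Subgroup.eq_bot_iff_forall _).mpr hcon)
  obtain ⟨hwA, hwB⟩ := Subgroup.mem_inf.mp hw
  obtain ⟨-, -, -, -, -, hcovA, -, -⟩ := h.ffE_facts hAH hA
  obtain ⟨-, -, -, -, -, hcovB, -, -⟩ := h.ffE_facts hBH hB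
  obtain ⟨t, ht, hwt⟩ := hcovA w hwA
  obtain ⟨t', ht', hwt'⟩ := hcovB w hwB
  have htH : t ∈ H := ffQ_le p H ht
  have ht'H : t' ∈ H := ffQ_le p H ht'
  have hA' := h.isMinBO_map_conj hA htH
  have hB' := h.isMinBO_map_conj hB ht'H
  have hA'H := map_conj_le_H hAH htH
  have hB'H := map_conj_le_H hBH ht'H
  obtain ⟨hcardA', hcardLA', -⟩ := h.isMinBO_card hA'H hA'
  obtain ⟨hcardB', hcardLB', -⟩ := h.isMinBO_card hB'H hB'
  have hne' : ⁅V, A.map (MulAut.conj t).toMonoidHom⁆ ⊓ ⁅V, B.map (MulAut.conj t').toMonoidHom⁆ ≠ ⊥ := by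
    intro hcon
    apply hw1
    have : w ∈ ⁅V, A.map (MulAut.conj t).toMonoidHom⁆ ⊓ ⁅V, B.map (MulAut.conj t').toMonoidHom⁆ :=
      Subgroup.mem_inf.mpr ⟨hwt, hwt'⟩
    rwa [hcon, Subgroup.mem_bot] at this
  have h1 := Cfsg.Agent.Lib.Helper86.eq_of_le_of_prime_card hp inf_le_left hne' hcardLA'
  have h2 := Cfsg.Agent.Lib.Helper86.eq_of_le_of_prime_card hp inf_le_right hne' hcardLB'
  have h3 : ⁅V, A.map (MulAut.conj t).toMonoidHom⁆ = ⁅V, B.map (MulAut.conj t').toMonoidHom⁆ := by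
    rw [← h1, h2]
  have h4 := h.eq_of_commutator_eq hA'H hB'H hcardA' hcardB' h3 hcardLA'
  rw [← h.ffE_map_conj hAH hA ht, ← h.ffE_map_conj hBH hB ht', h4]

/-- every minimal best offender lies in `E_A` or centralizes `[V, E_A]` -/
theorem le_ffE_or_le_centralizer [Finite G] [Fact p.Prime] {A B : Subgroup G} (hAH : A ≤ H)
    (hA : IsMinBO p V A) (hBH : B ≤ H) (hB : IsMinBO p V B) :
    B ≤ ffE p H A ∨ B ≤ H ⊓ Subgroup.centralizer ((⁅V, ffE p H A⁆ : Subgroup G) : Set G) := by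
  have hp : p.Prime := Fact.out
  obtain ⟨hcardB, hcardLB, hrelB⟩ := h.isMinBO_card hBH hB
  obtain ⟨-, -, hcardW, -, -, -, -, -⟩ := h.ffE_facts hAH hA
  have hVc := elemAb_comm h.elem
  have hEH : ffE p H A ≤ H := ffE_le hAH
  have hWV : ⁅V, ffE p H A⁆ ≤ V :=
    Cfsg.Agent.Lib.Helper24.commutator_le_of_le_normalizer V _ (hEH.trans h.norm)
  by_cases hcase : ⁅V, B⁆ ⊓ ⁅V, ffE p H A⁆ = ⊥
  · right
    apply le_inf hBH
    -- `B` normalizes `W`
    have hBW : B ≤ Subgroup.normalizer ((⁅V, ffE p H A⁆ : Subgroup G) : Set G) := by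
      intro b hb
      obtain ⟨w, hw, hw1⟩ : ∃ w ∈ ⁅V, ffE p H A⁆ ⊓ Subgroup.centralizer (B : Set G), w ≠ 1 := by
        by_contra hcon
        push Not at hcon
        exact inf_centralizer_ne_bot_of_card hVc hWV hcardW hrelB
          ((Subgroup.eq_bot_iff_forall _).mpr hcon)
      obtain ⟨hwW, hwC⟩ := Subgroup.mem_inf.mp hw
      have hbH : b ∈ H := hBH hb
      have hbV : b ∈ Subgroup.normalizer (V : Set G) := h.norm hbH
      have hWb : (⁅V, ffE p H A⁆).map (MulAut.conj b).toMonoidHom =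
          ⁅V, ffE p H (A.map (MulAut.conj b).toMonoidHom)⁆ := by
        rw [Subgroup.map_commutator, map_conj_eq_of_mem_normalizer hbV, map_conj_ffE hbH]
      have hwb : w ∈ (⁅V, ffE p H A⁆).map (MulAut.conj b).toMonoidHom := by
        rw [mem_map_conj_iff]
        have : b⁻¹ * w * b = w := by
          have := hwC b hb
          calc b⁻¹ * w * b = b⁻¹ * (w * b) := by group
            _ = b⁻¹ * (b * w) := by rw [this]
            _ = w := by group
        rw [this]; exact hwW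
      have hne : ⁅V, ffE p H A⁆ ⊓ ⁅V, ffE p H (A.map (MulAut.conj b).toMonoidHom)⁆ ≠ ⊥ := by
        intro hcon
        apply hw1
        have : w ∈ ⁅V, ffE p H A⁆ ⊓ ⁅V, ffE p H (A.map (MulAut.conj b).toMonoidHom)⁆ :=
          Subgroup.mem_inf.mpr ⟨hwW, hWb ▸ hwb⟩
        rwa [hcon, Subgroup.mem_bot] at this
      have hEb := h.ffE_eq_of_inf_ne_bot hAH hA (map_conj_le_H hAH hbH)
        (h.isMinBO_map_conj hA hbH) hne
      rw [← hEb] at hWb
      exact mem_normalizer_of_conj_smul_eq hWb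
    have h1 : ⁅⁅V, ffE p H A⁆, B⁆ ≤ ⁅V, ffE p H A⁆ :=
      Cfsg.Agent.Lib.Helper24.commutator_le_of_le_normalizer _ B hBW
    have h2 : ⁅⁅V, ffE p H A⁆, B⁆ ≤ ⁅V, B⁆ := Subgroup.commutator_mono hWV le_rfl
    have h3 : ⁅⁅V, ffE p H A⁆, B⁆ = ⊥ := by
      rw [eq_bot_iff, ← hcase]
      exact le_inf h2 h1
    rw [Subgroup.commutator_eq_bot_iff_le_centralizer] at h3
    exact Subgroup.le_centralizer_iff.mp h3
  · left
    have h1 : ⁅V, ffE p H A⁆ ⊓ ⁅V, ffE p H B⁆ ≠ ⊥ := by
      intro hcon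
      apply hcase
      rw [eq_bot_iff, ← hcon, inf_comm]
      exact inf_le_inf_left _ (Subgroup.commutator_mono le_rfl (le_ffE p H B))
    rw [h.ffE_eq_of_inf_ne_bot hAH hA hBH hB h1]
    exact le_ffE p H B

/-- every best offender lies in `E_A C_H([V, E_A])` -/
theorem bo_le_ffE_sup [Finite G] [Fact p.Prime] {A : Subgroup G} (hAH : A ≤ H)
    (hA : IsMinBO p V A) {A' : Subgroup G} (hA'H : A' ≤ H) (hA' : IsBestOffenderOn p V A') :
    A' ≤ ffE p H A ⊔ (H ⊓ Subgroup.centralizer ((⁅V, ffE p H A⁆ : Subgroup G) : Set G)) := by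
  obtain ⟨k, B, hB, -, hsup⟩ := h.exists_decomp (Nat.card A') A' rfl hA'H hA'
  rw [← hsup]
  apply iSup_le
  intro i
  rcases h.le_ffE_or_le_centralizer hAH hA ((hB i).1.trans hA'H) (hB i).2 with h1 | h1
  · exact h1.trans le_sup_left
  · exact h1.trans le_sup_right

/-- KS 9.3.7 (one factor): `H = E_A × C_H([V, E_A])` and `V = [V, E_A] × C_V(E_A)`. -/
theorem ffE_direct_factor [Finite G] [Fact p.Prime]
    (hS3 : H = ⨆ A : {A : Subgroup G // A ≤ H ∧ IsBestOffenderOn p V A}, (A : Subgroup G))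
    {A : Subgroup G} (hAH : A ≤ H) (hA : IsMinBO p V A) :
    ⁅V, ffE p H A⁆ ⊔ (V ⊓ Subgroup.centralizer (ffE p H A : Set G)) = V ∧
    ⁅ffE p H A, H ⊓ Subgroup.centralizer ((⁅V, ffE p H A⁆ : Subgroup G) : Set G)⁆ = ⊥ ∧
    ffE p H A ⊓ (H ⊓ Subgroup.centralizer ((⁅V, ffE p H A⁆ : Subgroup G) : Set G)) = ⊥ ∧
    ffE p H A ⊔ (H ⊓ Subgroup.centralizer ((⁅V, ffE p H A⁆ : Subgroup G) : Set G)) = H ∧
    ⁅V, H ⊓ Subgroup.centralizer ((⁅V, ffE p H A⁆ : Subgroup G) : Set G)⁆ ≤
      V ⊓ Subgroup.centralizer (ffE p H A : Set G) := by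
  have hp : p.Prime := Fact.out
  obtain ⟨-, -, hcardW, hfaith, -, -, hWC, hcardV⟩ := h.ffE_facts hAH hA
  have hVc := elemAb_comm h.elem
  have hEH : ffE p H A ≤ H := ffE_le hAH
  have hWV : ⁅V, ffE p H A⁆ ≤ V :=
    Cfsg.Agent.Lib.Helper24.commutator_le_of_le_normalizer V _ (hEH.trans h.norm)
  have hEW : ffE p H A ≤ Subgroup.normalizer ((⁅V, ffE p H A⁆ : Subgroup G) : Set G) :=
    le_normalizer_of_commutator_le hWV le_rfl
  -- (5)
  have h5 : ⁅V, ffE p H A⁆ ⊔ (V ⊓ Subgroup.centralizer (ffE p H A : Set G)) = V := by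
    apply Subgroup.eq_of_le_of_card_ge (sup_le hWV inf_le_left)
    have hn : ⁅V, ffE p H A⁆ ≤ Subgroup.normalizer
        ((V ⊓ Subgroup.centralizer (ffE p H A : Set G) : Subgroup G) : Set G) := by
      apply le_normalizer_of_forall_conj_mem
      intro u hu c hc
      have : u * c * u⁻¹ = c := by
        rw [hVc u (hWV hu) c (Subgroup.mem_inf.mp hc).1]; group
      rw [this]; exact hc
    have h1 := card_sup_mul_card_inf hn
    have h2 : ⁅V, ffE p H A⁆ ⊓ (V ⊓ Subgroup.centralizer (ffE p H A : Set G)) = ⊥ := by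
      rw [← inf_assoc, inf_eq_left.mpr hWV, hWC]
    rw [h2, Subgroup.card_bot, mul_one, hcardW] at h1
    rw [h1]; exact hcardV
  -- `C` normalizes `E`
  have hCE : H ⊓ Subgroup.centralizer ((⁅V, ffE p H A⁆ : Subgroup G) : Set G) ≤
      Subgroup.normalizer (ffE p H A : Set G) := by
    intro c hc
    obtain ⟨hcH, hcW⟩ := Subgroup.mem_inf.mp hc
    have hcV : c ∈ Subgroup.normalizer (V : Set G) := h.norm hcH
    have hWc : (⁅V, ffE p H A⁆).map (MulAut.conj c).toMonoidHom =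
        ⁅V, ffE p H (A.map (MulAut.conj c).toMonoidHom)⁆ := by
      rw [Subgroup.map_commutator, map_conj_eq_of_mem_normalizer hcV, map_conj_ffE hcH]
    have hWc' : (⁅V, ffE p H A⁆).map (MulAut.conj c).toMonoidHom = ⁅V, ffE p H A⁆ := by
      apply map_conj_eq_of_mem_normalizer
      apply le_normalizer_of_forall_conj_mem
        (X := Subgroup.centralizer ((⁅V, ffE p H A⁆ : Subgroup G) : Set G)) _ hcW
      intro c' hc' w hw
      have := hc' w hw
      have e : c' * w * c'⁻¹ = w := by rw [← this]; group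
      rw [e]; exact hw
    have hne : ⁅V, ffE p H A⁆ ⊓ ⁅V, ffE p H (A.map (MulAut.conj c).toMonoidHom)⁆ ≠ ⊥ := by
      rw [← hWc, hWc', inf_idem]
      intro hcon
      rw [hcon, Subgroup.card_bot] at hcardW
      have := hp.one_lt
      nlinarith
    have hEc := h.ffE_eq_of_inf_ne_bot hAH hA (map_conj_le_H hAH hcH)
      (h.isMinBO_map_conj hA hcH) hne
    rw [← map_conj_ffE hcH] at hEc
    exact mem_normalizer_of_conj_smul_eq hEc.symm
  -- (6)
  have h6 : ⁅ffE p H A, H ⊓ Subgroup.centralizer ((⁅V, ffE p H A⁆ : Subgroup G) : Set G)⁆ = ⊥ := by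
    rw [eq_bot_iff, ← hfaith, Subgroup.commutator_le]
    intro e he c hc
    refine Subgroup.mem_inf.mpr ⟨?_, ?_⟩
    · have h1 : c * e⁻¹ * c⁻¹ ∈ ffE p H A :=
        (Subgroup.mem_normalizer_iff.mp (hCE hc) _).mp (Subgroup.inv_mem _ he)
      have e1 : ⁅e, c⁆ = e * (c * e⁻¹ * c⁻¹) := by rw [commutatorElement_def]; group
      rw [e1]; exact Subgroup.mul_mem _ he h1
    · have h1 : e * c * e⁻¹ ∈ Subgroup.centralizer ((⁅V, ffE p H A⁆ : Subgroup G) : Set G) :=
        (Subgroup.mem_normalizer_iff.mp (normalizer_le_normalizer_centralizer _ (hEW he)) _).mp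
          (Subgroup.mem_inf.mp hc).2
      rw [commutatorElement_def]
      exact Subgroup.mul_mem _ h1 (Subgroup.inv_mem _ (Subgroup.mem_inf.mp hc).2)
  -- (7)
  have h7 : ffE p H A ⊓ (H ⊓ Subgroup.centralizer ((⁅V, ffE p H A⁆ : Subgroup G) : Set G)) = ⊥ := by
    rw [eq_bot_iff, ← hfaith]
    exact inf_le_inf_left _ inf_le_right
  -- (8)
  have h8 : ffE p H A ⊔ (H ⊓ Subgroup.centralizer ((⁅V, ffE p H A⁆ : Subgroup G) : Set G)) = H := by
    apply le_antisymm (sup_le hEH inf_le_left)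
    calc H = ⨆ A : {A : Subgroup G // A ≤ H ∧ IsBestOffenderOn p V A}, (A : Subgroup G) := hS3
      _ ≤ _ := iSup_le (fun A' => h.bo_le_ffE_sup hAH hA A'.2.1 A'.2.2)
  -- (9)
  have h9 : ⁅V, H ⊓ Subgroup.centralizer ((⁅V, ffE p H A⁆ : Subgroup G) : Set G)⁆ ≤
      V ⊓ Subgroup.centralizer (ffE p H A : Set G) := by
    apply le_inf (Cfsg.Agent.Lib.Helper24.commutator_le_of_le_normalizer V _ (inf_le_left.trans h.norm))
    rw [Subgroup.commutator_le]
    intro v hv c hc
    have hv' : v ∈ ⁅V, ffE p H A⁆ ⊔ (V ⊓ Subgroup.centralizer (ffE p H A : Set G)) := by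
      rw [h5]; exact hv
    obtain ⟨w, hw, u, hu, rfl⟩ := exists_mul_of_mem_sup_comm
      (fun x hx y hy => hVc x (hWV hx) y (Subgroup.mem_inf.mp hy).1) hv'
    obtain ⟨huV, huC⟩ := Subgroup.mem_inf.mp hu
    have hcw : w * c = c * w := (Subgroup.mem_inf.mp hc).2 w hw
    have hcu : c * u⁻¹ * c⁻¹ ∈ Subgroup.centralizer (ffE p H A : Set G) :=
      (Subgroup.mem_normalizer_iff.mp (normalizer_le_normalizer_centralizer _ (hCE hc)) _).mp
        (Subgroup.inv_mem _ huC)
    have hcuV : c * u⁻¹ * c⁻¹ ∈ V :=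
      (Subgroup.mem_normalizer_iff.mp (h.norm (Subgroup.mem_inf.mp hc).1) _).mp (V.inv_mem huV)
    have e : ⁅w * u, c⁆ = u * (c * u⁻¹ * c⁻¹) := by
      rw [commutatorElement_def]
      calc w * u * c * (w * u)⁻¹ * c⁻¹ = w * (u * (c * u⁻¹ * c⁻¹)) * (c * w⁻¹ * c⁻¹) := by group
        _ = w * (u * (c * u⁻¹ * c⁻¹)) * w⁻¹ := by
            have : c * w⁻¹ * c⁻¹ = w⁻¹ := by
              calc c * w⁻¹ * c⁻¹ = w⁻¹ * (w * c) * w⁻¹ * c⁻¹ := by group
                _ = w⁻¹ * (c * w) * w⁻¹ * c⁻¹ := by rw [hcw]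
                _ = w⁻¹ := by group
            rw [this]
        _ = u * (c * u⁻¹ * c⁻¹) := by
            rw [hVc w (hWV hw) _ (V.mul_mem huV hcuV)]; group
    rw [e]
    exact Subgroup.mul_mem _ huC hcu
  exact ⟨h5, h6, h7, h8, h9⟩

/-- different `E`'s centralize each other's commutator with `V` -/
theorem ffE_le_centralizer_of_ne [Finite G] [Fact p.Prime] {A B : Subgroup G} (hAH : A ≤ H)
    (hA : IsMinBO p V A) (hBH : B ≤ H) (hB : IsMinBO p V B) (hne : ffE p H A ≠ ffE p H B) :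
    ffE p H B ≤ H ⊓ Subgroup.centralizer ((⁅V, ffE p H A⁆ : Subgroup G) : Set G) := by
  have hp : p.Prime := Fact.out
  have hconj : ∀ t ∈ ffQ p H, B.map (MulAut.conj t).toMonoidHom ≤
      H ⊓ Subgroup.centralizer ((⁅V, ffE p H A⁆ : Subgroup G) : Set G) := by
    intro t ht
    have htH : t ∈ H := ffQ_le p H ht
    have hBt := h.isMinBO_map_conj hB htH
    have hBtH := map_conj_le_H hBH htH
    rcases h.le_ffE_or_le_centralizer hAH hA hBtH hBt with h1 | h1
    · exfalso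
      apply hne
      apply h.ffE_eq_of_inf_ne_bot hAH hA hBH hB
      intro hcon
      have h2 : ⁅V, B.map (MulAut.conj t).toMonoidHom⁆ ≤ ⁅V, ffE p H A⁆ ⊓ ⁅V, ffE p H B⁆ := by
        apply le_inf (Subgroup.commutator_mono le_rfl h1)
        rw [← h.ffE_map_conj hBH hB ht]
        exact Subgroup.commutator_mono le_rfl (le_ffE p H _)
      rw [hcon] at h2
      exact (h.ne_bot_iff_commutator_ne_bot hBtH).mpr hBt.2.1 (le_bot_iff.mp h2)
    · exact h1
  have hB1 : B ≤ H ⊓ Subgroup.centralizer ((⁅V, ffE p H A⁆ : Subgroup G) : Set G) := by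
    have := hconj 1 (Subgroup.one_mem _)
    rwa [map_conj_one] at this
  apply sup_le _ hB1
  rw [Subgroup.commutator_le]
  intro s hs b hb
  have h1 : s * b * s⁻¹ ∈ H ⊓ Subgroup.centralizer ((⁅V, ffE p H A⁆ : Subgroup G) : Set G) :=
    hconj s hs ⟨b, hb, by simp [MulAut.conj_apply]⟩
  rw [commutatorElement_def]
  exact Subgroup.mul_mem _ h1 (Subgroup.inv_mem _ (hB1 hb))

omit h in
theorem sup_le_centralizer_of_mem {X Y : Subgroup G} {c : G}
    (hX : c ∈ Subgroup.centralizer (X : Set G)) (hY : c ∈ Subgroup.centralizer (Y : Set G)) :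
    c ∈ Subgroup.centralizer ((X ⊔ Y : Subgroup G) : Set G) := by
  have hle : X ⊔ Y ≤ Subgroup.centralizer ((Subgroup.zpowers c : Subgroup G) : Set G) := by
    apply sup_le
    · rw [Subgroup.le_centralizer_iff, Subgroup.zpowers_le]; exact hX
    · rw [Subgroup.le_centralizer_iff, Subgroup.zpowers_le]; exact hY
  rw [Subgroup.le_centralizer_iff, Subgroup.zpowers_le] at hle
  exact hle

/-- KS 9.3.7: the structure of `H` and `V` when `H` is generated by best offenders. -/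
theorem ff_structure [Finite G] [Fact p.Prime]
    (hS3 : H = ⨆ A : {A : Subgroup G // A ≤ H ∧ IsBestOffenderOn p V A}, (A : Subgroup G))
    (hH1 : H ≠ ⊥) (P : Subgroup G → Prop)
    (hP : ∀ E, P E ↔ ∃ A, A ≤ H ∧ IsMinBO p V A ∧ E = ffE p H A) :
    (p = 2 ∨ p = 3) ∧
    (∀ E : {E : Subgroup G // P E}, H ≤ Subgroup.normalizer ((E : Subgroup G) : Set G) ∧
      Nonempty (↥(E : Subgroup G) ≃* Matrix.SpecialLinearGroup (Fin 2) (ZMod p)) ∧
      Nat.card ↥(⁅V, (E : Subgroup G)⁆) = p ^ 2) ∧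
    iSupIndep (fun E : {E : Subgroup G // P E} => (E : Subgroup G)) ∧
    (⨆ E : {E : Subgroup G // P E}, (E : Subgroup G)) = H ∧
    iSupIndep (fun o : Option {E : Subgroup G // P E} =>
      o.elim (V ⊓ Subgroup.centralizer (H : Set G)) (fun E => ⁅V, (E : Subgroup G)⁆)) ∧
    (V ⊓ Subgroup.centralizer (H : Set G)) ⊔ (⨆ E : {E : Subgroup G // P E}, ⁅V, (E : Subgroup G)⁆) = V := by
  classical
  haveI : Fintype {E : Subgroup G // P E} := Fintype.ofFinite _
  have hp : p.Prime := Fact.out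
  have hVc := elemAb_comm h.elem
  -- (1)
  have h1 : p = 2 ∨ p = 3 := by
    obtain ⟨A', hA'1⟩ : ∃ A' : {A : Subgroup G // A ≤ H ∧ IsBestOffenderOn p V A},
        (A' : Subgroup G) ≠ ⊥ := by
      by_contra hcon
      push Not at hcon
      apply hH1
      rw [hS3, eq_bot_iff]
      exact iSup_le (fun A' => (hcon A').le)
    obtain ⟨B, hBA', hB⟩ := exists_isMinBO A'.2.2 hA'1
    exact (h.ffE_facts (hBA'.trans A'.2.1) hB).1
  -- basic facts on each `E`
  have hEH : ∀ E : {E : Subgroup G // P E}, (E : Subgroup G) ≤ H := by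
    rintro ⟨E, hE⟩
    obtain ⟨A, hAH, hA, rfl⟩ := (hP E).mp hE
    exact ffE_le hAH
  have hWV : ∀ E : {E : Subgroup G // P E}, ⁅V, (E : Subgroup G)⁆ ≤ V := fun E =>
    Cfsg.Agent.Lib.Helper24.commutator_le_of_le_normalizer V _ ((hEH E).trans h.norm)
  have hpair : ∀ E E' : {E : Subgroup G // P E}, E ≠ E' →
      (E' : Subgroup G) ≤ H ⊓ Subgroup.centralizer ((⁅V, (E : Subgroup G)⁆ : Subgroup G) : Set G) := by
    rintro ⟨E, hE⟩ ⟨E', hE'⟩ hne
    obtain ⟨A, hAH, hA, rfl⟩ := (hP E).mp hE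
    obtain ⟨B, hBH, hB, rfl⟩ := (hP E').mp hE'
    apply h.ffE_le_centralizer_of_ne hAH hA hBH hB
    intro hcon
    apply hne
    exact Subtype.ext hcon
  have hpairV : ∀ E E' : {E : Subgroup G // P E}, E ≠ E' →
      ⁅V, (E' : Subgroup G)⁆ ≤ V ⊓ Subgroup.centralizer ((E : Subgroup G) : Set G) := by
    intro E E' hne
    apply le_inf (hWV E')
    rw [Subgroup.le_centralizer_iff]
    exact (hpair E' E (Ne.symm hne)).trans inf_le_right
  have hWC : ∀ E : {E : Subgroup G // P E},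
      ⁅V, (E : Subgroup G)⁆ ⊓ Subgroup.centralizer ((E : Subgroup G) : Set G) = ⊥ := by
    rintro ⟨E, hE⟩
    obtain ⟨A, hAH, hA, rfl⟩ := (hP E).mp hE
    exact (h.ffE_facts hAH hA).2.2.2.2.2.2.1
  have hfac : ∀ E : {E : Subgroup G // P E},
      ⁅V, (E : Subgroup G)⁆ ⊔ (V ⊓ Subgroup.centralizer ((E : Subgroup G) : Set G)) = V := by
    rintro ⟨E, hE⟩
    obtain ⟨A, hAH, hA, rfl⟩ := (hP E).mp hE
    exact (h.ffE_direct_factor hS3 hAH hA).1
  -- (4)
  have h4 : (⨆ E : {E : Subgroup G // P E}, (E : Subgroup G)) = H := by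
    apply le_antisymm (iSup_le hEH)
    calc H = ⨆ A : {A : Subgroup G // A ≤ H ∧ IsBestOffenderOn p V A}, (A : Subgroup G) := hS3
      _ ≤ _ := by
        apply iSup_le
        intro A'
        obtain ⟨k, B, hB, -, hsup⟩ := h.exists_decomp (Nat.card A') A' rfl A'.2.1 A'.2.2
        rw [← hsup]
        apply iSup_le
        intro i
        have hBH : B i ≤ H := (hB i).1.trans A'.2.1
        have hPE : P (ffE p H (B i)) := (hP _).mpr ⟨B i, hBH, (hB i).2, rfl⟩
        exact (le_ffE p H (B i)).trans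
          (le_iSup (fun E : {E : Subgroup G // P E} => (E : Subgroup G)) ⟨_, hPE⟩)
  refine ⟨h1, ?_, ?_, h4, ?_, ?_⟩
  · -- (2)
    rintro ⟨E, hE⟩
    obtain ⟨A, hAH, hA, rfl⟩ := (hP E).mp hE
    obtain ⟨-, hiso, hcard, -⟩ := h.ffE_facts hAH hA
    obtain ⟨-, h6, -, h8, -⟩ := h.ffE_direct_factor hS3 hAH hA
    refine ⟨?_, hiso, hcard⟩
    change H ≤ Subgroup.normalizer (ffE p H A : Set G)
    calc H = ffE p H A ⊔ (H ⊓ Subgroup.centralizer ((⁅V, ffE p H A⁆ : Subgroup G) : Set G)) := h8.symm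
      _ ≤ _ := by
        apply sup_le Subgroup.le_normalizer
        rw [Subgroup.commutator_eq_bot_iff_le_centralizer, Subgroup.le_centralizer_iff] at h6
        intro c hc
        apply le_normalizer_of_forall_conj_mem (X := Subgroup.centralizer (ffE p H A : Set G)) _
          (h6 hc)
        intro c' hc' e he
        have := hc' e he
        have e1 : c' * e * c'⁻¹ = e := by rw [← this]; group
        rw [e1]; exact he
  · -- (3)
    rw [iSupIndep_def]
    rintro ⟨E, hE⟩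
    obtain ⟨A, hAH, hA, rfl⟩ := (hP E).mp hE
    obtain ⟨-, -, h7, -, -⟩ := h.ffE_direct_factor hS3 hAH hA
    rw [disjoint_iff, eq_bot_iff, ← h7]
    apply le_inf inf_le_left
    apply inf_le_right.trans
    apply iSup₂_le
    intro E' hE'
    exact hpair ⟨ffE p H A, hE⟩ E' (Ne.symm hE')
  · -- (5)
    rw [iSupIndep_def]
    intro o
    cases o with
    | none =>
      rw [disjoint_iff, eq_bot_iff]
      have hle : (⨆ (j : Option {E : Subgroup G // P E}) (_ : j ≠ none),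
          j.elim (V ⊓ Subgroup.centralizer (H : Set G)) (fun E => ⁅V, (E : Subgroup G)⁆)) ≤
          ⨆ E ∈ (Finset.univ : Finset {E : Subgroup G // P E}), ⁅V, (E : Subgroup G)⁆ := by
        apply iSup₂_le
        intro j hj
        cases j with
        | none => exact absurd rfl hj
        | some E =>
          exact le_iSup₂ (f := fun (E : {E : Subgroup G // P E}) (_ : E ∈ Finset.univ) =>
            ⁅V, (E : Subgroup G)⁆) E (Finset.mem_univ E)
      have hbot := biSup_inf_eq_bot_of_pairwise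
        (fun E : {E : Subgroup G // P E} => ⁅V, (E : Subgroup G)⁆)
        (fun E : {E : Subgroup G // P E} => (E : Subgroup G)) V
        (V ⊓ Subgroup.centralizer (H : Set G)) hVc hWV
        (fun E => inf_le_right.trans (Subgroup.centralizer_le (hEH E))) hWC
        (fun E E' hne => (hpairV E E' hne).trans inf_le_right) Finset.univ
      rw [← hbot, inf_comm]
      exact inf_le_inf_right _ hle
    | some E =>
      rw [disjoint_iff, eq_bot_iff, ← hWC E]
      apply le_inf inf_le_left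
      apply inf_le_right.trans
      apply iSup₂_le
      intro j hj
      cases j with
      | none => exact inf_le_right.trans (Subgroup.centralizer_le (hEH E))
      | some E' =>
        have hne : E ≠ E' := fun hcon => hj (by rw [hcon])
        exact (hpairV E E' hne).trans inf_le_right
  · -- (6)
    have hgen := biSup_sup_centralizer_eq
      (fun E : {E : Subgroup G // P E} => ⁅V, (E : Subgroup G)⁆)
      (fun E : {E : Subgroup G // P E} => (E : Subgroup G)) V hVc hWV hfac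
      (fun E E' hne => (hpairV E E' hne).trans inf_le_right) Finset.univ
    have e1 : (⨆ E ∈ (Finset.univ : Finset {E : Subgroup G // P E}), (E : Subgroup G)) = H := by
      rw [← h4]
      simp
    have e2 : (⨆ E ∈ (Finset.univ : Finset {E : Subgroup G // P E}), ⁅V, (E : Subgroup G)⁆) =
        ⨆ E : {E : Subgroup G // P E}, ⁅V, (E : Subgroup G)⁆ := by
      simp
    rw [e1, e2] at hgen
    rw [sup_comm]
    exact hgen

end FFHyp

end Cfsg.Agent.Lib.Helper10
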