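import Mathlib
import Cfsg.Prelude.Def_Transfer
import Cfsg.Prelude.Def_Local
import Cfsg.Prelude.Def_PLocal
import Cfsg.Agent.Lib.Helper10.FFE
import Cfsg.Agent.Lib.Helper10.FFSL2

set_option autoImplicit false
open Cfsg

/-! KS 9.3.5-type lemma: two subnormal subgroups acting irreducibly on their commutator modules
normalize each other's modules. -/

namespace Cfsg.Agent.Lib.Helper10

open scoped commutatorElement

variable {G : Type*} [Group G]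

/-- the conjugate `g A g⁻¹` -/
abbrev cj (g : G) (A : Subgroup G) : Subgroup G := A.map (MulAut.conj g).toMonoidHom

theorem mem_normalizer_iff_cj_eq {W : Subgroup G} {g : G} :
    g ∈ Subgroup.normalizer (W : Set G) ↔ cj g W = W := by
  constructor
  · exact map_conj_eq_of_mem_normalizer
  · intro h
    rw [Subgroup.mem_normalizer_iff]
    intro x
    constructor
    · intro hx
      rw [← h]
      exact ⟨x, hx, by simp⟩
    · intro hx
      rw [← h] at hx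
      obtain ⟨w, hw, hwx⟩ := hx
      have : w = x := by
        have h2 : g * w * g⁻¹ = g * x * g⁻¹ := by simpa using hwx
        calc w = g⁻¹ * (g * w * g⁻¹) * g := by group
          _ = g⁻¹ * (g * x * g⁻¹) * g := by rw [h2]
          _ = x := by group
      rw [← this]; exact hw

theorem card_cj [Finite G] (g : G) (W : Subgroup G) : Nat.card ↥(cj g W) = Nat.card W :=
  Subgroup.card_map_of_injective (MulAut.conj g).injective

theorem cj_commutator {V A : Subgroup G} {g : G} (hg : g ∈ Subgroup.normalizer (V : Set G)) :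
    cj g ⁅V, A⁆ = ⁅V, cj g A⁆ := by
  unfold cj
  rw [Subgroup.map_commutator, map_conj_eq_of_mem_normalizer hg]

theorem cj_le_normalizer {A W : Subgroup G} (g : G)
    (h : A ≤ Subgroup.normalizer (W : Set G)) :
    cj g A ≤ Subgroup.normalizer ((cj g W : Subgroup G) : Set G) := by
  rintro _ ⟨a, ha, rfl⟩
  rw [mem_normalizer_iff_cj_eq]
  have h1 := mem_normalizer_iff_cj_eq.mp (h ha)
  unfold cj at h1 ⊢
  rw [map_conj_map_conj]
  have e : (MulAut.conj g).toMonoidHom a * g = g * a := by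
    simp only [MulEquiv.coe_toMonoidHom, MulAut.conj_apply]; group
  rw [e, ← map_conj_map_conj, h1]

/-- the standing hypotheses on one of the two subgroups -/
structure SPGood (p : ℕ) (V A : Subgroup G) : Prop where
  norm : A ≤ Subgroup.normalizer (V : Set G)
  faith : A ⊓ Subgroup.centralizer (V : Set G) = ⊥
  core : ∀ P : Subgroup G, P ≤ A → IsPGroup p P → A ≤ Subgroup.normalizer (P : Set G) → P = ⊥
  irr : ∀ U : Subgroup G, U ≤ ⁅V, A⁆ → A ≤ Subgroup.normalizer (U : Set G) → U = ⊥ ∨ U = ⁅V, A⁆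
  card : 2 < Nat.card A

namespace SPGood

variable {p : ℕ} {V A : Subgroup G}

theorem comm_le (h : SPGood p V A) : ⁅V, A⁆ ≤ V :=
  Cfsg.Agent.Lib.Helper24.commutator_le_of_le_normalizer V A h.norm

theorem le_normalizer_comm (_h : SPGood p V A) :
    A ≤ Subgroup.normalizer ((⁅V, A⁆ : Subgroup G) : Set G) :=
  Subgroup.normalizer_commutator_ge_right V A

theorem ne_bot [Finite G] (h : SPGood p V A) : A ≠ ⊥ := by
  intro hA
  have := h.card
  rw [hA, Subgroup.card_bot] at this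
  omega

/-- elements of `A` centralizing `[V, A]` are trivial -/
theorem inf_centralizer_comm [Finite G] [Fact p.Prime] (hV : IsElementaryAbelian p V)
    (h : SPGood p V A) :
    A ⊓ Subgroup.centralizer ((⁅V, A⁆ : Subgroup G) : Set G) = ⊥ := by
  apply h.core _ inf_le_left
  · -- exponent `p`
    have hexp : ∀ d ∈ A ⊓ Subgroup.centralizer ((⁅V, A⁆ : Subgroup G) : Set G), d ^ p = 1 := by
      intro d hd
      obtain ⟨hdA, hdC⟩ := Subgroup.mem_inf.mp hd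
      have hd' : ∀ v ∈ V, ⁅v, d⁆ * d = d * ⁅v, d⁆ := by
        intro v hv
        have := Subgroup.mem_centralizer_iff.mp hdC _ (Subgroup.commutator_mem_commutator hv hdA)
        exact this
      have hcent : d ^ p ∈ Subgroup.centralizer (V : Set G) := by
        rw [Subgroup.mem_centralizer_iff]
        intro v hv
        have hcV : ⁅v, d⁆ ∈ V := h.comm_le (Subgroup.commutator_mem_commutator hv hdA)
        have hcomm := hd' v hv
        have key : ∀ k : ℕ, v * d ^ k * v⁻¹ = ⁅v, d⁆ ^ k * d ^ k := by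
          intro k
          induction k with
          | zero => simp
          | succ k ih =>
            have e1 : v * d ^ (k + 1) * v⁻¹ = (v * d ^ k * v⁻¹) * (v * d * v⁻¹) := by
              rw [pow_succ]; group
            have e2 : v * d * v⁻¹ = ⁅v, d⁆ * d := by
              rw [commutatorElement_def]; group
            have hc' : d ^ k * ⁅v, d⁆ = ⁅v, d⁆ * d ^ k := by
              have : Commute (⁅v, d⁆) d := hcomm
              exact (this.pow_right k).eq.symm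
            rw [e1, ih, e2, pow_succ, pow_succ]
            calc ⁅v, d⁆ ^ k * d ^ k * (⁅v, d⁆ * d) = ⁅v, d⁆ ^ k * (d ^ k * ⁅v, d⁆) * d := by group
              _ = ⁅v, d⁆ ^ k * (⁅v, d⁆ * d ^ k) * d := by rw [hc']
              _ = ⁅v, d⁆ ^ k * ⁅v, d⁆ * (d ^ k * d) := by group
        have h1 := key p
        have h2 : ⁅v, d⁆ ^ p = 1 := hV.2 _ hcV
        rw [h2, one_mul] at h1
        calc v * d ^ p = (v * d ^ p * v⁻¹) * v := by group
          _ = d ^ p * v := by rw [h1]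
      have : d ^ p ∈ A ⊓ Subgroup.centralizer (V : Set G) :=
        Subgroup.mem_inf.mpr ⟨A.pow_mem hdA p, hcent⟩
      rw [h.faith] at this
      exact Subgroup.mem_bot.mp this
    rintro ⟨d, hd⟩
    refine ⟨1, ?_⟩
    apply Subtype.ext
    simp only [Subgroup.coe_pow, Subgroup.coe_one, pow_one]
    exact hexp d hd
  · intro a ha
    apply mem_normalizer_inf (Subgroup.le_normalizer ha)
    exact normalizer_le_normalizer_centralizer _ (h.le_normalizer_comm ha)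

theorem comm_ne_bot [Finite G] (h : SPGood p V A) : ⁅V, A⁆ ≠ ⊥ := by
  intro hW
  apply h.ne_bot
  rw [eq_bot_iff, ← h.faith]
  apply le_inf le_rfl
  rw [Subgroup.commutator_comm, Subgroup.commutator_eq_bot_iff_le_centralizer] at hW
  exact hW

theorem comm_comm [Finite G] [Fact p.Prime] (hV : IsElementaryAbelian p V) (h : SPGood p V A) :
    ⁅⁅V, A⁆, A⁆ = ⁅V, A⁆ := by
  have hle : ⁅⁅V, A⁆, A⁆ ≤ ⁅V, A⁆ :=
    Cfsg.Agent.Lib.Helper24.commutator_le_of_le_normalizer _ A h.le_normalizer_comm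
  rcases h.irr _ hle (Subgroup.normalizer_commutator_ge_right _ A) with h1 | h1
  · exfalso
    apply h.ne_bot
    rw [eq_bot_iff, ← h.inf_centralizer_comm hV]
    apply le_inf le_rfl
    rw [Subgroup.commutator_comm, Subgroup.commutator_eq_bot_iff_le_centralizer] at h1
    exact h1
  · exact h1

theorem comm_inf_centralizer [Finite G] [Fact p.Prime] (hV : IsElementaryAbelian p V)
    (h : SPGood p V A) : ⁅V, A⁆ ⊓ Subgroup.centralizer (A : Set G) = ⊥ := by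
  have hn : A ≤ Subgroup.normalizer ((⁅V, A⁆ ⊓ Subgroup.centralizer (A : Set G) : Subgroup G) : Set G) := by
    intro a ha
    apply mem_normalizer_inf (h.le_normalizer_comm ha)
    exact normalizer_le_normalizer_centralizer _ (Subgroup.le_normalizer ha)
  rcases h.irr _ inf_le_left hn with h1 | h1
  · exact h1
  · exfalso
    apply h.ne_bot
    rw [eq_bot_iff, ← h.inf_centralizer_comm hV]
    apply le_inf le_rfl
    rw [Subgroup.le_centralizer_iff, ← h1]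
    exact inf_le_right

theorem map_conj [Finite G] (h : SPGood p V A) {g : G}
    (hg : g ∈ Subgroup.normalizer (V : Set G)) : SPGood p V (cj g A) := by
  have hg' : g⁻¹ ∈ Subgroup.normalizer (V : Set G) := Subgroup.inv_mem _ hg
  have hVg : cj g V = V := map_conj_eq_of_mem_normalizer hg
  have hback : cj g⁻¹ (cj g A) = A := map_conj_inv_map_conj g A
  refine ⟨?_, ?_, ?_, ?_, ?_⟩
  · have := cj_le_normalizer g h.norm
    rwa [hVg] at this
  · have h1 : cj g (A ⊓ Subgroup.centralizer (V : Set G)) =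
        cj g A ⊓ Subgroup.centralizer (V : Set G) := by
      unfold cj
      rw [Subgroup.map_inf _ _ _ (MulAut.conj g).injective, map_conj_centralizer,
        map_conj_eq_of_mem_normalizer hg]
    rw [← h1, h.faith]
    exact Subgroup.map_bot _
  · intro P hP hPp hn
    have h1 : cj g⁻¹ P ≤ A := by
      rw [← hback]; exact Subgroup.map_mono hP
    have h2 : IsPGroup p ↥(cj g⁻¹ P) := hPp.map _
    have h3 : A ≤ Subgroup.normalizer ((cj g⁻¹ P : Subgroup G) : Set G) := by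
      have := cj_le_normalizer g⁻¹ hn
      rwa [hback] at this
    have h4 := h.core _ h1 h2 h3
    have h5 : cj g (cj g⁻¹ P) = P := map_conj_map_conj_inv g P
    rw [← h5, h4]
    exact Subgroup.map_bot _
  · intro U hU hn
    rw [← cj_commutator hg] at hU ⊢
    have h1 : cj g⁻¹ U ≤ ⁅V, A⁆ := by
      have := Subgroup.map_mono (f := (MulAut.conj g⁻¹).toMonoidHom) hU
      rwa [map_conj_inv_map_conj] at this
    have h3 : A ≤ Subgroup.normalizer ((cj g⁻¹ U : Subgroup G) : Set G) := by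
      have := cj_le_normalizer g⁻¹ hn
      rwa [hback] at this
    have h5 : cj g (cj g⁻¹ U) = U := map_conj_map_conj_inv g U
    rcases h.irr _ h1 h3 with h4 | h4
    · left
      rw [← h5, h4]
      exact Subgroup.map_bot _
    · right
      rw [← h5, h4]
  · rw [card_cj]; exact h.card

end SPGood

/-! ### subnormality helpers -/

theorem subnormal_of_le {A L H : Subgroup G} (hLH : L ≤ H)
    (h : (A.subgroupOf H).IsSubnormal) : (A.subgroupOf L).IsSubnormal := by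
  have e : (A.subgroupOf H).comap (Subgroup.inclusion hLH) = A.subgroupOf L := by
    ext x
    rw [Subgroup.mem_comap, Subgroup.mem_subgroupOf, Subgroup.mem_subgroupOf]
    rfl
  rw [← e]
  exact Subgroup.IsSubnormal.comap _ h

theorem subnormal_cj {A H : Subgroup G} {g : G} (hg : g ∈ H)
    (h : (A.subgroupOf H).IsSubnormal) : ((cj g A).subgroupOf H).IsSubnormal := by
  have e : (A.subgroupOf H).map (MulAut.conj (⟨g, hg⟩ : ↥H)).toMonoidHom =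
      (cj g A).subgroupOf H := by
    ext x
    rw [Subgroup.mem_subgroupOf, mem_map_conj_iff, mem_map_conj_iff, Subgroup.mem_subgroupOf]
    rfl
  rw [← e]
  exact Subgroup.IsSubnormal.map (MulAut.conj (⟨g, hg⟩ : ↥H)).surjective h

theorem cj_le_of_mem {A H : Subgroup G} (hAH : A ≤ H) {g : G} (hg : g ∈ H) : cj g A ≤ H := by
  rintro _ ⟨a, ha, rfl⟩
  simp only [MulEquiv.coe_toMonoidHom, MulAut.conj_apply]
  exact H.mul_mem (H.mul_mem hg (hAH ha)) (H.inv_mem hg)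

theorem card_sup_cj_lt [Finite G] {A H : Subgroup G} (hAH : A ≤ H)
    (hsn : (A.subgroupOf H).IsSubnormal) (hne : A ≠ H) {g : G} (hg : g ∈ H) :
    Nat.card ↥(A ⊔ cj g A) < Nat.card H := by
  have hne' : A.subgroupOf H ≠ ⊤ := by
    intro h
    rw [Subgroup.subgroupOf_eq_top] at h
    exact hne (le_antisymm hAH h)
  obtain ⟨K', hK'n, hAK', hK'lt⟩ := hsn.exists_normal_and_le_and_lt_top_of_ne hne'
  have h1 : A ⊔ cj g A ≤ K'.map H.subtype := by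
    apply sup_le
    · intro a ha
      exact ⟨⟨a, hAH ha⟩, hAK' (Subgroup.mem_subgroupOf.mpr ha), rfl⟩
    · rintro _ ⟨a, ha, rfl⟩
      have h2 : (⟨a, hAH ha⟩ : ↥H) ∈ K' := hAK' (Subgroup.mem_subgroupOf.mpr ha)
      have h3 := hK'n.conj_mem _ h2 ⟨g, hg⟩
      refine ⟨_, h3, ?_⟩
      simp
  have h2 : Nat.card ↥(K'.map H.subtype) = Nat.card K' :=
    Subgroup.card_map_of_injective (Subgroup.subtype_injective H)
  have h3 : Nat.card K' < Nat.card H := by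
    have hle := Subgroup.card_le_card_group K'
    rcases Nat.lt_or_ge (Nat.card K') (Nat.card H) with h | h
    · exact h
    · exfalso
      have := (Subgroup.card_eq_iff_eq_top K').mp (le_antisymm hle h)
      exact (ne_of_lt hK'lt) this
  calc Nat.card ↥(A ⊔ cj g A) ≤ Nat.card ↥(K'.map H.subtype) := Subgroup.card_le_of_le h1
    _ = Nat.card K' := h2
    _ < Nat.card H := h3

/-- the conclusion for a pair -/
def PairConcl (V A B : Subgroup G) : Prop :=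
  B ≤ Subgroup.normalizer ((⁅V, A⁆ : Subgroup G) : Set G) ∧
    A ≤ Subgroup.normalizer ((⁅V, B⁆ : Subgroup G) : Set G)

/-- the induction hypothesis: the pair lemma for all pairs generating a group of order `< N` -/
def PairIH (p : ℕ) (V : Subgroup G) (N : ℕ) : Prop :=
  ∀ A' B' : Subgroup G, Nat.card ↥(A' ⊔ B') < N → SPGood p V A' → SPGood p V B' →
    (A'.subgroupOf (A' ⊔ B')).IsSubnormal → (B'.subgroupOf (A' ⊔ B')).IsSubnormal →
    ¬ ⁅V, A'⁆ ≤ ⁅V, B'⁆ → ¬ ⁅V, B'⁆ ≤ ⁅V, A'⁆ → PairConcl V A' B'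

theorem pair_conj [Finite G] {p : ℕ} [Fact p.Prime] {V : Subgroup G}
    {N : ℕ} (ih : PairIH p V N)
    {X H : Subgroup G} (hX : SPGood p V X) (hXH : X ≤ H)
    (hHV : H ≤ Subgroup.normalizer (V : Set G)) (hcard : Nat.card H = N)
    (hsn : (X.subgroupOf H).IsSubnormal) (hne : X ≠ H) {g : G} (hg : g ∈ H)
    (hW : cj g ⁅V, X⁆ ≠ ⁅V, X⁆) :
    ⁅V, X⁆ ⊓ cj g ⁅V, X⁆ = ⊥ ∧
      X ≤ Subgroup.centralizer ((cj g ⁅V, X⁆ : Subgroup G) : Set G) ∧
      cj g X ≤ Subgroup.centralizer ((⁅V, X⁆ : Subgroup G) : Set G) := by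
  have hgV : g ∈ Subgroup.normalizer (V : Set G) := hHV hg
  have hXg : SPGood p V (cj g X) := hX.map_conj hgV
  have hXgH : cj g X ≤ H := cj_le_of_mem hXH hg
  have hLH : X ⊔ cj g X ≤ H := sup_le hXH hXgH
  have hL : Nat.card ↥(X ⊔ cj g X) < N := by
    rw [← hcard]; exact card_sup_cj_lt hXH hsn hne hg
  have hs1 : (X.subgroupOf (X ⊔ cj g X)).IsSubnormal := subnormal_of_le hLH hsn
  have hs2 : ((cj g X).subgroupOf (X ⊔ cj g X)).IsSubnormal :=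
    subnormal_of_le hLH (subnormal_cj hg hsn)
  have hWg : ⁅V, cj g X⁆ = cj g ⁅V, X⁆ := (cj_commutator hgV).symm
  have hcardW : Nat.card ↥(cj g ⁅V, X⁆) = Nat.card ↥(⁅V, X⁆) := card_cj g _
  have hinc1 : ¬ ⁅V, X⁆ ≤ ⁅V, cj g X⁆ := by
    rw [hWg]
    intro hle
    exact hW (Subgroup.eq_of_le_of_card_ge hle (le_of_eq hcardW)).symm
  have hinc2 : ¬ ⁅V, cj g X⁆ ≤ ⁅V, X⁆ := by
    rw [hWg]
    intro hle
    exact hW (Subgroup.eq_of_le_of_card_ge hle (le_of_eq hcardW.symm))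
  obtain ⟨h1, h2⟩ := ih X (cj g X) hL hX hXg hs1 hs2 hinc1 hinc2
  rw [hWg] at h2
  have hWV : ⁅V, X⁆ ≤ V := hX.comm_le
  have hWgV : cj g ⁅V, X⁆ ≤ V := by rw [← hWg]; exact hXg.comm_le
  have hinf : ⁅V, X⁆ ⊓ cj g ⁅V, X⁆ = ⊥ := by
    have hn : X ≤ Subgroup.normalizer ((⁅V, X⁆ ⊓ cj g ⁅V, X⁆ : Subgroup G) : Set G) :=
      fun a ha => mem_normalizer_inf (hX.le_normalizer_comm ha) (h2 ha)
    rcases hX.irr _ inf_le_left hn with h3 | h3
    · exact h3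
    · exfalso
      apply hinc1
      rw [hWg]
      calc ⁅V, X⁆ = ⁅V, X⁆ ⊓ cj g ⁅V, X⁆ := h3.symm
        _ ≤ cj g ⁅V, X⁆ := inf_le_right
  refine ⟨hinf, ?_, ?_⟩
  · rw [← Subgroup.commutator_eq_bot_iff_le_centralizer, Subgroup.commutator_comm, eq_bot_iff,
      ← hinf]
    apply le_inf
    · exact Subgroup.commutator_mono hWgV le_rfl
    · exact Cfsg.Agent.Lib.Helper24.commutator_le_of_le_normalizer _ X h2
  · rw [← Subgroup.commutator_eq_bot_iff_le_centralizer, Subgroup.commutator_comm, eq_bot_iff,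
      ← hinf]
    apply le_inf
    · exact Cfsg.Agent.Lib.Helper24.commutator_le_of_le_normalizer _ _ h1
    · rw [← hWg]
      exact Subgroup.commutator_mono hWV le_rfl

/-- `w ↦ [w, b]` is injective on `W` when `W ∩ W^b = 1` -/
theorem commutatorElement_inj_of_inf_cj {W : Subgroup G} {b : G} (h : W ⊓ cj b W = ⊥)
    {w w₁ : G} (hw : w ∈ W) (hw₁ : w₁ ∈ W) (e : ⁅w, b⁆ = ⁅w₁, b⁆) : w = w₁ := by
  rw [commutatorElement_def, commutatorElement_def] at e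
  have h1 : w₁⁻¹ * w = b * (w₁⁻¹ * w) * b⁻¹ := by
    calc w₁⁻¹ * w = w₁⁻¹ * (w * b * w⁻¹ * b⁻¹) * (b * w * b⁻¹) := by group
      _ = w₁⁻¹ * (w₁ * b * w₁⁻¹ * b⁻¹) * (b * w * b⁻¹) := by rw [e]
      _ = b * (w₁⁻¹ * w) * b⁻¹ := by group
  have h2 : w₁⁻¹ * w ∈ W := W.mul_mem (W.inv_mem hw₁) hw
  have h3 : w₁⁻¹ * w ∈ cj b W := by
    rw [h1]
    exact ⟨w₁⁻¹ * w, h2, by simp⟩
  have h4 : w₁⁻¹ * w ∈ W ⊓ cj b W := Subgroup.mem_inf.mpr ⟨h2, h3⟩
  rw [h, Subgroup.mem_bot] at h4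
  calc w = w₁ * (w₁⁻¹ * w) := by group
    _ = w₁ := by rw [h4, mul_one]

theorem conj_mem_cj {W : Subgroup G} {w : G} (hw : w ∈ W) (b : G) : b * w * b⁻¹ ∈ cj b W :=
  ⟨w, hw, by simp⟩

/-- the key one-sided statement, given the induction hypothesis -/
theorem pair_key [Finite G] {p : ℕ} [Fact p.Prime] {V : Subgroup G} (hV : IsElementaryAbelian p V)
    {A B : Subgroup G} (ih : PairIH p V (Nat.card ↥(A ⊔ B)))
    (hA : SPGood p V A) (hB : SPGood p V B)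
    (hsA : (A.subgroupOf (A ⊔ B)).IsSubnormal) (hsB : (B.subgroupOf (A ⊔ B)).IsSubnormal)
    (hAB : ¬ ⁅V, A⁆ ≤ ⁅V, B⁆) (hBA : ¬ ⁅V, B⁆ ≤ ⁅V, A⁆) :
    B ≤ Subgroup.normalizer ((⁅V, A⁆ : Subgroup G) : Set G) := by
  classical
  by_contra hnot
  have hHV : A ⊔ B ≤ Subgroup.normalizer (V : Set G) := sup_le hA.norm hB.norm
  have hAH : A ≤ A ⊔ B := le_sup_left
  have hBH : B ≤ A ⊔ B := le_sup_right
  have hAne : A ≠ A ⊔ B := by
    intro h
    apply hBA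
    apply Subgroup.commutator_mono le_rfl
    rw [h]; exact hBH
  have hBne : B ≠ A ⊔ B := by
    intro h
    apply hAB
    apply Subgroup.commutator_mono le_rfl
    rw [h]; exact hAH
  have hWV : ⁅V, A⁆ ≤ V := hA.comm_le
  have hW'V : ⁅V, B⁆ ≤ V := hB.comm_le
  have S1A : ∀ g ∈ A ⊔ B, cj g ⁅V, A⁆ ≠ ⁅V, A⁆ → ⁅V, A⁆ ⊓ cj g ⁅V, A⁆ = ⊥ ∧
      A ≤ Subgroup.centralizer ((cj g ⁅V, A⁆ : Subgroup G) : Set G) ∧
      cj g A ≤ Subgroup.centralizer ((⁅V, A⁆ : Subgroup G) : Set G) :=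
    fun g hg hne => pair_conj ih hA hAH hHV rfl hsA hAne hg hne
  have S1B : ∀ g ∈ A ⊔ B, cj g ⁅V, B⁆ ≠ ⁅V, B⁆ → ⁅V, B⁆ ⊓ cj g ⁅V, B⁆ = ⊥ ∧
      B ≤ Subgroup.centralizer ((cj g ⁅V, B⁆ : Subgroup G) : Set G) ∧
      cj g B ≤ Subgroup.centralizer ((⁅V, B⁆ : Subgroup G) : Set G) :=
    fun g hg hne => pair_conj ih hB hBH hHV rfl hsB hBne hg hne
  obtain ⟨b, hbB, hbW⟩ : ∃ b ∈ B, cj b ⁅V, A⁆ ≠ ⁅V, A⁆ := by
    by_contra hcon
    push Not at hcon
    apply hnot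
    intro b hb
    exact mem_normalizer_iff_cj_eq.mpr (hcon b hb)
  have S2 : ∀ w ∈ ⁅V, A⁆, ∀ b ∈ B, ⁅w, b⁆ ∈ ⁅V, B⁆ := fun w hw b hb =>
    Subgroup.commutator_mem_commutator (hWV hw) hb
  have S2' : ∀ u ∈ ⁅V, B⁆, ∀ a ∈ A, ⁅u, a⁆ ∈ ⁅V, A⁆ := fun u hu a ha =>
    Subgroup.commutator_mem_commutator (hW'V hu) ha
  obtain ⟨hinfb, hAcb, -⟩ := S1A b (hBH hbB) hbW
  -- S3
  obtain ⟨a, haA, haW'⟩ : ∃ a ∈ A, cj a ⁅V, B⁆ ≠ ⁅V, B⁆ := by
    by_contra hcon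
    push Not at hcon
    have hAN : A ≤ Subgroup.normalizer ((⁅V, B⁆ : Subgroup G) : Set G) := fun a ha =>
      mem_normalizer_iff_cj_eq.mpr (hcon a ha)
    apply hAB
    rw [← hA.comm_comm hV, Subgroup.commutator_le]
    intro w hw a ha
    have hx : ⁅w, b⁆ ∈ ⁅V, B⁆ := S2 w hw b hbB
    have h1 : ⁅⁅w, b⁆, a⁆ ∈ ⁅V, B⁆ := by
      have h2 : a * (⁅w, b⁆)⁻¹ * a⁻¹ ∈ ⁅V, B⁆ :=
        (Subgroup.mem_normalizer_iff.mp (hAN ha) _).mp (Subgroup.inv_mem _ hx)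
      have e : ⁅⁅w, b⁆, a⁆ = ⁅w, b⁆ * (a * (⁅w, b⁆)⁻¹ * a⁻¹) := by
        rw [commutatorElement_def ⁅w, b⁆ a]; group
      rw [e]
      exact Subgroup.mul_mem _ hx h2
    have hu : b * w⁻¹ * b⁻¹ ∈ cj b ⁅V, A⁆ := conj_mem_cj (Subgroup.inv_mem _ hw) b
    have hua : (b * w⁻¹ * b⁻¹) * a = a * (b * w⁻¹ * b⁻¹) :=
      Subgroup.mem_centralizer_iff.mp (hAcb ha) _ hu
    have e : ⁅⁅w, b⁆, a⁆ = ⁅w, a⁆ := by
      have e1 : ⁅w, b⁆ = w * (b * w⁻¹ * b⁻¹) := by rw [commutatorElement_def]; group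
      rw [e1, commutatorElement_def, commutatorElement_def]
      calc w * (b * w⁻¹ * b⁻¹) * a * (w * (b * w⁻¹ * b⁻¹))⁻¹ * a⁻¹
          = w * ((b * w⁻¹ * b⁻¹) * a) * (b * w⁻¹ * b⁻¹)⁻¹ * w⁻¹ * a⁻¹ := by group
        _ = w * (a * (b * w⁻¹ * b⁻¹)) * (b * w⁻¹ * b⁻¹)⁻¹ * w⁻¹ * a⁻¹ := by rw [hua]
        _ = w * a * w⁻¹ * a⁻¹ := by group
    rw [← e]
    exact h1
  obtain ⟨hinfa, -, -⟩ := S1B a (hAH haA) haW'
  -- S4
  have hcard1 : Nat.card ↥(⁅V, A⁆) ≤ Nat.card ↥(⁅V, B⁆) := by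
    apply Nat.card_le_card_of_injective
      (fun w : ↥(⁅V, A⁆) => (⟨⁅(w : G), b⁆, S2 w w.2 b hbB⟩ : ↥(⁅V, B⁆)))
    intro w w₁ e
    apply Subtype.ext
    exact commutatorElement_inj_of_inf_cj hinfb w.2 w₁.2 (congrArg Subtype.val e)
  have hcard2 : Nat.card ↥(⁅V, B⁆) ≤ Nat.card ↥(⁅V, A⁆) := by
    apply Nat.card_le_card_of_injective
      (fun u : ↥(⁅V, B⁆) => (⟨⁅(u : G), a⁆, S2' u u.2 a haA⟩ : ↥(⁅V, A⁆)))
    intro u u₁ e
    apply Subtype.ext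
    exact commutatorElement_inj_of_inf_cj hinfa u.2 u₁.2 (congrArg Subtype.val e)
  have hsurj : ∀ b' ∈ B, cj b' ⁅V, A⁆ ≠ ⁅V, A⁆ → ∀ u ∈ ⁅V, B⁆, ∃ w ∈ ⁅V, A⁆, ⁅w, b'⁆ = u := by
    intro b' hb' hne u hu
    obtain ⟨hinf', -, -⟩ := S1A b' (hBH hb') hne
    have hinj : Function.Injective
        (fun w : ↥(⁅V, A⁆) => (⟨⁅(w : G), b'⁆, S2 w w.2 b' hb'⟩ : ↥(⁅V, B⁆))) := by
      intro w w₁ e
      apply Subtype.ext
      exact commutatorElement_inj_of_inf_cj hinf' w.2 w₁.2 (congrArg Subtype.val e)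
    obtain ⟨w, hw⟩ := (hinj.bijective_of_nat_card_le hcard2).2 ⟨u, hu⟩
    exact ⟨w, w.2, congrArg Subtype.val hw⟩
  -- S5
  have S5 : ∀ b₁ ∈ B, ∀ b₂ ∈ B, cj b₁ ⁅V, A⁆ ≠ ⁅V, A⁆ → cj b₂ ⁅V, A⁆ ≠ ⁅V, A⁆ →
      cj b₁ ⁅V, A⁆ = cj b₂ ⁅V, A⁆ := by
    intro b₁ hb₁ b₂ hb₂ h1 h2
    by_contra hne
    obtain ⟨-, hA1, -⟩ := S1A b₁ (hBH hb₁) h1
    obtain ⟨-, hA2, -⟩ := S1A b₂ (hBH hb₂) h2
    have h12 : cj b₁ ⁅V, A⁆ ⊓ cj b₂ ⁅V, A⁆ = ⊥ := by
      have hg : b₁⁻¹ * b₂ ∈ A ⊔ B := hBH (B.mul_mem (B.inv_mem hb₁) hb₂)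
      have e2 : cj b₁ (cj (b₁⁻¹ * b₂) ⁅V, A⁆) = cj b₂ ⁅V, A⁆ := by
        unfold cj
        rw [map_conj_map_conj, mul_inv_cancel_left]
      have hgne : cj (b₁⁻¹ * b₂) ⁅V, A⁆ ≠ ⁅V, A⁆ := by
        intro h
        apply hne
        rw [← e2, h]
      obtain ⟨hig, -, -⟩ := S1A _ hg hgne
      have := congrArg (cj b₁) hig
      unfold cj at this e2 ⊢
      rw [Subgroup.map_inf _ _ _ (MulAut.conj b₁).injective, e2, Subgroup.map_bot] at this
      exact this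
    apply hA.comm_ne_bot
    rw [eq_bot_iff]
    intro w hw
    rw [Subgroup.mem_bot]
    obtain ⟨w₁, hw₁, e⟩ := hsurj b₂ hb₂ h2 ⁅w, b₁⁆ (S2 w hw b₁ hb₁)
    rw [commutatorElement_def, commutatorElement_def] at e
    have hx : w⁻¹ * w₁ = (b₁ * w⁻¹ * b₁⁻¹) * (b₂ * w₁ * b₂⁻¹) := by
      calc w⁻¹ * w₁ = w⁻¹ * (w₁ * b₂ * w₁⁻¹ * b₂⁻¹) * (b₂ * w₁ * b₂⁻¹) := by group
        _ = w⁻¹ * (w * b₁ * w⁻¹ * b₁⁻¹) * (b₂ * w₁ * b₂⁻¹) := by rw [e]
        _ = (b₁ * w⁻¹ * b₁⁻¹) * (b₂ * w₁ * b₂⁻¹) := by group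
    have hxW : w⁻¹ * w₁ ∈ ⁅V, A⁆ := Subgroup.mul_mem _ (Subgroup.inv_mem _ hw) hw₁
    have hxC : w⁻¹ * w₁ ∈ Subgroup.centralizer (A : Set G) := by
      rw [hx, Subgroup.mem_centralizer_iff]
      intro a' ha'
      have c1 : (b₁ * w⁻¹ * b₁⁻¹) * a' = a' * (b₁ * w⁻¹ * b₁⁻¹) :=
        Subgroup.mem_centralizer_iff.mp (hA1 ha') _ (conj_mem_cj (Subgroup.inv_mem _ hw) b₁)
      have c2 : (b₂ * w₁ * b₂⁻¹) * a' = a' * (b₂ * w₁ * b₂⁻¹) :=
        Subgroup.mem_centralizer_iff.mp (hA2 ha') _ (conj_mem_cj hw₁ b₂)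
      calc a' * ((b₁ * w⁻¹ * b₁⁻¹) * (b₂ * w₁ * b₂⁻¹))
          = (a' * (b₁ * w⁻¹ * b₁⁻¹)) * (b₂ * w₁ * b₂⁻¹) := by group
        _ = ((b₁ * w⁻¹ * b₁⁻¹) * a') * (b₂ * w₁ * b₂⁻¹) := by rw [c1]
        _ = (b₁ * w⁻¹ * b₁⁻¹) * (a' * (b₂ * w₁ * b₂⁻¹)) := by group
        _ = (b₁ * w⁻¹ * b₁⁻¹) * ((b₂ * w₁ * b₂⁻¹) * a') := by rw [c2]
        _ = (b₁ * w⁻¹ * b₁⁻¹) * (b₂ * w₁ * b₂⁻¹) * a' := by group
    have hx1 : w⁻¹ * w₁ = 1 := by
      have : w⁻¹ * w₁ ∈ ⁅V, A⁆ ⊓ Subgroup.centralizer (A : Set G) :=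
        Subgroup.mem_inf.mpr ⟨hxW, hxC⟩
      rw [hA.comm_inf_centralizer hV, Subgroup.mem_bot] at this
      exact this
    have hww : w₁ = w := by
      calc w₁ = w * (w⁻¹ * w₁) := by group
        _ = w := by rw [hx1, mul_one]
    rw [hww] at e
    have hy : b₂ * w⁻¹ * b₂⁻¹ = b₁ * w⁻¹ * b₁⁻¹ := by
      calc b₂ * w⁻¹ * b₂⁻¹ = w⁻¹ * (w * b₂ * w⁻¹ * b₂⁻¹) := by group
        _ = w⁻¹ * (w * b₁ * w⁻¹ * b₁⁻¹) := by rw [e]
        _ = b₁ * w⁻¹ * b₁⁻¹ := by group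
    have hy1 : b₁ * w⁻¹ * b₁⁻¹ ∈ cj b₁ ⁅V, A⁆ ⊓ cj b₂ ⁅V, A⁆ := by
      refine Subgroup.mem_inf.mpr ⟨conj_mem_cj (Subgroup.inv_mem _ hw) b₁, ?_⟩
      rw [← hy]
      exact conj_mem_cj (Subgroup.inv_mem _ hw) b₂
    rw [h12, Subgroup.mem_bot] at hy1
    have : w⁻¹ = 1 := by
      calc w⁻¹ = b₁⁻¹ * (b₁ * w⁻¹ * b₁⁻¹) * b₁ := by group
        _ = 1 := by rw [hy1]; group
    exact inv_eq_one.mp this
  -- S6
  have hWW' : ∀ u ∈ ⁅V, B⁆, u ∈ ⁅V, A⁆ → u = 1 := by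
    intro u hu huW
    obtain ⟨w₁, hw₁, e⟩ := hsurj b hbB hbW u hu
    rw [commutatorElement_def] at e
    have h1 : b * w₁⁻¹ * b⁻¹ = w₁⁻¹ * u := by rw [← e]; group
    have h2 : b * w₁⁻¹ * b⁻¹ ∈ ⁅V, A⁆ ⊓ cj b ⁅V, A⁆ := by
      refine Subgroup.mem_inf.mpr ⟨?_, conj_mem_cj (Subgroup.inv_mem _ hw₁) b⟩
      rw [h1]
      exact Subgroup.mul_mem _ (Subgroup.inv_mem _ hw₁) huW
    rw [hinfb, Subgroup.mem_bot] at h2
    rw [← e]
    calc w₁ * b * w₁⁻¹ * b⁻¹ = w₁ * (b * w₁⁻¹ * b⁻¹) := by group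
      _ = w₁ := by rw [h2, mul_one]
      _ = (b⁻¹ * (b * w₁⁻¹ * b⁻¹) * b)⁻¹ := by group
      _ = 1 := by rw [h2]; group
  have hcentW : ∀ c ∈ B, c ∈ Subgroup.normalizer ((⁅V, A⁆ : Subgroup G) : Set G) →
      c ∈ Subgroup.centralizer ((⁅V, A⁆ : Subgroup G) : Set G) := by
    intro c hcB hcN
    rw [Subgroup.mem_centralizer_iff]
    intro w hw
    have h1 : ⁅w, c⁆ ∈ ⁅V, A⁆ := by
      have h2 : c * w⁻¹ * c⁻¹ ∈ ⁅V, A⁆ :=
        (Subgroup.mem_normalizer_iff.mp hcN _).mp (Subgroup.inv_mem _ hw)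
      have e : ⁅w, c⁆ = w * (c * w⁻¹ * c⁻¹) := by rw [commutatorElement_def]; group
      rw [e]
      exact Subgroup.mul_mem _ hw h2
    have h3 := hWW' _ (S2 w hw c hcB) h1
    rw [commutatorElement_def] at h3
    calc w * c = (w * c * w⁻¹ * c⁻¹) * (c * w) := by group
      _ = c * w := by rw [h3, one_mul]
  have S6 : B ⊓ Subgroup.normalizer ((⁅V, A⁆ : Subgroup G) : Set G) = ⊥ := by
    rw [eq_bot_iff]
    intro b₀ hb₀
    obtain ⟨hb₀B, hb₀N⟩ := Subgroup.mem_inf.mp hb₀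
    have hb₀W := hcentW b₀ hb₀B hb₀N
    -- (ii)
    have hb₀b : cj (b₀ * b) ⁅V, A⁆ ≠ ⁅V, A⁆ := by
      intro h
      apply hbW
      have h1 : b₀ * b ∈ Subgroup.normalizer ((⁅V, A⁆ : Subgroup G) : Set G) :=
        mem_normalizer_iff_cj_eq.mpr h
      have h2 : b ∈ Subgroup.normalizer ((⁅V, A⁆ : Subgroup G) : Set G) := by
        have := Subgroup.mul_mem _ (Subgroup.inv_mem _ hb₀N) h1
        rwa [inv_mul_cancel_left] at this
      exact mem_normalizer_iff_cj_eq.mp h2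
    have h5 := S5 (b₀ * b) (B.mul_mem hb₀B hbB) b hbB hb₀b hbW
    have hb₀Nb : cj b₀ (cj b ⁅V, A⁆) = cj b ⁅V, A⁆ := by
      calc cj b₀ (cj b ⁅V, A⁆) = cj (b₀ * b) ⁅V, A⁆ := map_conj_map_conj b₀ b _
        _ = cj b ⁅V, A⁆ := h5
    -- (iii)
    have hc : cj (b⁻¹ * b₀ * b) ⁅V, A⁆ = ⁅V, A⁆ := by
      have e1 : cj (b⁻¹ * b₀ * b) ⁅V, A⁆ = cj b⁻¹ (cj b₀ (cj b ⁅V, A⁆)) := by
        unfold cj
        rw [map_conj_map_conj, map_conj_map_conj, mul_assoc]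
      rw [e1, hb₀Nb]
      exact map_conj_inv_map_conj b _
    have hcC := hcentW (b⁻¹ * b₀ * b) (B.mul_mem (B.mul_mem (B.inv_mem hbB) hb₀B) hbB)
      (mem_normalizer_iff_cj_eq.mpr hc)
    have hb₀Wb : ∀ w ∈ ⁅V, A⁆, (b * w * b⁻¹) * b₀ = b₀ * (b * w * b⁻¹) := by
      intro w hw
      have h1 := Subgroup.mem_centralizer_iff.mp hcC w hw
      calc (b * w * b⁻¹) * b₀ = b * (w * (b⁻¹ * b₀ * b)) * b⁻¹ := by group
        _ = b * ((b⁻¹ * b₀ * b) * w) * b⁻¹ := by rw [h1]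
        _ = b₀ * (b * w * b⁻¹) := by group
    -- (iv)
    have hb₀W' : b₀ ∈ Subgroup.centralizer ((⁅V, B⁆ : Subgroup G) : Set G) := by
      rw [Subgroup.mem_centralizer_iff]
      intro u hu
      obtain ⟨w, hw, e⟩ := hsurj b hbB hbW u hu
      rw [← e, commutatorElement_def]
      have c1 := Subgroup.mem_centralizer_iff.mp hb₀W w hw
      have c2 := hb₀Wb w⁻¹ (Subgroup.inv_mem _ hw)
      calc w * b * w⁻¹ * b⁻¹ * b₀ = w * ((b * w⁻¹ * b⁻¹) * b₀) := by group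
        _ = w * (b₀ * (b * w⁻¹ * b⁻¹)) := by rw [c2]
        _ = (w * b₀) * (b * w⁻¹ * b⁻¹) := by group
        _ = (b₀ * w) * (b * w⁻¹ * b⁻¹) := by rw [c1]
        _ = b₀ * (w * b * w⁻¹ * b⁻¹) := by group
    have : b₀ ∈ B ⊓ Subgroup.centralizer ((⁅V, B⁆ : Subgroup G) : Set G) :=
      Subgroup.mem_inf.mpr ⟨hb₀B, hb₀W'⟩
    rw [hB.inf_centralizer_comm hV] at this
    exact this
  -- S7
  have hall : ∀ b₁ ∈ B, b₁ ≠ 1 → cj b₁ ⁅V, A⁆ ≠ ⁅V, A⁆ := by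
    intro b₁ hb₁ hne h
    apply hne
    have : b₁ ∈ B ⊓ Subgroup.normalizer ((⁅V, A⁆ : Subgroup G) : Set G) :=
      Subgroup.mem_inf.mpr ⟨hb₁, mem_normalizer_iff_cj_eq.mpr h⟩
    rw [S6, Subgroup.mem_bot] at this
    exact this
  have heq : ∀ b₁ ∈ B, ∀ b₂ ∈ B, b₁ ≠ 1 → b₂ ≠ 1 → b₁ = b₂ := by
    intro b₁ hb₁ b₂ hb₂ h1 h2
    have h5 := S5 b₁ hb₁ b₂ hb₂ (hall b₁ hb₁ h1) (hall b₂ hb₂ h2)
    have h6 : cj (b₁⁻¹ * b₂) ⁅V, A⁆ = ⁅V, A⁆ := by
      have e1 : cj (b₁⁻¹ * b₂) ⁅V, A⁆ = cj b₁⁻¹ (cj b₂ ⁅V, A⁆) := by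
        unfold cj
        rw [map_conj_map_conj]
      rw [e1, ← h5]
      exact map_conj_inv_map_conj b₁ _
    have : b₁⁻¹ * b₂ ∈ B ⊓ Subgroup.normalizer ((⁅V, A⁆ : Subgroup G) : Set G) :=
      Subgroup.mem_inf.mpr ⟨B.mul_mem (B.inv_mem hb₁) hb₂, mem_normalizer_iff_cj_eq.mpr h6⟩
    rw [S6, Subgroup.mem_bot] at this
    calc b₁ = b₁ * 1 := (mul_one _).symm
      _ = b₁ * (b₁⁻¹ * b₂) := by rw [this]
      _ = b₂ := by group
  have hcardB : Nat.card B ≤ 2 := by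
    have hinj : Function.Injective (fun x : ↥B => decide ((x : G) = 1)) := by
      intro x y hxy
      simp only [decide_eq_decide] at hxy
      by_cases hx : (x : G) = 1
      · have hy := hxy.mp hx
        exact Subtype.ext (hx.trans hy.symm)
      · have hy : (y : G) ≠ 1 := fun h => hx (hxy.mpr h)
        exact Subtype.ext (heq x x.2 y y.2 hx hy)
    have := Nat.card_le_card_of_injective _ hinj
    simpa using this
  have := hB.card
  omega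

theorem pair_main [Finite G] {p : ℕ} [Fact p.Prime] {V : Subgroup G}
    (hV : IsElementaryAbelian p V) : ∀ N : ℕ, PairIH p V N := by
  intro N
  induction N using Nat.strong_induction_on with
  | _ N ih =>
    intro A B hcard hA hB hsA hsB hAB hBA
    have ih' : PairIH p V (Nat.card ↥(A ⊔ B)) := ih _ hcard
    refine ⟨pair_key hV ih' hA hB hsA hsB hAB hBA, ?_⟩
    have e : B ⊔ A = A ⊔ B := sup_comm B A
    have ih'' : PairIH p V (Nat.card ↥(B ⊔ A)) := by rw [e]; exact ih'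
    have hsA' : (A.subgroupOf (B ⊔ A)).IsSubnormal := by rw [e]; exact hsA
    have hsB' : (B.subgroupOf (B ⊔ A)).IsSubnormal := by rw [e]; exact hsB
    exact pair_key hV ih'' hB hA hsB' hsA' hBA hAB

/-- **KS 9.3.5**: two subnormal subgroups of `⟨A, B⟩`, each with trivial `O_p`, of order `> 2` and
irreducible on its commutator module, with incomparable commutator modules, normalize each other's
module. -/
theorem pair_normalizes [Finite G] {p : ℕ} [Fact p.Prime] {V : Subgroup G}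
    (hV : IsElementaryAbelian p V) {A B : Subgroup G} (hA : SPGood p V A) (hB : SPGood p V B)
    (hsA : (A.subgroupOf (A ⊔ B)).IsSubnormal) (hsB : (B.subgroupOf (A ⊔ B)).IsSubnormal)
    (hAB : ¬ ⁅V, A⁆ ≤ ⁅V, B⁆) (hBA : ¬ ⁅V, B⁆ ≤ ⁅V, A⁆) : PairConcl V A B :=
  pair_main hV (Nat.card ↥(A ⊔ B) + 1) A B (Nat.lt_succ_self _) hA hB hsA hsB hAB hBA

end Cfsg.Agent.Lib.Helper10
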