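import Mathlib
import Cfsg.Prelude.Def_Transfer
import Cfsg.Prelude.Def_Local
import Cfsg.Prelude.Def_PLocal
import Cfsg.Agent.Lib.Helper10.FFDecomp
import Cfsg.Agent.Lib.Helper10.SubnPair
import Cfsg.Agent.Lib.Helper30.PPrimeCore
import Cfsg.Agent.Lib.Helper2.FixedPoints
import Cfsg.Agent.Lib.Helper38.SLCard

set_option autoImplicit false
open Cfsg

/-! The structure of KS 9.3.7 in the presence of a coprime group `Y` of operators. -/

namespace Cfsg.Agent.Lib.Helper10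

open scoped commutatorElement

variable {G : Type*} [Group G]

/-- conjugation by an element of `N(H)`, as an automorphism of `H` -/
def conjAut (H : Subgroup G) (x : G) (hx : x ∈ Subgroup.normalizer (H : Set G)) : ↥H ≃* ↥H where
  toFun h := ⟨x * h * x⁻¹, (Subgroup.mem_normalizer_iff.mp hx h).mp h.2⟩
  invFun h := ⟨x⁻¹ * h * x, by
    have := (Subgroup.mem_normalizer_iff.mp (Subgroup.inv_mem _ hx) h).mp h.2
    simpa using this⟩
  left_inv h := by apply Subtype.ext; simp only; group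
  right_inv h := by apply Subtype.ext; simp only; group
  map_mul' a b := by apply Subtype.ext; simp only [Subgroup.coe_mul]; group

@[simp] theorem conjAut_apply_coe (H : Subgroup G) (x : G)
    (hx : x ∈ Subgroup.normalizer (H : Set G)) (h : ↥H) :
    ((conjAut H x hx h : ↥H) : G) = x * h * x⁻¹ := rfl

theorem normalizer_le_normalizer_ffQ (p : ℕ) (H : Subgroup G) :
    Subgroup.normalizer (H : Set G) ≤ Subgroup.normalizer (ffQ p H : Set G) := by
  apply le_normalizer_of_forall_conj_mem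
  rintro x hx _ ⟨e, he, rfl⟩
  have hc : (pPrimeCore p ↥H).Characteristic := Cfsg.Agent.Lib.Helper30.pPrimeCore_characteristic p
  have h1 : conjAut H x hx e ∈ pPrimeCore p ↥H := by
    have := (Subgroup.characteristic_iff_le_comap.mp hc (conjAut H x hx)) he
    exact this
  exact ⟨conjAut H x hx e, h1, rfl⟩

theorem cj_ffQ {p : ℕ} {H : Subgroup G} {y : G} (hy : y ∈ Subgroup.normalizer (H : Set G)) :
    cj y (ffQ p H) = ffQ p H :=
  map_conj_eq_of_mem_normalizer (normalizer_le_normalizer_ffQ p H hy)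

theorem cj_ffE {p : ℕ} {H A : Subgroup G} {y : G} (hy : y ∈ Subgroup.normalizer (H : Set G)) :
    cj y (ffE p H A) = ffE p H (cj y A) := by
  unfold ffE cj
  rw [Subgroup.map_sup, Subgroup.map_commutator]
  have := cj_ffQ (p := p) hy
  unfold cj at this
  rw [this]

/-- conjugates of minimal best offenders under `N(V)` are minimal best offenders -/
theorem isMinBO_cj [Finite G] {p : ℕ} {V A : Subgroup G} (hA : FFHyp.IsMinBO p V A) {x : G}
    (hxV : x ∈ Subgroup.normalizer (V : Set G)) : FFHyp.IsMinBO p V (cj x A) := by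
  have hxV' : x⁻¹ ∈ Subgroup.normalizer (V : Set G) := Subgroup.inv_mem _ hxV
  obtain ⟨hAbo, hA1, hAmin⟩ := hA
  refine ⟨isBestOffenderOn_map_conj hxV hAbo, ?_, ?_⟩
  · intro hcon
    exact hA1 ((Subgroup.map_eq_bot_iff_of_injective A (MulAut.conj x).injective).mp hcon)
  · intro C hCA hC hC1
    have h1 : C.map (MulAut.conj x⁻¹).toMonoidHom ≤ A := by
      have := Subgroup.map_mono (f := (MulAut.conj x⁻¹).toMonoidHom) hCA
      rwa [map_conj_inv_map_conj] at this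
    have h2 := hAmin _ h1 (isBestOffenderOn_map_conj hxV' hC)
      (fun hcon => hC1 ((Subgroup.map_eq_bot_iff_of_injective C (MulAut.conj x⁻¹).injective).mp hcon))
    unfold cj
    rw [← h2, map_conj_map_conj_inv]

/-! ### the norm of an element with pairwise commuting `Y`-conjugates -/

theorem noncommProd_univ_equiv_h10 {ι β : Type*} [Fintype ι] [Monoid β] (σ : ι ≃ ι) (f : ι → β)
    (comm : (↑(Finset.univ : Finset ι) : Set ι).Pairwise (Function.onFun Commute f))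
    (comm' : (↑(Finset.univ : Finset ι) : Set ι).Pairwise (Function.onFun Commute (f ∘ σ))) :
    Finset.univ.noncommProd (f ∘ σ) comm' = Finset.univ.noncommProd f comm := by
  unfold Finset.noncommProd
  congr 1
  rw [← Multiset.map_map]
  congr 1
  have : (Finset.univ : Finset ι).map σ.toEmbedding = Finset.univ := Finset.map_univ_equiv σ
  conv_rhs => rw [← this]
  rfl

/-- `Y`-conjugates of `g` commute pairwise -/
def YComm (Y : Subgroup G) (g : G) : Prop :=
  ∀ y₁ ∈ Y, ∀ y₂ ∈ Y, Commute (y₁ * g * y₁⁻¹) (y₂ * g * y₂⁻¹)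

/-- the product of all `Y`-conjugates of `g` -/
noncomputable def ynorm [Finite G] (Y : Subgroup G) (g : G) (hc : YComm Y g) : G :=
  letI : Fintype ↥Y := Fintype.ofFinite _
  Finset.univ.noncommProd (fun y : ↥Y => (y : G) * g * (y : G)⁻¹)
    (fun a _ b _ _ => hc a a.2 b b.2)

theorem ynorm_mem [Finite G] {Y : Subgroup G} {g : G} (hc : YComm Y g) (K : Subgroup G)
    (h : ∀ y ∈ Y, y * g * y⁻¹ ∈ K) : ynorm Y g hc ∈ K := by
  unfold ynorm
  apply Subgroup.noncommProd_mem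
  intro y _
  exact h y y.2

theorem YComm.conj {Y : Subgroup G} {g : G} (hc : YComm Y g) {d : G}
    (hd : ∀ y ∈ Y, d * y = y * d) : YComm Y (d * g * d⁻¹) := by
  intro y₁ hy₁ y₂ hy₂
  have h1 : y₁ * (d * g * d⁻¹) * y₁⁻¹ = d * (y₁ * g * y₁⁻¹) * d⁻¹ := by
    have := hd y₁ hy₁
    calc y₁ * (d * g * d⁻¹) * y₁⁻¹ = (y₁ * d) * g * (y₁ * d)⁻¹ := by group
      _ = (d * y₁) * g * (d * y₁)⁻¹ := by rw [this]
      _ = d * (y₁ * g * y₁⁻¹) * d⁻¹ := by group
  have h2 : y₂ * (d * g * d⁻¹) * y₂⁻¹ = d * (y₂ * g * y₂⁻¹) * d⁻¹ := by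
    have := hd y₂ hy₂
    calc y₂ * (d * g * d⁻¹) * y₂⁻¹ = (y₂ * d) * g * (y₂ * d)⁻¹ := by group
      _ = (d * y₂) * g * (d * y₂)⁻¹ := by rw [this]
      _ = d * (y₂ * g * y₂⁻¹) * d⁻¹ := by group
  rw [h1, h2]
  have := hc y₁ hy₁ y₂ hy₂
  exact (this.map (MulAut.conj d).toMonoidHom)

/-- an element centralizing `Y` conjugates norms to norms -/
theorem ynorm_conj_of_commute [Finite G] {Y : Subgroup G} {g : G} (hc : YComm Y g) {d : G}
    (hd : ∀ y ∈ Y, d * y = y * d) :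
    d * ynorm Y g hc * d⁻¹ = ynorm Y (d * g * d⁻¹) (hc.conj hd) := by
  unfold ynorm
  letI : Fintype ↥Y := Fintype.ofFinite _
  have := Finset.map_noncommProd (Finset.univ : Finset ↥Y)
    (fun y : ↥Y => (y : G) * g * (y : G)⁻¹) (fun a _ b _ _ => hc a a.2 b b.2)
    (MulAut.conj d).toMonoidHom
  simp only [MulEquiv.coe_toMonoidHom, MulAut.conj_apply] at this
  rw [this]
  apply Finset.noncommProd_congr rfl
  intro y _
  have h1 := hd y y.2
  calc d * ((y : G) * g * (y : G)⁻¹) * d⁻¹ = (d * y) * g * (d * y)⁻¹ := by group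
    _ = (y * d) * g * (y * d)⁻¹ := by rw [h1]
    _ = (y : G) * (d * g * d⁻¹) * (y : G)⁻¹ := by group

/-- the norm is fixed by `Y` -/
theorem ynorm_fixed [Finite G] {Y : Subgroup G} {g : G} (hc : YComm Y g) {y₀ : G} (hy₀ : y₀ ∈ Y) :
    y₀ * ynorm Y g hc * y₀⁻¹ = ynorm Y g hc := by
  unfold ynorm
  letI : Fintype ↥Y := Fintype.ofFinite _
  have := Finset.map_noncommProd (Finset.univ : Finset ↥Y)
    (fun y : ↥Y => (y : G) * g * (y : G)⁻¹) (fun a _ b _ _ => hc a a.2 b b.2)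
    (MulAut.conj y₀).toMonoidHom
  simp only [MulEquiv.coe_toMonoidHom, MulAut.conj_apply] at this
  rw [this]
  have h2 := noncommProd_univ_equiv_h10 (Equiv.mulLeft (⟨y₀, hy₀⟩ : ↥Y))
    (fun y : ↥Y => (y : G) * g * (y : G)⁻¹) (fun a _ b _ _ => hc a a.2 b b.2)
    (fun a _ b _ _ => hc _ (Subgroup.mul_mem _ hy₀ a.2) _ (Subgroup.mul_mem _ hy₀ b.2))
  rw [← h2]
  apply Finset.noncommProd_congr rfl
  intro y _
  simp only [Function.comp_apply, Equiv.coe_mulLeft, Subgroup.coe_mul]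
  group

/-- splitting the norm along a subgroup `Y₁` of `Y` whose elements fix `g` -/
theorem ynorm_split [Finite G] {Y : Subgroup G} {g : G} (hc : YComm Y g) (Y₁ K : Subgroup G)
    (h1 : ∀ y ∈ Y, y ∈ Y₁ → y * g * y⁻¹ = g) (h2 : ∀ y ∈ Y, y ∉ Y₁ → y * g * y⁻¹ ∈ K) :
    ∃ c ∈ K, ynorm Y g hc = g ^ Nat.card ↥(Y₁.subgroupOf Y) * c := by
  classical
  unfold ynorm
  letI : Fintype ↥Y := Fintype.ofFinite _
  have hdisj : Disjoint (Finset.univ.filter (fun y : ↥Y => (y : G) ∈ Y₁))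
      (Finset.univ.filter (fun y : ↥Y => (y : G) ∉ Y₁)) := by
    rw [Finset.disjoint_filter]
    intro y _ hy hny
    exact hny hy
  have hunion : (Finset.univ.filter (fun y : ↥Y => (y : G) ∈ Y₁)) ∪
      (Finset.univ.filter (fun y : ↥Y => (y : G) ∉ Y₁)) = Finset.univ := by
    ext y
    simp only [Finset.mem_union, Finset.mem_filter, Finset.mem_univ, true_and, iff_true]
    exact em _
  have hcomm : (↑((Finset.univ.filter (fun y : ↥Y => (y : G) ∈ Y₁)) ∪
      (Finset.univ.filter (fun y : ↥Y => (y : G) ∉ Y₁))) : Set ↥Y).Pairwise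
      (Function.onFun Commute (fun y : ↥Y => (y : G) * g * (y : G)⁻¹)) :=
    fun a _ b _ _ => hc a a.2 b b.2
  have e1 := Finset.noncommProd_union_of_disjoint hdisj
    (fun y : ↥Y => (y : G) * g * (y : G)⁻¹) hcomm
  have e0 : Finset.univ.noncommProd (fun y : ↥Y => (y : G) * g * (y : G)⁻¹)
      (fun a _ b _ _ => hc a a.2 b b.2) =
      ((Finset.univ.filter (fun y : ↥Y => (y : G) ∈ Y₁)) ∪
      (Finset.univ.filter (fun y : ↥Y => (y : G) ∉ Y₁))).noncommProd
        (fun y : ↥Y => (y : G) * g * (y : G)⁻¹) hcomm :=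
    Finset.noncommProd_congr hunion.symm (fun _ _ => rfl) _
  rw [e0, e1]
  refine ⟨(Finset.univ.filter (fun y : ↥Y => (y : G) ∉ Y₁)).noncommProd
    (fun y : ↥Y => (y : G) * g * (y : G)⁻¹) (fun a _ b _ _ => hc a a.2 b b.2), ?_, ?_⟩
  · apply Subgroup.noncommProd_mem
    intro y hy
    rw [Finset.mem_filter] at hy
    exact h2 y y.2 hy.2
  · congr 1
    rw [Finset.noncommProd_eq_pow_card _ _ _ g]
    · congr 1
      rw [Nat.card_eq_fintype_card, Fintype.card_subtype]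
      rfl
    · intro y hy
      rw [Finset.mem_filter] at hy
      exact h1 y y.2 hy.2

theorem ynorm_one [Finite G] (Y : Subgroup G) (hc : YComm Y (1 : G)) : ynorm Y 1 hc = 1 := by
  unfold ynorm
  letI : Fintype ↥Y := Fintype.ofFinite _
  have := Finset.noncommProd_eq_pow_card (Finset.univ : Finset ↥Y)
    (fun y : ↥Y => (y : G) * 1 * (y : G)⁻¹) (fun a _ b _ _ => hc a a.2 b b.2) 1
    (fun y _ => by simp)
  rw [one_pow] at this
  exact this

theorem ynorm_mul [Finite G] {Y : Subgroup G} {g₁ g₂ : G} (h₁ : YComm Y g₁) (h₂ : YComm Y g₂)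
    (h₁₂ : YComm Y (g₁ * g₂))
    (hx : ∀ y₁ ∈ Y, ∀ y₂ ∈ Y, Commute (y₁ * g₂ * y₁⁻¹) (y₂ * g₁ * y₂⁻¹)) :
    ynorm Y (g₁ * g₂) h₁₂ = ynorm Y g₁ h₁ * ynorm Y g₂ h₂ := by
  unfold ynorm
  letI : Fintype ↥Y := Fintype.ofFinite _
  rw [← Finset.noncommProd_mul_distrib (fun y : ↥Y => (y : G) * g₁ * (y : G)⁻¹)
    (fun y : ↥Y => (y : G) * g₂ * (y : G)⁻¹) (fun a _ b _ _ => h₁ a a.2 b b.2)
    (fun a _ b _ _ => h₂ a a.2 b b.2) (fun a _ b _ _ => hx a a.2 b b.2)]
  apply Finset.noncommProd_congr rfl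
  intro y _
  simp only [Pi.mul_apply]
  group

/-! ### the operator context -/

/-- KS 9.3 hypotheses for `(V, H)`, with `H` generated by best offenders, together with a `q`-group
`Y` of operators of order prime to `|H|`. -/
structure FFOp (p q : ℕ) (V H Y : Subgroup G) : Prop where
  ff : FFHyp p V H
  gen : H = ⨆ A : {A : Subgroup G // A ≤ H ∧ IsBestOffenderOn p V A}, (A : Subgroup G)
  normV : Y ≤ Subgroup.normalizer (V : Set G)
  normH : Y ≤ Subgroup.normalizer (H : Set G)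
  qgrp : IsPGroup q Y
  cop : ¬ q ∣ Nat.card H

namespace FFOp

variable {p q : ℕ} {V H Y : Subgroup G} (c : FFOp p q V H Y)
include c

theorem cj_le_H {A : Subgroup G} (hAH : A ≤ H) {y : G} (hy : y ∈ Y) : cj y A ≤ H := by
  have h1 : cj y A ≤ cj y H := Subgroup.map_mono hAH
  have h2 : cj y H = H := map_conj_eq_of_mem_normalizer (c.normH hy)
  rwa [h2] at h1

theorem not_dvd_card_ffE [Finite G] {A : Subgroup G} (hAH : A ≤ H) :
    ¬ q ∣ Nat.card ↥(ffE p H A) := fun h =>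
  c.cop (dvd_trans h (Subgroup.card_dvd_of_le (FFHyp.ffE_le hAH)))

theorem q_ne [Finite G] [Fact p.Prime] {A : Subgroup G} (hAH : A ≤ H)
    (hA : FFHyp.IsMinBO p V A) : q ≠ 2 ∧ q ≠ 3 := by
  obtain ⟨hp23, ⟨e⟩, -⟩ := c.ff.ffE_facts hAH hA
  have hcard : Nat.card ↥(ffE p H A) = p * (p ^ 2 - 1) := by
    rw [Nat.card_congr e.toEquiv, Cfsg.Agent.Lib.Helper38.card_SL2, ZMod.card]
  have hnd := c.not_dvd_card_ffE hAH (A := A)
  rw [hcard] at hnd
  constructor
  · rintro rfl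
    apply hnd
    rcases hp23 with rfl | rfl <;> norm_num
  · rintro rfl
    apply hnd
    rcases hp23 with rfl | rfl <;> norm_num

/-- an element of `Y` normalizing `E` centralizes `[V, E]` and `E` -/
theorem cent_of_stab [Finite G] [Fact p.Prime] [Fact q.Prime] {A : Subgroup G} (hAH : A ≤ H)
    (hA : FFHyp.IsMinBO p V A) {y : G} (hy : y ∈ Y) (hst : cj y (ffE p H A) = ffE p H A) :
    y ∈ Subgroup.centralizer ((⁅V, ffE p H A⁆ : Subgroup G) : Set G) ∧
      y ∈ Subgroup.centralizer (ffE p H A : Set G) := by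
  have hp : p.Prime := Fact.out
  have hq : q.Prime := Fact.out
  obtain ⟨hq2, hq3⟩ := c.q_ne hAH hA
  obtain ⟨hp23, -, hcardW, hfaithE, -⟩ := c.ff.ffE_facts hAH hA
  have hyV := c.normV hy
  have hyW : y ∈ Subgroup.normalizer ((⁅V, ffE p H A⁆ : Subgroup G) : Set G) := by
    rw [mem_normalizer_iff_cj_eq, cj_commutator hyV, hst]
  obtain ⟨k, hk⟩ : ∃ k : ℕ, y ^ (q ^ k) = 1 := by
    obtain ⟨k, hk⟩ := c.qgrp ⟨y, hy⟩
    exact ⟨k, by simpa using congrArg Subtype.val hk⟩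
  have hmod := Cfsg.Agent.Lib.Helper2.card_modEq_card_inf_centralizer ⁅V, ffE p H A⁆ y hyW hk
  have hdvd : Nat.card ↥(⁅V, ffE p H A⁆ ⊓ Subgroup.centralizer {y} : Subgroup G) ∣ p ^ 2 := by
    rw [← hcardW]
    exact Subgroup.card_dvd_of_le inf_le_left
  obtain ⟨i, hi, hci⟩ := (Nat.dvd_prime_pow hp).mp hdvd
  rw [hcardW, hci] at hmod
  have hi2 : i = 2 := by
    by_contra hne
    have hi' : i = 0 ∨ i = 1 := by omega
    rcases hp23 with rfl | rfl
    · rcases hi' with rfl | rfl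
      · have h1 : q ∣ 2 ^ 2 - 2 ^ 0 := (Nat.modEq_iff_dvd' (by norm_num)).mp hmod.symm
        have h2 : q ∣ 3 := by simpa using h1
        exact hq3 ((Nat.prime_dvd_prime_iff_eq hq Nat.prime_three).mp h2)
      · have h1 : q ∣ 2 ^ 2 - 2 ^ 1 := (Nat.modEq_iff_dvd' (by norm_num)).mp hmod.symm
        have h2 : q ∣ 2 := by simpa using h1
        exact hq2 ((Nat.prime_dvd_prime_iff_eq hq Nat.prime_two).mp h2)
    · rcases hi' with rfl | rfl
      · have h1 : q ∣ 3 ^ 2 - 3 ^ 0 := (Nat.modEq_iff_dvd' (by norm_num)).mp hmod.symm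
        have h2 : q ∣ 2 ^ 3 := by
          have : (3 : ℕ) ^ 2 - 3 ^ 0 = 2 ^ 3 := by norm_num
          rwa [this] at h1
        exact hq2 ((Nat.prime_dvd_prime_iff_eq hq Nat.prime_two).mp (hq.dvd_of_dvd_pow h2))
      · have h1 : q ∣ 3 ^ 2 - 3 ^ 1 := (Nat.modEq_iff_dvd' (by norm_num)).mp hmod.symm
        have h2 : q ∣ 2 * 3 := by
          have : (3 : ℕ) ^ 2 - 3 ^ 1 = 2 * 3 := by norm_num
          rwa [this] at h1
        rcases (Nat.Prime.dvd_mul hq).mp h2 with h3 | h3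
        · exact hq2 ((Nat.prime_dvd_prime_iff_eq hq Nat.prime_two).mp h3)
        · exact hq3 ((Nat.prime_dvd_prime_iff_eq hq Nat.prime_three).mp h3)
  rw [hi2] at hci
  have heq : ⁅V, ffE p H A⁆ ⊓ Subgroup.centralizer {y} = ⁅V, ffE p H A⁆ :=
    Subgroup.eq_of_le_of_card_ge inf_le_left (by rw [hci, hcardW])
  have hyC : y ∈ Subgroup.centralizer ((⁅V, ffE p H A⁆ : Subgroup G) : Set G) := by
    rw [Subgroup.mem_centralizer_iff]
    intro w hw
    rw [← heq] at hw
    have := Subgroup.mem_centralizer_iff.mp (Subgroup.mem_inf.mp hw).2 y rfl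
    exact this.symm
  refine ⟨hyC, ?_⟩
  rw [Subgroup.mem_centralizer_iff]
  intro e he
  have hEN : ffE p H A ≤ Subgroup.normalizer ((⁅V, ffE p H A⁆ : Subgroup G) : Set G) :=
    Subgroup.normalizer_commutator_ge_right V _
  have h1 : e * y⁻¹ * e⁻¹ ∈ Subgroup.centralizer ((⁅V, ffE p H A⁆ : Subgroup G) : Set G) :=
    (Subgroup.mem_normalizer_iff.mp (normalizer_le_normalizer_centralizer _ (hEN he)) _).mp
      (Subgroup.inv_mem _ hyC)
  have h2 : y * (e * y⁻¹ * e⁻¹) ∈ Subgroup.centralizer ((⁅V, ffE p H A⁆ : Subgroup G) : Set G) :=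
    Subgroup.mul_mem _ hyC h1
  have h3 : y * (e * y⁻¹ * e⁻¹) ∈ ffE p H A := by
    have h4 : y * e * y⁻¹ ∈ cj y (ffE p H A) := conj_mem_cj he y
    rw [hst] at h4
    have e1 : y * (e * y⁻¹ * e⁻¹) = (y * e * y⁻¹) * e⁻¹ := by group
    rw [e1]
    exact Subgroup.mul_mem _ h4 (Subgroup.inv_mem _ he)
  have h5 : y * (e * y⁻¹ * e⁻¹) ∈
      ffE p H A ⊓ Subgroup.centralizer ((⁅V, ffE p H A⁆ : Subgroup G) : Set G) :=
    Subgroup.mem_inf.mpr ⟨h3, h2⟩
  rw [hfaithE, Subgroup.mem_bot] at h5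
  calc e * y = (y * (e * y⁻¹ * e⁻¹))⁻¹ * (y * e) := by group
    _ = y * e := by rw [h5]; group

/-- an element of `Y` moving `E` moves it into `C_H([V, E])` -/
theorem cj_le_K [Finite G] [Fact p.Prime] {A : Subgroup G} (hAH : A ≤ H)
    (hA : FFHyp.IsMinBO p V A) {y : G} (hy : y ∈ Y) (hne : cj y (ffE p H A) ≠ ffE p H A) :
    cj y (ffE p H A) ≤
      H ⊓ Subgroup.centralizer ((⁅V, ffE p H A⁆ : Subgroup G) : Set G) := by
  rw [cj_ffE (c.normH hy)] at hne ⊢
  exact c.ff.ffE_le_centralizer_of_ne hAH hA (c.cj_le_H hAH hy) (isMinBO_cj hA (c.normV hy))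
    (Ne.symm hne)

/-- `C_H([V, E])` centralizes `E` -/
theorem commute_E_K [Finite G] [Fact p.Prime] {A : Subgroup G} (hAH : A ≤ H)
    (hA : FFHyp.IsMinBO p V A) {e k : G} (he : e ∈ ffE p H A)
    (hk : k ∈ H ⊓ Subgroup.centralizer ((⁅V, ffE p H A⁆ : Subgroup G) : Set G)) :
    e * k = k * e := by
  obtain ⟨-, h2, -⟩ := c.ff.ffE_direct_factor c.gen hAH hA
  rw [Subgroup.commutator_eq_bot_iff_le_centralizer] at h2
  have := Subgroup.mem_centralizer_iff.mp (h2 he) k hk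
  exact this.symm

theorem ycomm_E [Finite G] [Fact p.Prime] [Fact q.Prime] {A : Subgroup G} (hAH : A ≤ H)
    (hA : FFHyp.IsMinBO p V A) {e : G} (he : e ∈ ffE p H A) : YComm Y e := by
  intro y₁ hy₁ y₂ hy₂
  have hy : y₂⁻¹ * y₁ ∈ Y := Y.mul_mem (Y.inv_mem hy₂) hy₁
  have e1 : y₁ * e * y₁⁻¹ = y₂ * ((y₂⁻¹ * y₁) * e * (y₂⁻¹ * y₁)⁻¹) * y₂⁻¹ := by group
  by_cases hst : cj (y₂⁻¹ * y₁) (ffE p H A) = ffE p H A
  · obtain ⟨-, hC⟩ := c.cent_of_stab hAH hA hy hst
    have h1 := Subgroup.mem_centralizer_iff.mp hC e he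
    have h2 : (y₂⁻¹ * y₁) * e * (y₂⁻¹ * y₁)⁻¹ = e := by
      calc (y₂⁻¹ * y₁) * e * (y₂⁻¹ * y₁)⁻¹ = (e * (y₂⁻¹ * y₁)) * (y₂⁻¹ * y₁)⁻¹ := by rw [h1]
        _ = e := by group
    rw [e1, h2]
  · have h1 : (y₂⁻¹ * y₁) * e * (y₂⁻¹ * y₁)⁻¹ ∈
        H ⊓ Subgroup.centralizer ((⁅V, ffE p H A⁆ : Subgroup G) : Set G) :=
      c.cj_le_K hAH hA hy hst (conj_mem_cj he _)
    have h2 : Commute ((y₂⁻¹ * y₁) * e * (y₂⁻¹ * y₁)⁻¹) e :=
      (c.commute_E_K hAH hA he h1).symm
    rw [e1]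
    exact h2.map (MulAut.conj y₂).toMonoidHom

/-- every element of `E` is congruent modulo `C_H([V, E])` to a `Y`-fixed element of `H` -/
theorem exists_fixed_congr [Finite G] [Fact p.Prime] [Fact q.Prime] {A : Subgroup G}
    (hAH : A ≤ H) (hA : FFHyp.IsMinBO p V A) {e : G} (he : e ∈ ffE p H A) :
    ∃ d ∈ H ⊓ Subgroup.centralizer (Y : Set G),
      e⁻¹ * d ∈ H ⊓ Subgroup.centralizer ((⁅V, ffE p H A⁆ : Subgroup G) : Set G) := by
  have hq : q.Prime := Fact.out
  -- the order of the stabilizer is a power of `q`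
  obtain ⟨j, hj⟩ : ∃ j : ℕ, Nat.card ↥((Subgroup.normalizer (ffE p H A : Set G)).subgroupOf Y) =
      q ^ j := IsPGroup.iff_card.mp (c.qgrp.to_subgroup _)
  have hcop : (Nat.card ↥(ffE p H A)).Coprime
      (Nat.card ↥((Subgroup.normalizer (ffE p H A : Set G)).subgroupOf Y)) := by
    rw [hj]
    apply Nat.Coprime.pow_right
    exact ((Nat.Prime.coprime_iff_not_dvd hq).mpr (c.not_dvd_card_ffE hAH)).symm
  obtain ⟨e', he'⟩ := (powCoprime hcop).surjective ⟨e, he⟩
  have he'm : (e' : G) ^ Nat.card ↥((Subgroup.normalizer (ffE p H A : Set G)).subgroupOf Y) = e := by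
    have := congrArg Subtype.val he'
    simpa using this
  have hc := c.ycomm_E hAH hA e'.2
  obtain ⟨c₀, hc₀, hsplit⟩ := ynorm_split hc (Subgroup.normalizer (ffE p H A : Set G))
    (H ⊓ Subgroup.centralizer ((⁅V, ffE p H A⁆ : Subgroup G) : Set G))
    (by
      intro y hy hyN
      obtain ⟨-, hC⟩ := c.cent_of_stab hAH hA hy (mem_normalizer_iff_cj_eq.mp hyN)
      have h1 := Subgroup.mem_centralizer_iff.mp hC e' e'.2
      calc y * (e' : G) * y⁻¹ = ((e' : G) * y) * y⁻¹ := by rw [h1]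
        _ = e' := by group)
    (by
      intro y hy hyN
      have hne : cj y (ffE p H A) ≠ ffE p H A := fun h => hyN (mem_normalizer_iff_cj_eq.mpr h)
      exact c.cj_le_K hAH hA hy hne (conj_mem_cj e'.2 y))
  refine ⟨ynorm Y e' hc, Subgroup.mem_inf.mpr ⟨?_, ?_⟩, ?_⟩
  · apply ynorm_mem
    intro y hy
    exact c.cj_le_H (FFHyp.ffE_le hAH) hy (conj_mem_cj e'.2 y)
  · rw [Subgroup.mem_centralizer_iff]
    intro y hy
    have := ynorm_fixed hc hy
    calc y * ynorm Y e' hc = (y * ynorm Y e' hc * y⁻¹) * y := by group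
      _ = ynorm Y e' hc * y := by rw [this]
  · rw [hsplit, he'm]
    have : e⁻¹ * (e * c₀) = c₀ := by group
    rw [this]
    exact hc₀

/-- `H` normalizes `E` -/
theorem le_normalizer_ffE [Finite G] [Fact p.Prime] {A : Subgroup G} (hAH : A ≤ H)
    (hA : FFHyp.IsMinBO p V A) : H ≤ Subgroup.normalizer (ffE p H A : Set G) := by
  obtain ⟨-, -, -, hsup, -⟩ := c.ff.ffE_direct_factor c.gen hAH hA
  have h1 : ffE p H A ⊔ (H ⊓ Subgroup.centralizer ((⁅V, ffE p H A⁆ : Subgroup G) : Set G)) ≤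
      Subgroup.normalizer (ffE p H A : Set G) := by
    apply sup_le Subgroup.le_normalizer
    refine le_trans ?_ (Subgroup.centralizer_le_normalizer _)
    intro k hk
    rw [Subgroup.mem_centralizer_iff]
    intro e he
    exact c.commute_E_K hAH hA he hk
  rwa [hsup] at h1

/-- the core of the generation statement: a minimal best offender one of whose `H`-conjugates lies
in `L'` lies in `L'`, provided `L'` contains the `Y`-fixed points of `H`. -/
theorem minBO_le_of_conj_le [Finite G] [Fact p.Prime] [Fact q.Prime] {A : Subgroup G} (hAH : A ≤ H)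
    (hA : FFHyp.IsMinBO p V A) {L' : Subgroup G}
    (hL : H ⊓ Subgroup.centralizer (Y : Set G) ≤ L') {h : G} (hh : h ∈ H)
    (hconj : cj h⁻¹ A ≤ L') : A ≤ L' := by
  obtain ⟨-, -, -, hsup, -⟩ := c.ff.ffE_direct_factor c.gen hAH hA
  have hh' : h ∈ ffE p H A ⊔
      (H ⊓ Subgroup.centralizer ((⁅V, ffE p H A⁆ : Subgroup G) : Set G)) := by rw [hsup]; exact hh
  obtain ⟨e, he, k, hk, rfl⟩ := exists_mul_of_mem_sup_comm
    (fun x hx y hy => c.commute_E_K hAH hA hx hy) hh'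
  obtain ⟨d, hd, hdK⟩ := c.exists_fixed_congr hAH hA he
  have hk'' : (e⁻¹ * d)⁻¹ * k ∈
      H ⊓ Subgroup.centralizer ((⁅V, ffE p H A⁆ : Subgroup G) : Set G) :=
    Subgroup.mul_mem _ (Subgroup.inv_mem _ hdK) hk
  have hek : e * k = d * ((e⁻¹ * d)⁻¹ * k) := by group
  have hNE := c.le_normalizer_ffE hAH hA
  intro a ha
  have ha₀ : (e * k)⁻¹ * a * (e * k) ∈ cj (e * k)⁻¹ A := by
    have := conj_mem_cj ha (e * k)⁻¹
    rwa [inv_inv] at this
  have ha₀E : (e * k)⁻¹ * a * (e * k) ∈ ffE p H A := by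
    have h1 : (e * k)⁻¹ ∈ Subgroup.normalizer (ffE p H A : Set G) :=
      hNE (H.inv_mem hh)
    have h2 := (Subgroup.mem_normalizer_iff.mp h1 a).mp (le_ffE p H A ha)
    rwa [inv_inv] at h2
  have hcomm := c.commute_E_K hAH hA ha₀E hk''
  have e1 : a = d * ((e * k)⁻¹ * a * (e * k)) * d⁻¹ := by
    calc a = (e * k) * ((e * k)⁻¹ * a * (e * k)) * (e * k)⁻¹ := by group
      _ = d * (((e⁻¹ * d)⁻¹ * k) * ((e * k)⁻¹ * a * (e * k))) * ((e⁻¹ * d)⁻¹ * k)⁻¹ * d⁻¹ := by
        rw [hek]; group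
      _ = d * (((e * k)⁻¹ * a * (e * k)) * ((e⁻¹ * d)⁻¹ * k)) * ((e⁻¹ * d)⁻¹ * k)⁻¹ * d⁻¹ := by
        rw [hcomm]
      _ = d * ((e * k)⁻¹ * a * (e * k)) * d⁻¹ := by group
  rw [e1]
  exact L'.mul_mem (L'.mul_mem (hL hd) (hconj ha₀)) (L'.inv_mem (hL hd))

theorem ycomm_V (hVc : ∀ x ∈ V, ∀ y ∈ V, x * y = y * x) {w : G} (hw : w ∈ V) : YComm Y w := by
  intro y₁ hy₁ y₂ hy₂
  have h1 : y₁ * w * y₁⁻¹ ∈ V := (Subgroup.mem_normalizer_iff.mp (c.normV hy₁) w).mp hw
  have h2 : y₂ * w * y₂⁻¹ ∈ V := (Subgroup.mem_normalizer_iff.mp (c.normV hy₂) w).mp hw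
  exact hVc _ h1 _ h2

/-- the norm map on `[V, E]` -/
noncomputable def normHom [Finite G] (hVc : ∀ x ∈ V, ∀ y ∈ V, x * y = y * x) (W : Subgroup G)
    (hWV : W ≤ V) : ↥W →* G where
  toFun w := ynorm Y (w : G) (c.ycomm_V hVc (hWV w.2))
  map_one' := ynorm_one Y _
  map_mul' w₁ w₂ := by
    apply ynorm_mul
    intro y₁ hy₁ y₂ hy₂
    have h1 : y₁ * (w₂ : G) * y₁⁻¹ ∈ V :=
      (Subgroup.mem_normalizer_iff.mp (c.normV hy₁) _).mp (hWV w₂.2)
    have h2 : y₂ * (w₁ : G) * y₂⁻¹ ∈ V :=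
      (Subgroup.mem_normalizer_iff.mp (c.normV hy₂) _).mp (hWV w₁.2)
    exact hVc _ h1 _ h2

/-- the abstract form of the fixed-point statement: the `Y`-fixed points of `H` induce `SL₂(p)` on
a `Y`-fixed subgroup of `V` of order `p²`. -/
theorem exists_sl2_fixed [Finite G] [Fact p.Prime] [Fact q.Prime] {A : Subgroup G} (hAH : A ≤ H)
    (hA : FFHyp.IsMinBO p V A) :
    ∃ W₀ : Subgroup G, W₀ ≤ V ⊓ Subgroup.centralizer (Y : Set G) ∧ Nat.card W₀ = p ^ 2 ∧
      H ⊓ Subgroup.centralizer (Y : Set G) ≤ Subgroup.normalizer (W₀ : Set G) ∧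
      ∃ _hn : ((Subgroup.centralizer (W₀ : Set G)).subgroupOf
          (H ⊓ Subgroup.centralizer (Y : Set G))).Normal,
        Nonempty (↥(H ⊓ Subgroup.centralizer (Y : Set G)) ⧸
          (Subgroup.centralizer (W₀ : Set G)).subgroupOf (H ⊓ Subgroup.centralizer (Y : Set G)) ≃*
          Matrix.SpecialLinearGroup (Fin 2) (ZMod p)) := by
  have hp : p.Prime := Fact.out
  have hq : q.Prime := Fact.out
  have hVc := elemAb_comm c.ff.elem
  obtain ⟨-, ⟨eSL⟩, hcardW, -, -, -, hWCE, -⟩ := c.ff.ffE_facts hAH hA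
  obtain ⟨-, -, hEK, hsup, -⟩ := c.ff.ffE_direct_factor c.gen hAH hA
  have hNE := c.le_normalizer_ffE hAH hA
  have hWV : ⁅V, ffE p H A⁆ ≤ V :=
    Cfsg.Agent.Lib.Helper24.commutator_le_of_le_normalizer V _
      ((FFHyp.ffE_le hAH).trans c.ff.norm)
  have hHNW : H ≤ Subgroup.normalizer ((⁅V, ffE p H A⁆ : Subgroup G) : Set G) :=
    le_normalizer_commutator_of_le c.ff.norm hNE
  -- stabilizer order
  obtain ⟨j, hj⟩ : ∃ j : ℕ, Nat.card ↥((Subgroup.normalizer (ffE p H A : Set G)).subgroupOf Y) =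
      q ^ j := IsPGroup.iff_card.mp (c.qgrp.to_subgroup _)
  -- the split of a norm of `w ∈ [V, E]`
  have hsplit : ∀ w : ↥(⁅V, ffE p H A⁆), ∃ c₀ ∈ V ⊓ Subgroup.centralizer (ffE p H A : Set G),
      c.normHom hVc _ hWV w = (w : G) ^ q ^ j * c₀ := by
    intro w
    have := ynorm_split (c.ycomm_V hVc (hWV w.2)) (Subgroup.normalizer (ffE p H A : Set G))
      (V ⊓ Subgroup.centralizer (ffE p H A : Set G))
      (by
        intro y hy hyN
        obtain ⟨hC, -⟩ := c.cent_of_stab hAH hA hy (mem_normalizer_iff_cj_eq.mp hyN)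
        have h1 := Subgroup.mem_centralizer_iff.mp hC w w.2
        calc y * (w : G) * y⁻¹ = ((w : G) * y) * y⁻¹ := by rw [h1]
          _ = w := by group)
      (by
        intro y hy hyN
        have hne : cj y (ffE p H A) ≠ ffE p H A := fun h => hyN (mem_normalizer_iff_cj_eq.mpr h)
        refine Subgroup.mem_inf.mpr
          ⟨(Subgroup.mem_normalizer_iff.mp (c.normV hy) _).mp (hWV w.2), ?_⟩
        -- `E ≤ C([V, E^y])`
        have hne' : ffE p H (cj y A) ≠ ffE p H A := by rw [← cj_ffE (c.normH hy)]; exact hne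
        have h1 := c.ff.ffE_le_centralizer_of_ne (c.cj_le_H hAH hy)
          (isMinBO_cj hA (c.normV hy)) hAH hA hne'
        have h2 : y * (w : G) * y⁻¹ ∈ ⁅V, ffE p H (cj y A)⁆ := by
          rw [← cj_ffE (c.normH hy), ← cj_commutator (c.normV hy)]
          exact conj_mem_cj w.2 y
        rw [Subgroup.mem_centralizer_iff]
        intro e he
        have := Subgroup.mem_centralizer_iff.mp (h1 he).2 _ h2
        exact this.symm)
    rw [hj] at this
    exact this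
  -- injectivity
  have hinj : Function.Injective (c.normHom hVc _ hWV) := by
    rw [injective_iff_map_eq_one]
    intro w hw
    obtain ⟨c₀, hc₀, e1⟩ := hsplit w
    rw [hw] at e1
    have h1 : (w : G) ^ q ^ j = c₀⁻¹ := by
      calc (w : G) ^ q ^ j = ((w : G) ^ q ^ j * c₀) * c₀⁻¹ := by group
        _ = c₀⁻¹ := by rw [← e1, one_mul]
    have h2 : (w : G) ^ q ^ j ∈ ⁅V, ffE p H A⁆ ⊓ Subgroup.centralizer (ffE p H A : Set G) := by
      refine Subgroup.mem_inf.mpr ⟨Subgroup.pow_mem _ w.2 _, ?_⟩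
      rw [h1]
      exact Subgroup.inv_mem _ (Subgroup.mem_inf.mp hc₀).2
    rw [hWCE, Subgroup.mem_bot] at h2
    have h3 : (w : G) ^ p = 1 := c.ff.elem.2 _ (hWV w.2)
    have h4 : orderOf (w : G) ∣ Nat.gcd (q ^ j) p :=
      Nat.dvd_gcd (orderOf_dvd_of_pow_eq_one h2) (orderOf_dvd_of_pow_eq_one h3)
    have hpq : p ≠ q := by
      rintro rfl
      apply c.cop
      have h5 : Nat.card A = p := (c.ff.isMinBO_card hAH hA).1
      rw [← h5]
      exact Subgroup.card_dvd_of_le hAH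
    have h5 : Nat.gcd (q ^ j) p = 1 :=
      Nat.Coprime.pow_left _ ((Nat.coprime_primes hq hp).mpr (Ne.symm hpq))
    rw [h5, Nat.dvd_one, orderOf_eq_one_iff] at h4
    exact Subtype.ext h4
  -- conjugation by fixed elements
  have hconj : ∀ d ∈ H ⊓ Subgroup.centralizer (Y : Set G), ∀ w : ↥(⁅V, ffE p H A⁆),
      ∃ hw' : d * (w : G) * d⁻¹ ∈ ⁅V, ffE p H A⁆,
        d * c.normHom hVc _ hWV w * d⁻¹ = c.normHom hVc _ hWV ⟨d * (w : G) * d⁻¹, hw'⟩ := by
    intro d hd w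
    obtain ⟨hdH, hdY⟩ := Subgroup.mem_inf.mp hd
    have hw' : d * (w : G) * d⁻¹ ∈ ⁅V, ffE p H A⁆ :=
      (Subgroup.mem_normalizer_iff.mp (hHNW hdH) _).mp w.2
    refine ⟨hw', ?_⟩
    have hdy : ∀ y ∈ Y, d * y = y * d := fun y hy =>
      (Subgroup.mem_centralizer_iff.mp hdY y hy).symm
    exact ynorm_conj_of_commute (c.ycomm_V hVc (hWV w.2)) hdy
  -- the centralizer condition
  have hcent : ∀ d ∈ H ⊓ Subgroup.centralizer (Y : Set G),
      (d ∈ Subgroup.centralizer (((c.normHom hVc _ hWV).range : Subgroup G) : Set G) ↔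
        d ∈ Subgroup.centralizer ((⁅V, ffE p H A⁆ : Subgroup G) : Set G)) := by
    intro d hd
    constructor
    · intro hdC
      rw [Subgroup.mem_centralizer_iff]
      intro w hw
      obtain ⟨hw', e1⟩ := hconj d hd ⟨w, hw⟩
      have h1 := Subgroup.mem_centralizer_iff.mp hdC _ ⟨⟨w, hw⟩, rfl⟩
      have h2 : d * c.normHom hVc _ hWV ⟨w, hw⟩ * d⁻¹ = c.normHom hVc _ hWV ⟨w, hw⟩ := by
        rw [← h1]; group
      rw [h2] at e1
      have h3 := congrArg Subtype.val (hinj e1)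
      simp only at h3
      calc w * d = (d * w * d⁻¹) * d := by rw [← h3]
        _ = d * w := by group
    · intro hdC
      rw [Subgroup.mem_centralizer_iff]
      rintro _ ⟨w, rfl⟩
      obtain ⟨hw', e1⟩ := hconj d hd w
      have h1 := Subgroup.mem_centralizer_iff.mp hdC w w.2
      have h2 : (⟨d * (w : G) * d⁻¹, hw'⟩ : ↥(⁅V, ffE p H A⁆)) = w := by
        apply Subtype.ext
        simp only
        calc d * (w : G) * d⁻¹ = ((w : G) * d) * d⁻¹ := by rw [h1]
          _ = w := by group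
      rw [h2] at e1
      calc c.normHom hVc _ hWV w * d = (d * c.normHom hVc _ hWV w * d⁻¹) * d := by rw [e1]
        _ = d * c.normHom hVc _ hWV w := by group
  refine ⟨(c.normHom hVc _ hWV).range, ?_, ?_, ?_, ?_⟩
  · rintro _ ⟨w, rfl⟩
    refine Subgroup.mem_inf.mpr ⟨?_, ?_⟩
    · exact ynorm_mem (c.ycomm_V hVc (hWV w.2)) V (fun y hy =>
        (Subgroup.mem_normalizer_iff.mp (c.normV hy) _).mp (hWV w.2))
    · rw [Subgroup.mem_centralizer_iff]
      intro y hy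
      have := ynorm_fixed (c.ycomm_V hVc (hWV w.2)) hy
      change y * ynorm Y (w : G) (c.ycomm_V hVc (hWV w.2)) =
        ynorm Y (w : G) (c.ycomm_V hVc (hWV w.2)) * y
      calc y * ynorm Y (w : G) (c.ycomm_V hVc (hWV w.2))
          = (y * ynorm Y (w : G) (c.ycomm_V hVc (hWV w.2)) * y⁻¹) * y := by group
        _ = ynorm Y (w : G) (c.ycomm_V hVc (hWV w.2)) * y := by rw [this]
  · rw [← Nat.card_congr (MonoidHom.ofInjective hinj).toEquiv, hcardW]
  · apply le_normalizer_of_forall_conj_mem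
    rintro d hd _ ⟨w, rfl⟩
    obtain ⟨hw', e1⟩ := hconj d hd w
    rw [e1]
    exact ⟨_, rfl⟩
  · -- the isomorphism
    haveI hKn : ((H ⊓ Subgroup.centralizer ((⁅V, ffE p H A⁆ : Subgroup G) : Set G)).subgroupOf
        H).Normal := by
      refine ⟨fun n hn g => ?_⟩
      rw [Subgroup.mem_subgroupOf] at hn ⊢
      refine Subgroup.mem_inf.mpr ⟨(g * n * g⁻¹).2, ?_⟩
      have h1 := normalizer_le_normalizer_centralizer _ (hHNW g.2)
      have := (Subgroup.mem_normalizer_iff.mp h1 _).mp (Subgroup.mem_inf.mp hn).2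
      simpa using this
    let φ₁ : ↥(H ⊓ Subgroup.centralizer (Y : Set G)) →* ↥H ⧸
        (H ⊓ Subgroup.centralizer ((⁅V, ffE p H A⁆ : Subgroup G) : Set G)).subgroupOf H :=
      (QuotientGroup.mk' _).comp (Subgroup.inclusion inf_le_left)
    let φ₂ : ↥(ffE p H A) →* ↥H ⧸
        (H ⊓ Subgroup.centralizer ((⁅V, ffE p H A⁆ : Subgroup G) : Set G)).subgroupOf H :=
      (QuotientGroup.mk' _).comp (Subgroup.inclusion (FFHyp.ffE_le hAH))
    -- every class is represented by an element of `E`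
    have hrep : ∀ x : ↥H, ∃ e : ↥(ffE p H A), φ₂ e = QuotientGroup.mk x := by
      intro x
      have hx : (x : G) ∈ ffE p H A ⊔
          (H ⊓ Subgroup.centralizer ((⁅V, ffE p H A⁆ : Subgroup G) : Set G)) := by
        rw [hsup]; exact x.2
      obtain ⟨e, he, k, hk, hxe⟩ := exists_mul_of_mem_sup_comm
        (fun x hx y hy => c.commute_E_K hAH hA hx hy) hx
      refine ⟨⟨e, he⟩, ?_⟩
      change QuotientGroup.mk _ = QuotientGroup.mk x
      rw [QuotientGroup.eq, Subgroup.mem_subgroupOf]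
      have : ((Subgroup.inclusion (FFHyp.ffE_le hAH) ⟨e, he⟩)⁻¹ * x : ↥H).1 = k := by
        simp only [Subgroup.coe_mul, Subgroup.coe_inv, Subgroup.coe_inclusion]
        rw [hxe]; group
      rw [this]
      exact hk
    have hφ₂ : Function.Bijective φ₂ := by
      constructor
      · rw [injective_iff_map_eq_one]
        intro e he
        have h1 : (Subgroup.inclusion (FFHyp.ffE_le hAH) e) ∈
            (H ⊓ Subgroup.centralizer ((⁅V, ffE p H A⁆ : Subgroup G) : Set G)).subgroupOf H :=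
          (QuotientGroup.eq_one_iff _).mp he
        rw [Subgroup.mem_subgroupOf] at h1
        have h2 : (e : G) ∈ ffE p H A ⊓
            (H ⊓ Subgroup.centralizer ((⁅V, ffE p H A⁆ : Subgroup G) : Set G)) :=
          Subgroup.mem_inf.mpr ⟨e.2, h1⟩
        rw [hEK, Subgroup.mem_bot] at h2
        exact Subtype.ext h2
      · intro x
        obtain ⟨x, rfl⟩ := QuotientGroup.mk_surjective x
        exact hrep x
    have hφ₁ : Function.Surjective φ₁ := by
      intro x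
      obtain ⟨x, rfl⟩ := QuotientGroup.mk_surjective x
      obtain ⟨e, he⟩ := hrep x
      obtain ⟨d, hd, hdK⟩ := c.exists_fixed_congr hAH hA e.2
      refine ⟨⟨d, hd⟩, ?_⟩
      rw [← he]
      change QuotientGroup.mk _ = QuotientGroup.mk _
      rw [QuotientGroup.eq, Subgroup.mem_subgroupOf]
      have : ((Subgroup.inclusion (inf_le_left : H ⊓ Subgroup.centralizer (Y : Set G) ≤ H)
          ⟨d, hd⟩)⁻¹ * (Subgroup.inclusion (FFHyp.ffE_le hAH) e) : ↥H).1 = (e⁻¹ * d)⁻¹ := by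
        simp only [Subgroup.coe_mul, Subgroup.coe_inv, Subgroup.coe_inclusion]
        group
      rw [this]
      exact Subgroup.inv_mem _ hdK
    have hker : φ₁.ker = (Subgroup.centralizer (((c.normHom hVc _ hWV).range : Subgroup G) :
        Set G)).subgroupOf (H ⊓ Subgroup.centralizer (Y : Set G)) := by
      ext d
      rw [MonoidHom.mem_ker, Subgroup.mem_subgroupOf, hcent d d.2]
      change QuotientGroup.mk _ = 1 ↔ _
      rw [QuotientGroup.eq_one_iff, Subgroup.mem_subgroupOf]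
      constructor
      · intro h
        exact (Subgroup.mem_inf.mp h).2
      · intro h
        exact Subgroup.mem_inf.mpr ⟨(Subgroup.mem_inf.mp d.2).1, h⟩
    have hn : ((Subgroup.centralizer (((c.normHom hVc _ hWV).range : Subgroup G) :
        Set G)).subgroupOf (H ⊓ Subgroup.centralizer (Y : Set G))).Normal := by
      rw [← hker]; exact MonoidHom.normal_ker φ₁
    refine ⟨hn, ?_⟩
    have e1 := QuotientGroup.quotientKerEquivOfSurjective φ₁ hφ₁
    have e2 := (MulEquiv.ofBijective φ₂ hφ₂).symm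
    have e3 := (QuotientGroup.quotientMulEquivOfEq hker.symm)
    exact ⟨(e3.trans e1).trans (e2.trans eSL)⟩

end FFOp

end Cfsg.Agent.Lib.Helper10
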