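import Mathlib
import Cfsg.Prelude.Def_Transfer
import Cfsg.Prelude.Def_Local
import Cfsg.Prelude.Def_PLocal
import Cfsg.Agent.Lib.Helper10.FFDecomp
import Cfsg.Agent.Lib.Helper62.DualHH
import Cfsg.Agent.Lib.Helper76.PSolvable
import Cfsg.Agent.Lib.Helper22.CharP
import Cfsg.Agent.Lib.Helper54.PConstr4

set_option autoImplicit false
open Cfsg

/-! Faithfulization: a normal abelian subgroup `V` of `G` and the group `G / C_G(V)` both live in the
holomorph of `V`, where the action is faithful. -/

namespace Cfsg.Agent.Lib.Helper10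

open scoped commutatorElement

variable {G : Type*} [Group G]

/-- the holomorph of `V` -/
abbrev Hol (V : Subgroup G) : Type _ := ↥V ⋊[MonoidHom.id (MulAut ↥V)] MulAut ↥V

instance holFinite [Finite G] (V : Subgroup G) : Finite (Hol V) :=
  Finite.of_equiv _ SemidirectProduct.equivProd.symm

/-- the copy of `V` in its holomorph -/
def holV (V : Subgroup G) : Subgroup (Hol V) := (SemidirectProduct.inl : ↥V →* Hol V).range

/-- the action of `G` on `V`, as a map into the holomorph -/
def holπ (V : Subgroup G) [V.Normal] : G →* Hol V :=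
  (SemidirectProduct.inr : MulAut ↥V →* Hol V).comp MulAut.conjNormal

instance holV_normal (V : Subgroup G) : (holV V).Normal := by
  unfold holV
  rw [SemidirectProduct.range_inl_eq_ker_rightHom]
  exact MonoidHom.normal_ker _

theorem mem_holV {V : Subgroup G} {x : Hol V} :
    x ∈ holV V ↔ ∃ v : ↥V, SemidirectProduct.inl v = x := MonoidHom.mem_range

theorem inl_mem_holV {V : Subgroup G} (v : ↥V) :
    (SemidirectProduct.inl v : Hol V) ∈ holV V := mem_holV.mpr ⟨v, rfl⟩

variable (V : Subgroup G) [V.Normal]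

theorem holπ_conj (g : G) (v : ↥V) :
    holπ V g * SemidirectProduct.inl v * (holπ V g)⁻¹ =
      SemidirectProduct.inl (MulAut.conjNormal g v) := by
  have := SemidirectProduct.inl_aut (φ := MonoidHom.id (MulAut ↥V)) (MulAut.conjNormal g) v
  rw [MonoidHom.id_apply] at this
  rw [this]
  simp [holπ]

theorem holπ_eq_one_iff {g : G} :
    holπ V g = 1 ↔ g ∈ Subgroup.centralizer (V : Set G) := by
  unfold holπ
  rw [MonoidHom.comp_apply]
  rw [← map_one (SemidirectProduct.inr : MulAut ↥V →* Hol V),
    SemidirectProduct.inr_injective.eq_iff, Subgroup.mem_centralizer_iff]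
  constructor
  · intro h v hv
    have h1 : MulAut.conjNormal g ⟨v, hv⟩ = ⟨v, hv⟩ := by rw [h]; rfl
    have h2 := congrArg Subtype.val h1
    rw [MulAut.conjNormal_apply] at h2
    simp only at h2
    calc v * g = (g * v * g⁻¹) * g := by rw [h2]
      _ = g * v := by group
  · intro h
    ext v
    rw [MulAut.conjNormal_apply]
    have := h v v.2
    simp only [MulAut.one_apply]
    calc g * (v : G) * g⁻¹ = ((v : G) * g) * g⁻¹ := by rw [this]
      _ = v := by group

theorem holπ_ker : (holπ V).ker = Subgroup.centralizer (V : Set G) := by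
  ext g
  rw [MonoidHom.mem_ker]
  exact holπ_eq_one_iff V

theorem holπ_conj_eq_iff {g : G} {v : ↥V} :
    holπ V g * SemidirectProduct.inl v = SemidirectProduct.inl v * holπ V g ↔
      g * (v : G) = (v : G) * g := by
  have key : holπ V g * SemidirectProduct.inl v = SemidirectProduct.inl v * holπ V g ↔
      holπ V g * SemidirectProduct.inl v * (holπ V g)⁻¹ = SemidirectProduct.inl v := by
    constructor
    · intro h; rw [h]; group
    · intro h
      calc holπ V g * SemidirectProduct.inl v
          = (holπ V g * SemidirectProduct.inl v * (holπ V g)⁻¹) * holπ V g := by group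
        _ = SemidirectProduct.inl v * holπ V g := by rw [h]
  rw [key, holπ_conj, SemidirectProduct.inl_injective.eq_iff]
  constructor
  · intro h
    have h2 := congrArg Subtype.val h
    rw [MulAut.conjNormal_apply] at h2
    calc g * (v : G) = (g * v * g⁻¹) * g := by group
      _ = v * g := by rw [h2]
  · intro h
    apply Subtype.ext
    rw [MulAut.conjNormal_apply]
    calc g * (v : G) * g⁻¹ = ((v : G) * g) * g⁻¹ := by rw [h]
      _ = v := by group

/-- the action on the holomorph copy is faithful -/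
theorem range_holπ_inf_centralizer :
    (holπ V).range ⊓ Subgroup.centralizer (holV V : Set (Hol V)) = ⊥ := by
  rw [eq_bot_iff]
  rintro x ⟨⟨g, rfl⟩, hx⟩
  rw [Subgroup.mem_bot, holπ_eq_one_iff, Subgroup.mem_centralizer_iff]
  intro v hv
  have hx' : holπ V g ∈ Subgroup.centralizer (holV V : Set (Hol V)) := hx
  rw [Subgroup.mem_centralizer_iff] at hx'
  have h1 := hx' _ (inl_mem_holV (⟨v, hv⟩ : ↥V))
  have h2 := (holπ_conj_eq_iff V (g := g) (v := ⟨v, hv⟩)).mp h1.symm
  exact h2.symm

theorem holV_inf_centralizer_map (B : Subgroup G) :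
    holV V ⊓ Subgroup.centralizer ((B.map (holπ V) : Subgroup (Hol V)) : Set (Hol V)) =
      ((V ⊓ Subgroup.centralizer (B : Set G)).subgroupOf V).map
        (SemidirectProduct.inl : ↥V →* Hol V) := by
  ext x
  rw [Subgroup.mem_inf, Subgroup.mem_map, mem_holV]
  constructor
  · rintro ⟨⟨v, rfl⟩, hx⟩
    refine ⟨v, ?_, rfl⟩
    rw [Subgroup.mem_subgroupOf, Subgroup.mem_inf]
    refine ⟨v.2, ?_⟩
    rw [Subgroup.mem_centralizer_iff]
    intro b hb
    rw [Subgroup.mem_centralizer_iff] at hx
    have h1 := hx _ (Subgroup.mem_map_of_mem (holπ V) hb)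
    exact (holπ_conj_eq_iff V).mp h1
  · rintro ⟨v, hv, rfl⟩
    refine ⟨⟨v, rfl⟩, ?_⟩
    rw [Subgroup.mem_subgroupOf, Subgroup.mem_inf] at hv
    rw [Subgroup.mem_centralizer_iff]
    rintro _ ⟨b, hb, rfl⟩
    have := Subgroup.mem_centralizer_iff.mp hv.2 b hb
    exact (holπ_conj_eq_iff V).mpr this

theorem card_holV_inf_centralizer_map (B : Subgroup G) :
    Nat.card ↥(holV V ⊓ Subgroup.centralizer ((B.map (holπ V) : Subgroup (Hol V)) : Set (Hol V))) =
      Nat.card ↥(V ⊓ Subgroup.centralizer (B : Set G)) := by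
  rw [holV_inf_centralizer_map, Subgroup.card_map_of_injective SemidirectProduct.inl_injective]
  exact card_subgroupOf_of_le inf_le_left

omit [V.Normal] in
theorem card_holV : Nat.card ↥(holV V) = Nat.card V := by
  unfold holV
  rw [MonoidHom.range_eq_map, Subgroup.card_map_of_injective SemidirectProduct.inl_injective]
  exact Subgroup.card_top

theorem card_map_holπ (B : Subgroup G) :
    Nat.card ↥(B.map (holπ V)) * Nat.card ↥(B ⊓ Subgroup.centralizer (V : Set G)) = Nat.card B := by
  have h1 := Subgroup.relIndex_ker B (holπ V)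
  rw [holπ_ker] at h1
  rw [← h1, mul_comm]
  have h2 := card_mul_relIndex_of_le (inf_le_left : B ⊓ Subgroup.centralizer (V : Set G) ≤ B)
  rw [Subgroup.inf_relIndex_left] at h2
  exact h2

theorem offVal_map_holπ (B : Subgroup G) :
    offVal (holV V) (B.map (holπ V)) * Nat.card ↥(B ⊓ Subgroup.centralizer (V : Set G)) =
      offVal V B := by
  unfold offVal
  rw [card_holV_inf_centralizer_map, ← card_map_holπ V B]
  ring

omit [V.Normal] in
theorem elemAb_holV {p : ℕ} (hV : IsElementaryAbelian p V) : IsElementaryAbelian p (holV V) := by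
  have hVc := elemAb_comm hV
  have htop : IsElementaryAbelian p (⊤ : Subgroup ↥V) := by
    refine ⟨?_, ?_⟩
    · rw [isMulCommutative_iff_of_setLike]
      intro x _ y _
      exact Subtype.ext (hVc x x.2 y y.2)
    · intro a _
      exact Subtype.ext (hV.2 a a.2)
  have := elemAb_map htop (SemidirectProduct.inl : ↥V →* Hol V)
  rwa [← MonoidHom.range_eq_map] at this

/-- a best offender on `V` in `G` maps to a best offender in the holomorph -/
theorem isBestOffenderOn_map_holπ [Finite G] {p : ℕ} {A : Subgroup G}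
    (hA : IsBestOffenderOn p V A) :
    IsBestOffenderOn p (holV V) (A.map (holπ V)) := by
  obtain ⟨h1, h2, h3⟩ := hA
  refine ⟨?_, ?_, ?_⟩
  · intro B' hB'
    set B : Subgroup G := A ⊓ B'.comap (holπ V) with hB
    have hBA : B ≤ A := inf_le_left
    have hmap : B.map (holπ V) = B' := by
      apply le_antisymm
      · rintro _ ⟨b, hb, rfl⟩
        exact (Subgroup.mem_inf.mp hb).2
      · intro x hx
        obtain ⟨a, ha, rfl⟩ := hB' hx
        exact ⟨a, Subgroup.mem_inf.mpr ⟨ha, hx⟩, rfl⟩
    have hBC : B ⊓ Subgroup.centralizer (V : Set G) = A ⊓ Subgroup.centralizer (V : Set G) := by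
      apply le_antisymm (inf_le_inf_right _ hBA)
      intro x hx
      obtain ⟨hxA, hxC⟩ := Subgroup.mem_inf.mp hx
      refine Subgroup.mem_inf.mpr ⟨Subgroup.mem_inf.mpr ⟨hxA, ?_⟩, hxC⟩
      rw [Subgroup.mem_comap, (holπ_eq_one_iff V).mpr hxC]
      exact B'.one_mem
    have e1 := offVal_map_holπ V B
    have e2 := offVal_map_holπ V A
    rw [hmap, hBC] at e1
    have hle := h1 B hBA
    have hpos : 0 < Nat.card ↥(A ⊓ Subgroup.centralizer (V : Set G)) := Nat.card_pos
    have : offVal (holV V) B' * Nat.card ↥(A ⊓ Subgroup.centralizer (V : Set G)) ≤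
        offVal (holV V) (A.map (holπ V)) * Nat.card ↥(A ⊓ Subgroup.centralizer (V : Set G)) := by
      rw [e1, e2]; exact hle
    exact Nat.le_of_mul_le_mul_right this hpos
  · rw [← Subgroup.map_commutator]
    rintro _ ⟨x, hx, rfl⟩
    rw [(holπ_eq_one_iff V).mpr (h2 hx)]
    exact Subgroup.one_mem _
  · rintro _ ⟨a, ha, rfl⟩
    rw [← map_pow, (holπ_eq_one_iff V).mpr (h3 a ha)]
    exact Subgroup.one_mem _

theorem range_holπ_le_normalizer :
    (holπ V).range ≤ Subgroup.normalizer (holV V : Set (Hol V)) := by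
  rw [Subgroup.normalizer_eq_top_iff.mpr (holV_normal V)]
  exact le_top

theorem map_holπ_le_normalizer (B : Subgroup G) :
    B.map (holπ V) ≤ Subgroup.normalizer (holV V : Set (Hol V)) := by
  rw [Subgroup.normalizer_eq_top_iff.mpr (holV_normal V)]
  exact le_top

theorem map_holπ_inf_centralizer (B : Subgroup G) :
    B.map (holπ V) ⊓ Subgroup.centralizer (holV V : Set (Hol V)) = ⊥ := by
  rw [eq_bot_iff, ← range_holπ_inf_centralizer V]
  exact inf_le_inf_right _ (Subgroup.map_le_range _ _)


/-- `G / C_G(V)` is isomorphic to the image of `G` in the holomorph -/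
noncomputable def quotCentEquivRange :
    G ⧸ Subgroup.centralizer (V : Set G) ≃* ↥(holπ V).range :=
  (QuotientGroup.quotientMulEquivOfEq (holπ_ker V).symm).trans
    (QuotientGroup.quotientKerEquivRange (holπ V))

theorem pCore_range_holπ {p : ℕ} (hO : pCore p (G ⧸ Subgroup.centralizer (V : Set G)) = ⊥) :
    pCore p ↥(holπ V).range = ⊥ := by
  rw [← Cfsg.Agent.Lib.Helper22.pCore_map_equiv p (quotCentEquivRange V), hO, Subgroup.map_bot]

theorem pCore_map_holπ {p : ℕ} (hO : pCore p (G ⧸ Subgroup.centralizer (V : Set G)) = ⊥)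
    (K : Subgroup G) [hK : K.Normal] : pCore p ↥(K.map (holπ V)) = ⊥ := by
  have hle : K.map (holπ V) ≤ (holπ V).range := Subgroup.map_le_range _ _
  haveI hn : ((K.map (holπ V)).subgroupOf (holπ V).range).Normal := by
    refine ⟨?_⟩
    rintro ⟨n, hn⟩ hnK ⟨g, ⟨g₀, rfl⟩⟩
    rw [Subgroup.mem_subgroupOf] at hnK ⊢
    obtain ⟨k, hk, hkn⟩ := hnK
    refine ⟨g₀ * k * g₀⁻¹, hK.conj_mem k hk g₀, ?_⟩
    simp only [map_mul, map_inv, Subgroup.coe_mul, Subgroup.coe_inv]
    simp only at hkn
    rw [hkn]
  have h1 := Cfsg.Agent.Lib.Helper54.map_pCore_le_of_normal p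
    ((K.map (holπ V)).subgroupOf (holπ V).range)
  rw [pCore_range_holπ V hO, le_bot_iff,
    Subgroup.map_eq_bot_iff_of_injective _ (Subgroup.subtype_injective _)] at h1
  rw [← Cfsg.Agent.Lib.Helper22.pCore_map_equiv p (Subgroup.subgroupOfEquivOfLe hle), h1,
    Subgroup.map_bot]

theorem isPSolvable_map_holπ {p : ℕ} [Fact p.Prime] (hsep : IsPSolvable p G) (K : Subgroup G) :
    IsPSolvable p ↥(K.map (holπ V)) :=
  Cfsg.Agent.Lib.Helper76.isPSolvable_of_surjective ((holπ V).subgroupMap K)
    ((holπ V).subgroupMap_surjective K) (Cfsg.Agent.Lib.Helper76.isPSolvable_subgroup K hsep)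

/-- the hypotheses of KS 9.3 hold in the holomorph for the image of any normal subgroup -/
theorem ffHyp_map_holπ [Finite G] {p : ℕ} [Fact p.Prime] (hV : IsElementaryAbelian p V)
    (hsep : IsPSolvable p G) (hO : pCore p (G ⧸ Subgroup.centralizer (V : Set G)) = ⊥)
    (K : Subgroup G) [K.Normal] : FFHyp p (holV V) (K.map (holπ V)) where
  elem := elemAb_holV V hV
  norm := map_holπ_le_normalizer V K
  faith := map_holπ_inf_centralizer V K
  cent := Cfsg.Agent.Lib.Helper62.centralizer_pPrimeCore_le_of_isPSolvable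
    (isPSolvable_map_holπ V hsep K) (pCore_map_holπ V hO K)

end Cfsg.Agent.Lib.Helper10
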