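import Mathlib
import Cfsg.Prelude.Def_PLocal

set_option autoImplicit false

namespace Cfsg.Agent.Lib.Helper10

open Pointwise

variable {G : Type*} [Group G]

theorem mem_sylow_smul_iff_conj {p : ℕ} {g x : G} {S : Sylow p G} :
    x ∈ ((g • S : Sylow p G) : Subgroup G) ↔ g⁻¹ * x * g ∈ (S : Subgroup G) := by
  rw [Sylow.coe_subgroup_smul, Subgroup.mem_pointwise_smul_iff_inv_smul_mem]
  simp [MulAut.smul_def, mul_assoc]

theorem omegaOne_le (p : ℕ) (H : Subgroup G) : Cfsg.omegaOne p H ≤ H := by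
  unfold Cfsg.omegaOne
  rw [Subgroup.closure_le]
  intro x hx
  exact hx.1

theorem omegaOne_mono (p : ℕ) {H K : Subgroup G} (h : H ≤ K) :
    Cfsg.omegaOne p H ≤ Cfsg.omegaOne p K := by
  unfold Cfsg.omegaOne
  apply Subgroup.closure_mono
  intro x hx
  exact ⟨h hx.1, hx.2⟩

/-- conjugation maps `Ω₁(Z(S))` into `Ω₁(Z(gS))` -/
theorem map_conj_omegaZ_le {p : ℕ} (g : G) (S : Sylow p G) :
    (Cfsg.omegaOne p ((S : Subgroup G) ⊓ Subgroup.centralizer ((S : Subgroup G) : Set G))).map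
      (MulAut.conj g).toMonoidHom ≤
    Cfsg.omegaOne p (((g • S : Sylow p G) : Subgroup G) ⊓
      Subgroup.centralizer (((g • S : Sylow p G) : Subgroup G) : Set G)) := by
  unfold Cfsg.omegaOne
  rw [MonoidHom.map_closure]
  apply Subgroup.closure_mono
  rintro _ ⟨x, ⟨hx, hxp⟩, rfl⟩
  have hxS : x ∈ (S : Subgroup G) := (Subgroup.mem_inf.mp hx).1
  have hxC : x ∈ Subgroup.centralizer ((S : Subgroup G) : Set G) := (Subgroup.mem_inf.mp hx).2
  simp only [MulEquiv.coe_toMonoidHom, MulAut.conj_apply]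
  refine ⟨Subgroup.mem_inf.mpr ⟨?_, ?_⟩, ?_⟩
  · rw [mem_sylow_smul_iff_conj]
    have : g⁻¹ * (g * x * g⁻¹) * g = x := by group
    rw [this]; exact hxS
  · rw [Subgroup.mem_centralizer_iff]
    intro h hh
    rw [SetLike.mem_coe, mem_sylow_smul_iff_conj] at hh
    have h1 := Subgroup.mem_centralizer_iff.mp hxC _ hh
    calc h * (g * x * g⁻¹) = g * ((g⁻¹ * h * g) * x) * g⁻¹ := by group
      _ = g * (x * (g⁻¹ * h * g)) * g⁻¹ := by rw [h1]
      _ = g * x * g⁻¹ * h := by group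
  · rw [conj_pow, hxp]; group

/-- the subgroup generated by all `Ω₁(Z(S))` is normal -/
theorem iSup_omegaZ_normal {p : ℕ} :
    (⨆ S : Sylow p G, Cfsg.omegaOne p ((S : Subgroup G) ⊓
      Subgroup.centralizer ((S : Subgroup G) : Set G))).Normal := by
  have key : ∀ g : G, (⨆ S : Sylow p G, Cfsg.omegaOne p ((S : Subgroup G) ⊓
      Subgroup.centralizer ((S : Subgroup G) : Set G))).map (MulAut.conj g).toMonoidHom ≤
      ⨆ S : Sylow p G, Cfsg.omegaOne p ((S : Subgroup G) ⊓
      Subgroup.centralizer ((S : Subgroup G) : Set G)) := by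
    intro g
    rw [Subgroup.map_iSup]
    apply iSup_le
    intro S
    exact (map_conj_omegaZ_le g S).trans (le_iSup (fun S : Sylow p G =>
      Cfsg.omegaOne p ((S : Subgroup G) ⊓ Subgroup.centralizer ((S : Subgroup G) : Set G))) (g • S))
  constructor
  intro n hn g
  have := key g ⟨n, hn, rfl⟩
  simpa using this

/-- `Ω₁(Z(S))` is centralized by `S` -/
theorem omegaZ_le_centralizer {p : ℕ} (S : Subgroup G) :
    Cfsg.omegaOne p (S ⊓ Subgroup.centralizer (S : Set G)) ≤ Subgroup.centralizer (S : Set G) :=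
  (omegaOne_le p _).trans inf_le_right

/-- `W = ⟨Ω₁(Z(S))⟩` is generated by the fixed points of the Sylow subgroups -/
theorem iSup_omegaZ_le_iSup_fix {p : ℕ} :
    (⨆ S : Sylow p G, Cfsg.omegaOne p ((S : Subgroup G) ⊓
      Subgroup.centralizer ((S : Subgroup G) : Set G))) ≤
    ⨆ T : Sylow p G, (⨆ S : Sylow p G, Cfsg.omegaOne p ((S : Subgroup G) ⊓
      Subgroup.centralizer ((S : Subgroup G) : Set G))) ⊓
      Subgroup.centralizer ((T : Subgroup G) : Set G) := by
  apply iSup_le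
  intro S
  refine le_trans ?_ (le_iSup _ S)
  refine le_inf ?_ (omegaZ_le_centralizer (S : Subgroup G))
  exact le_iSup (fun S : Sylow p G =>
      Cfsg.omegaOne p ((S : Subgroup G) ⊓ Subgroup.centralizer ((S : Subgroup G) : Set G))) S

end Cfsg.Agent.Lib.Helper10
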