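import Mathlib
import Cfsg.Prelude.Def_Transfer
import Cfsg.Prelude.Def_Local
import Cfsg.Prelude.Def_PLocal
import Cfsg.Agent.Lib.Helper10.Faithful
import Cfsg.Agent.Lib.Helper10.FFOp
import Cfsg.Agent.Lib.Helper10.TFQuot
import Cfsg.Agent.Lib.Helper10.OmegaZ
import Cfsg.Agent.Lib.Helper10.ThompsonSub

set_option autoImplicit false
open Cfsg

/-! Automorphisms of `K` acting on the holomorph of a characteristic subgroup `W`. -/

namespace Cfsg.Agent.Lib.Helper10

open scoped commutatorElement

variable {K : Type*} [Group K]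

/-- `⟨Ω₁(Z(S)) | S ∈ Syl_p⟩` is characteristic -/
instance iSup_omegaZ_characteristic [Finite K] {p : ℕ} [Fact p.Prime] :
    (⨆ S : Sylow p K, Cfsg.omegaOne p ((S : Subgroup K) ⊓
      Subgroup.centralizer ((S : Subgroup K) : Set K))).Characteristic := by
  rw [Subgroup.characteristic_iff_map_le]
  intro φ
  rw [Subgroup.map_iSup]
  apply iSup_le
  intro S
  have h1 := map_omegaZ_of_injOn p (f := φ.toMonoidHom) (T := (S : Subgroup K))
    (fun x _ hx => by
      have : φ x = φ 1 := by rw [map_one]; exact hx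
      exact φ.injective this)
  rw [h1, ← Sylow.coe_mapSurjective φ.surjective S]
  exact le_iSup (fun S : Sylow p K => Cfsg.omegaOne p ((S : Subgroup K) ⊓
      Subgroup.centralizer ((S : Subgroup K) : Set K))) (Sylow.mapSurjective φ.surjective S)

/-- `J(K)` is characteristic -/
instance thompsonSubgroup_characteristic (p : ℕ) : (thompsonSubgroup p K).Characteristic := by
  rw [Subgroup.characteristic_iff_map_le]
  intro φ
  rw [Subgroup.map_le_iff_le_comap]
  unfold thompsonSubgroup
  apply sSup_le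
  intro A hA
  rw [← Subgroup.map_le_iff_le_comap]
  exact le_sSup (maxElemAb_map_equiv hA φ)

variable (W : Subgroup K) [W.Normal] [W.Characteristic]

/-- automorphisms of `K`, as elements of the holomorph of the characteristic subgroup `W` -/
def holξ : MulAut K →* Hol W :=
  (SemidirectProduct.inr : MulAut ↥W →* Hol W).comp (MulAut.characteristic W)

omit [W.Normal] in
theorem holξ_conj_inl (φ : MulAut K) (w : ↥W) :
    holξ W φ * SemidirectProduct.inl w * (holξ W φ)⁻¹ =
      SemidirectProduct.inl (MulAut.characteristic W φ w) := by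
  have := SemidirectProduct.inl_aut (φ := MonoidHom.id (MulAut ↥W)) (MulAut.characteristic W φ) w
  rw [MonoidHom.id_apply] at this
  rw [this]
  simp [holξ]

theorem holξ_conj_holπ (φ : MulAut K) (k : K) :
    holξ W φ * holπ W k * (holξ W φ)⁻¹ = holπ W (φ k) := by
  unfold holξ holπ
  simp only [MonoidHom.comp_apply]
  rw [← map_inv, ← map_mul, ← map_mul]
  congr 1
  ext w
  simp only [MulAut.mul_apply, MulAut.conjNormal_apply, ← map_inv,
    MulAut.characteristic_apply_apply_coe]
  simp only [map_mul, map_inv]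
  have : φ ((φ⁻¹ : MulAut K) (w : K)) = w := by
    rw [← MulAut.mul_apply, mul_inv_cancel, MulAut.one_apply]
  rw [this]

theorem holξ_mem_normalizer_map (J : Subgroup K) [hJ : J.Characteristic] (φ : MulAut K) :
    holξ W φ ∈ Subgroup.normalizer ((J.map (holπ W) : Subgroup (Hol W)) : Set (Hol W)) := by
  have key : ∀ ψ : MulAut K, ∀ x ∈ J.map (holπ W),
      holξ W ψ * x * (holξ W ψ)⁻¹ ∈ J.map (holπ W) := by
    rintro ψ _ ⟨j, hj, rfl⟩
    rw [holξ_conj_holπ]
    exact ⟨ψ j, Subgroup.characteristic_iff_le_comap.mp hJ ψ hj, rfl⟩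
  rw [Subgroup.mem_normalizer_iff]
  intro x
  constructor
  · exact key φ x
  · intro hx
    have := key φ⁻¹ _ hx
    rw [map_inv] at this
    have e : (holξ W φ)⁻¹ * (holξ W φ * x * (holξ W φ)⁻¹) * (holξ W φ)⁻¹⁻¹ = x := by group
    rwa [e] at this

/-- lifting fixed points through `holπ` under a coprime `q`-group of automorphisms -/
theorem exists_fixed_lift [Finite K] {q : ℕ} [Fact q.Prime] (Φ : Subgroup (MulAut K))
    (hΦ : IsPGroup q Φ) (hq : ¬ q ∣ Nat.card K) {d : Hol W} (hd : d ∈ (holπ W).range)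
    (hdY : d ∈ Subgroup.centralizer ((Φ.map (holξ W) : Subgroup (Hol W)) : Set (Hol W))) :
    ∃ k : K, (∀ φ ∈ Φ, φ k = k) ∧ holπ W k = d := by
  obtain ⟨k₀, hk₀⟩ := hd
  have hfix : ∀ φ ∈ Φ, ∀ k : K, holπ W k = d → holπ W (φ k) = d := by
    intro φ hφ k hk
    have h1 := Subgroup.mem_centralizer_iff.mp hdY _ (Subgroup.mem_map_of_mem (holξ W) hφ)
    rw [← holξ_conj_holπ, hk]
    calc holξ W φ * d * (holξ W φ)⁻¹ = (d * holξ W φ) * (holξ W φ)⁻¹ := by rw [h1]
      _ = d := by group
  letI : MulAction ↥Φ {k : K // holπ W k = d} :=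
    { smul := fun φ k => ⟨(φ : MulAut K) k.1, hfix φ φ.2 k.1 k.2⟩
      one_smul := fun k => Subtype.ext (by rfl)
      mul_smul := fun φ ψ k => Subtype.ext (by rfl) }
  have hcard : ¬ q ∣ Nat.card {k : K // holπ W k = d} := by
    have e : {k : K // holπ W k = d} ≃ ↥(holπ W).ker :=
      { toFun := fun k => ⟨k₀⁻¹ * k.1, by
          rw [MonoidHom.mem_ker, map_mul, map_inv, hk₀, k.2]; group⟩
        invFun := fun c => ⟨k₀ * c.1, by
          rw [map_mul, hk₀, (MonoidHom.mem_ker.mp c.2), mul_one]⟩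
        left_inv := fun k => Subtype.ext (by simp)
        right_inv := fun c => Subtype.ext (by simp) }
    rw [Nat.card_congr e]
    intro h
    exact hq (dvd_trans h (Subgroup.card_subgroup_dvd_card _))
  obtain ⟨k, hk⟩ := hΦ.nonempty_fixed_point_of_prime_not_dvd_card _ hcard
  refine ⟨k.1, ?_, k.2⟩
  intro φ hφ
  have := hk ⟨φ, hφ⟩
  exact congrArg Subtype.val this

end Cfsg.Agent.Lib.Helper10
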