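import Mathlib
import Cfsg.Prelude.Def_Solvable

set_option autoImplicit false

namespace Cfsg.Agent.Lib.Helper10

variable {G : Type*} [Group G]

/-- If the normal subgroup `V` is generated by the fixed points of the Sylow `p`-subgroups,
every normal `p`-subgroup of `G ⧸ C_G(V)` is trivial. -/
theorem normal_pgroup_quot_centralizer_eq_bot [Finite G] {p : ℕ} [Fact p.Prime] (V : Subgroup G)
    [V.Normal]
    (hgen : V ≤ ⨆ S : Sylow p G, V ⊓ Subgroup.centralizer ((S : Subgroup G) : Set G))
    (Nb : Subgroup (G ⧸ Subgroup.centralizer (V : Set G))) [Nb.Normal] (hNb : IsPGroup p Nb) :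
    Nb = ⊥ := by
  rw [eq_bot_iff]
  intro xb hxb
  obtain ⟨d, rfl⟩ := QuotientGroup.mk'_surjective _ xb
  rw [Subgroup.mem_bot]
  apply (QuotientGroup.eq_one_iff d).mpr
  rw [Subgroup.mem_centralizer_iff]
  have hπ : Function.Surjective (QuotientGroup.mk' (Subgroup.centralizer (V : Set G))) :=
    QuotientGroup.mk'_surjective _
  have key : (⨆ S : Sylow p G, V ⊓ Subgroup.centralizer ((S : Subgroup G) : Set G)) ≤
      Subgroup.centralizer ({d} : Set G) := by
    apply iSup_le
    intro S v hv
    rw [Subgroup.mem_centralizer_iff]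
    intro h hh
    rw [Set.mem_singleton_iff] at hh
    subst hh
    have h1 : Nb ≤ (S.mapSurjective hπ : Sylow p _) := hNb.le_sylow_of_normal _
    have h2 : (QuotientGroup.mk' (Subgroup.centralizer (V : Set G))) h ∈
        ((S.mapSurjective hπ : Sylow p _) : Subgroup _) := h1 hxb
    rw [Sylow.coe_mapSurjective] at h2
    obtain ⟨s, hs, hsd⟩ := h2
    have h3 : s⁻¹ * h ∈ Subgroup.centralizer (V : Set G) := QuotientGroup.eq.mp hsd
    have hvc : v * (s⁻¹ * h) = (s⁻¹ * h) * v := Subgroup.mem_centralizer_iff.mp h3 v hv.1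
    have hvs : s * v = v * s := Subgroup.mem_centralizer_iff.mp hv.2 s hs
    calc h * v = s * ((s⁻¹ * h) * v) := by group
      _ = s * (v * (s⁻¹ * h)) := by rw [hvc]
      _ = (s * v) * (s⁻¹ * h) := by group
      _ = (v * s) * (s⁻¹ * h) := by rw [hvs]
      _ = v * h := by group
  intro v hv
  have := key (hgen hv)
  rw [Subgroup.mem_centralizer_iff] at this
  exact (this d (Set.mem_singleton d)).symm

end Cfsg.Agent.Lib.Helper10
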