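import Mathlib
import Cfsg.Prelude.Def_Transfer
import Cfsg.Prelude.Def_Local
import Cfsg.Prelude.Def_PLocal
import Cfsg.Agent.S0601
import Cfsg.Agent.S0604
import Cfsg.Agent.S0606
import Cfsg.Agent.S0608
import Cfsg.Agent.S0618
import Cfsg.Agent.Lib.Helper10.HolOp
import Cfsg.Agent.Lib.Helper10.SylowIn
import Cfsg.Agent.Lib.Helper10.ThompsonIn
import Cfsg.Agent.Lib.Helper76.PSolvable

set_option autoImplicit false
open Cfsg

/-! Coprime operator groups on `p`-solvable groups with trivial `p'`-core: generation and the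
`SL₂(p)` among the fixed points (abstract forms). -/

namespace Cfsg.Agent.Lib.Helper10

open scoped commutatorElement
open Pointwise
open Cfsg.Agent.Lib.Helper10.FFHyp

variable {K : Type*} [Group K]

/-- the fixed points of a group of automorphisms -/
def fixSub (Φ : Subgroup (MulAut K)) : Subgroup K where
  carrier := {k | ∀ φ ∈ Φ, φ k = k}
  mul_mem' := fun {a b} ha hb φ hφ => by rw [map_mul, ha φ hφ, hb φ hφ]
  one_mem' := fun φ _ => map_one φ
  inv_mem' := fun {a} ha φ hφ => by rw [map_inv, ha φ hφ]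

theorem mem_fixSub {Φ : Subgroup (MulAut K)} {k : K} : k ∈ fixSub Φ ↔ ∀ φ ∈ Φ, φ k = k := Iff.rfl

theorem conj_smul_eq_cj (c : K) (X : Subgroup K) : MulAut.conj c • X = cj c X := by
  ext x
  rw [mem_conj_smul_iff']
  constructor
  · intro h
    refine ⟨_, h, ?_⟩
    simp [mul_assoc]
  · rintro ⟨y, hy, rfl⟩
    simpa [mul_assoc] using hy

/-- the Thompson subgroups of two Sylow subgroups are conjugate under `J(K)` -/
theorem exists_thompson_conj [Finite K] {p : ℕ} [Fact p.Prime] (S : Sylow p K) (g : K) :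
    ∃ c ∈ thompsonSubgroup p K, cj c (thompsonSubgroupOf p (S : Subgroup K)) =
      thompsonSubgroupOf p ((g • S : Sylow p K) : Subgroup K) := by
  haveI hJn : (thompsonSubgroup p K).Normal := Cfsg.Agent.S0618.thompsonSubgroup_normal p
  obtain ⟨c, hc, hcS⟩ := exists_conj_inf_sylow (thompsonSubgroup p K) S g
  refine ⟨c, hc, ?_⟩
  have key : ∀ T : Sylow p K, thompsonSubgroupOf p (thompsonSubgroup p K ⊓ (T : Subgroup K)) =
      thompsonSubgroupOf p (T : Subgroup K) := by
    intro T
    apply thompsonSubgroupOf_eq_of_le p _ inf_le_right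
    apply le_inf _ (thompsonSubgroupOf_le_self p _)
    obtain ⟨A₀, hA₀, hAS⟩ := exists_maxElemAb_le_sylow T
    exact thompsonSubgroupOf_le hA₀ hAS
  rw [← key S, ← key (g • S), ← hcS, conj_smul_eq_cj]
  exact map_thompsonSubgroupOf p _ (MulAut.conj c)

theorem sylow_smul_coe_eq_cj {p : ℕ} (S : Sylow p K) (g : K) :
    ((g • S : Sylow p K) : Subgroup K) = cj g (S : Subgroup K) := by
  rw [Sylow.coe_subgroup_smul, conj_smul_eq_cj]

theorem thompsonSubgroupOf_smul {p : ℕ} (S : Sylow p K) (g : K) :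
    thompsonSubgroupOf p ((g • S : Sylow p K) : Subgroup K) =
      cj g (thompsonSubgroupOf p (S : Subgroup K)) := by
  rw [sylow_smul_coe_eq_cj]
  exact (map_thompsonSubgroupOf p _ (MulAut.conj g)).symm

variable [Finite K] {p q : ℕ} [Fact p.Prime] [Fact q.Prime]

omit [Fact q.Prime] in
/-- the operator context in the holomorph of a characteristic elementary abelian subgroup -/
theorem ffop_of_char (W : Subgroup K) [W.Normal] [W.Characteristic]
    (hWe : IsElementaryAbelian p W) (hsep : IsPSolvable p K)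
    (hOq : pCore p (K ⧸ Subgroup.centralizer (W : Set K)) = ⊥)
    (Φ : Subgroup (MulAut K)) (hΦ : IsPGroup q Φ) (hq : ¬ q ∣ Nat.card K) :
    FFOp p q (holV W) ((thompsonSubgroup p K).map (holπ W)) (Φ.map (holξ W)) where
  ff := ffHyp_map_holπ W hWe hsep hOq (thompsonSubgroup p K)
  gen := by
    have hBOA : ∀ A ∈ maxElementaryAbelianSubgroups p K,
        A.map (holπ W) ≤ (thompsonSubgroup p K).map (holπ W) ∧
          IsBestOffenderOn p (holV W) (A.map (holπ W)) := by
      intro A hA
      exact ⟨Subgroup.map_mono (maxElemAb_le_thompson hA),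
        isBestOffenderOn_map_holπ W (Cfsg.Agent.S0606.result W hWe A hA)⟩
    apply le_antisymm
    · rw [Subgroup.map_le_iff_le_comap]
      unfold thompsonSubgroup
      apply sSup_le
      intro A hA
      rw [← Subgroup.map_le_iff_le_comap]
      exact le_iSup (fun A : {A : Subgroup (Hol W) // A ≤ (sSup (maxElementaryAbelianSubgroups p K)).map
        (holπ W) ∧ IsBestOffenderOn p (holV W) A} => (A : Subgroup (Hol W))) ⟨A.map (holπ W), hBOA A hA⟩
    · exact iSup_le (fun A => A.2.1)
  normV := by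
    rw [Subgroup.normalizer_eq_top_iff.mpr (holV_normal W)]
    exact le_top
  normH := by
    rintro _ ⟨φ, -, rfl⟩
    exact holξ_mem_normalizer_map W (thompsonSubgroup p K) φ
  qgrp := hΦ.map (holξ W)
  cop := by
    intro h
    apply hq
    exact (h.trans (Subgroup.card_map_dvd _ _)).trans (Subgroup.card_subgroup_dvd_card _)

/-- **Generation under coprime operators** (abstract form): `K = N(J(S)) C(Ω₁Z(S)) C_K(Φ)`. -/
theorem gen_of_coprime (hsep : IsPSolvable p K) (hO : pPrimeCore p K = ⊥)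
    (Φ : Subgroup (MulAut K)) (hΦ : IsPGroup q Φ) (hq : ¬ q ∣ Nat.card K) (S : Sylow p K) :
    Subgroup.normalizer (thompsonSubgroupOf p (S : Subgroup K) : Set K) ⊔
      Subgroup.centralizer (omegaOne p ((S : Subgroup K) ⊓
        Subgroup.centralizer ((S : Subgroup K) : Set K)) : Set K) ⊔ fixSub Φ = ⊤ := by
  have hc := Cfsg.Agent.Lib.Helper76.centralizer_pCore_le_of_isPSolvable hsep hO
  obtain ⟨hWn, hWe, hWD⟩ := Cfsg.Agent.S0601.result (G := K) (p := p) hc
  obtain ⟨W, hW⟩ : ∃ W : Subgroup K, W = ⨆ S : Sylow p K,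
      omegaOne p ((S : Subgroup K) ⊓ Subgroup.centralizer ((S : Subgroup K) : Set K)) := ⟨_, rfl⟩
  haveI hWc : W.Characteristic := by rw [hW]; exact iSup_omegaZ_characteristic
  rw [← hW] at hWn hWe hWD
  haveI := hWn
  have hOq : pCore p (K ⧸ Subgroup.centralizer (W : Set K)) = ⊥ :=
    Cfsg.Agent.S0618.pCore_quotient_eq_bot _ hWD
  have c := ffop_of_char W hWe hsep hOq Φ hΦ hq
  obtain ⟨L, hL⟩ : ∃ L : Subgroup K,
      L = Subgroup.normalizer (thompsonSubgroupOf p (S : Subgroup K) : Set K) ⊔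
      Subgroup.centralizer (omegaOne p ((S : Subgroup K) ⊓
        Subgroup.centralizer ((S : Subgroup K) : Set K)) : Set K) ⊔ fixSub Φ := ⟨_, rfl⟩
  rw [← hL]
  have hNL : Subgroup.normalizer (thompsonSubgroupOf p (S : Subgroup K) : Set K) ≤ L := by
    rw [hL]; exact le_sup_left.trans le_sup_left
  have hCL : Subgroup.centralizer (omegaOne p ((S : Subgroup K) ⊓
        Subgroup.centralizer ((S : Subgroup K) : Set K)) : Set K) ≤ L := by
    rw [hL]; exact le_sup_right.trans le_sup_left
  have hFL : fixSub Φ ≤ L := by rw [hL]; exact le_sup_right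
  have hker : Subgroup.centralizer (W : Set K) ≤ L := by
    refine le_trans (Subgroup.centralizer_le ?_) hCL
    have : omegaOne p ((S : Subgroup K) ⊓ Subgroup.centralizer ((S : Subgroup K) : Set K)) ≤ W := by
      rw [hW]
      exact le_iSup (fun S : Sylow p K => omegaOne p ((S : Subgroup K) ⊓
        Subgroup.centralizer ((S : Subgroup K) : Set K))) S
    exact this
  have hcomap : ∀ x : K, holπ W x ∈ L.map (holπ W) → x ∈ L := by
    rintro x ⟨l, hl, hlx⟩
    have : l⁻¹ * x ∈ Subgroup.centralizer (W : Set K) := by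
      rw [← holπ_eq_one_iff W, map_mul, map_inv, hlx]; group
    have e : x = l * (l⁻¹ * x) := by group
    rw [e]; exact L.mul_mem hl (hker this)
  have hfix : (thompsonSubgroup p K).map (holπ W) ⊓
      Subgroup.centralizer ((Φ.map (holξ W) : Subgroup (Hol W)) : Set (Hol W)) ≤
        L.map (holπ W) := by
    intro d hd
    obtain ⟨k, hk, rfl⟩ := exists_fixed_lift W Φ hΦ hq (Subgroup.map_le_range _ _ hd.1) hd.2
    exact Subgroup.mem_map_of_mem _ (hFL hk)
  have hA : ∀ A ∈ maxElementaryAbelianSubgroups p K, A ≤ L := by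
    intro A hA
    obtain ⟨P, hP⟩ := (elemAb_isPGroup hA.1).exists_le_sylow
    obtain ⟨g, rfl⟩ := MulAction.exists_smul_eq K S P
    obtain ⟨c₀, hc₀, hcS⟩ := exists_thompson_conj S g
    have hAJ : A ≤ cj c₀ (thompsonSubgroupOf p (S : Subgroup K)) := by
      rw [hcS]; exact maxElemAb_le_thompsonSubgroupOf hA hP
    have hconj : cj c₀⁻¹ A ≤ L := by
      have h1 : cj c₀⁻¹ A ≤ cj c₀⁻¹ (cj c₀ (thompsonSubgroupOf p (S : Subgroup K))) :=
        Subgroup.map_mono hAJ
      have h2 : cj c₀⁻¹ (cj c₀ (thompsonSubgroupOf p (S : Subgroup K))) =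
          thompsonSubgroupOf p (S : Subgroup K) := by
        have := map_conj_map_conj_inv c₀⁻¹ (thompsonSubgroupOf p (S : Subgroup K))
        rwa [inv_inv] at this
      rw [h2] at h1
      exact h1.trans (Subgroup.le_normalizer.trans hNL)
    have hAH : A.map (holπ W) ≤ (thompsonSubgroup p K).map (holπ W) :=
      Subgroup.map_mono (maxElemAb_le_thompson hA)
    have hBO : IsBestOffenderOn p (holV W) (A.map (holπ W)) :=
      isBestOffenderOn_map_holπ W (Cfsg.Agent.S0606.result W hWe A hA)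
    obtain ⟨k, B, hB, -, hsup⟩ := c.ff.exists_decomp _ _ rfl hAH hBO
    have hAL : A.map (holπ W) ≤ L.map (holπ W) := by
      rw [← hsup]
      apply iSup_le
      intro i
      apply c.minBO_le_of_conj_le ((hB i).1.trans hAH) (hB i).2 hfix
        (Subgroup.mem_map_of_mem (holπ W) hc₀)
      have h1 : cj (holπ W c₀)⁻¹ (B i) ≤ cj (holπ W c₀)⁻¹ (A.map (holπ W)) :=
        Subgroup.map_mono (hB i).1
      refine h1.trans ?_
      rintro _ ⟨_, ⟨a, ha, rfl⟩, rfl⟩
      refine ⟨c₀⁻¹ * a * c₀, hconj ?_, ?_⟩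
      · have := conj_mem_cj ha c₀⁻¹
        rwa [inv_inv] at this
      · simp [map_mul]
    intro a ha
    exact hcomap a (hAL (Subgroup.mem_map_of_mem _ ha))
  have hJ : thompsonSubgroup p K ≤ L := sSup_le hA
  rw [eq_top_iff]
  intro g _
  obtain ⟨c₀, hc₀, hcS⟩ := exists_thompson_conj S g
  rw [thompsonSubgroupOf_smul] at hcS
  have hn : c₀⁻¹ * g ∈ Subgroup.normalizer (thompsonSubgroupOf p (S : Subgroup K) : Set K) := by
    rw [mem_normalizer_iff_cj_eq]
    unfold cj at hcS ⊢
    rw [← map_conj_map_conj, ← hcS]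
    have := map_conj_map_conj_inv c₀⁻¹ (thompsonSubgroupOf p (S : Subgroup K))
    rwa [inv_inv] at this
  have e : g = c₀ * (c₀⁻¹ * g) := by group
  rw [e]
  exact L.mul_mem (hJ hc₀) (hNL hn)

section concrete

variable {G : Type*} [Group G]

/-- conjugation by the elements of `N(H)`, as a homomorphism to `Aut H` -/
def conjAutHom (H : Subgroup G) : ↥(Subgroup.normalizer (H : Set G)) →* MulAut ↥H where
  toFun n := conjAut H n n.2
  map_one' := by
    ext h
    simp
  map_mul' a b := by
    ext h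
    simp [mul_assoc]

/-- the group of automorphisms of `H` induced by `X ≤ N(H)` -/
def opGroup (H X : Subgroup G) : Subgroup (MulAut ↥H) :=
  (X.subgroupOf (Subgroup.normalizer (H : Set G))).map (conjAutHom H)

theorem fixSub_opGroup (H X : Subgroup G) (hXH : X ≤ Subgroup.normalizer (H : Set G)) :
    fixSub (opGroup H X) = (Subgroup.centralizer (X : Set G)).subgroupOf H := by
  ext h
  rw [mem_fixSub, Subgroup.mem_subgroupOf, Subgroup.mem_centralizer_iff]
  constructor
  · intro hh x hx
    have h1 := hh _ ⟨⟨x, hXH hx⟩, hx, rfl⟩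
    have h2 : x * (h : G) * x⁻¹ = h := congrArg Subtype.val h1
    calc x * (h : G) = (x * h * x⁻¹) * x := by group
      _ = h * x := by rw [h2]
  · rintro hh _ ⟨n, hn, rfl⟩
    apply Subtype.ext
    have h1 : (n : G) * (h : G) = h * n := hh n hn
    show (n : G) * h * (n : G)⁻¹ = h
    rw [h1]; group

theorem isPGroup_opGroup {q : ℕ} (H X : Subgroup G) (hX : IsElementaryAbelian q X) :
    IsPGroup q (opGroup H X) :=
  ((elemAb_isPGroup hX).comap_subtype).map _

end concrete

end Cfsg.Agent.Lib.Helper10
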