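import Mathlib
import Cfsg.Prelude.Def_Transfer
import Cfsg.Prelude.Def_Local
import Cfsg.Prelude.Def_PLocal
import Cfsg.Agent.Lib.Helper10.CoprimeOp

set_option autoImplicit false
open Cfsg

/-! Coprime operator groups: `SL₂(p)` among the fixed points (abstract form). -/

namespace Cfsg.Agent.Lib.Helper10

open scoped commutatorElement
open Cfsg.Agent.Lib.Helper10.FFHyp

variable {K : Type*} [Group K] [Finite K] {p q : ℕ} [Fact p.Prime] [Fact q.Prime]

/-- **`SL₂(p)` in the fixed points** (abstract form). -/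
theorem sl2_of_coprime (hsep : IsPSolvable p K) (hO : pPrimeCore p K = ⊥)
    (Φ : Subgroup (MulAut K)) (hΦ : IsPGroup q Φ) (hq : ¬ q ∣ Nat.card K)
    (hnf : ¬ IsThompsonFactorizable p K) :
    (p = 2 ∨ p = 3) ∧ ∃ W₁ D₁ : Subgroup K, W₁ ≤ fixSub Φ ∧ D₁ ≤ fixSub Φ ∧
      IsElementaryAbelian p W₁ ∧ Nat.card W₁ = p ^ 2 ∧
      D₁ ≤ Subgroup.normalizer (W₁ : Set K) ∧
      ∃ _hn : ((Subgroup.centralizer (W₁ : Set K)).subgroupOf D₁).Normal,
        Nonempty (↥D₁ ⧸ (Subgroup.centralizer (W₁ : Set K)).subgroupOf D₁ ≃*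
          Matrix.SpecialLinearGroup (Fin 2) (ZMod p)) := by
  have hc := Cfsg.Agent.Lib.Helper76.centralizer_pCore_le_of_isPSolvable hsep hO
  obtain ⟨hWn, hWe, hWD⟩ := Cfsg.Agent.S0601.result (G := K) (p := p) hc
  have hJC := (not_congr (Cfsg.Agent.S0608.result (G := K) (p := p) hO)).mp hnf
  obtain ⟨W, hW⟩ : ∃ W : Subgroup K, W = ⨆ S : Sylow p K,
      omegaOne p ((S : Subgroup K) ⊓ Subgroup.centralizer ((S : Subgroup K) : Set K)) := ⟨_, rfl⟩
  haveI hWc : W.Characteristic := by rw [hW]; exact iSup_omegaZ_characteristic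
  rw [← hW] at hWn hWe hWD hJC
  haveI := hWn
  have hOq : pCore p (K ⧸ Subgroup.centralizer (W : Set K)) = ⊥ :=
    Cfsg.Agent.S0618.pCore_quotient_eq_bot _ hWD
  have c := ffop_of_char W hWe hsep hOq Φ hΦ hq
  obtain ⟨H', hH'⟩ : ∃ H' : Subgroup (Hol W), H' = (thompsonSubgroup p K).map (holπ W) := ⟨_, rfl⟩
  obtain ⟨Y, hY⟩ : ∃ Y : Subgroup (Hol W), Y = Φ.map (holξ W) := ⟨_, rfl⟩
  rw [← hH', ← hY] at c
  have hH1 : H' ≠ ⊥ := by
    intro hbot
    apply hJC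
    intro x hx
    rw [← holπ_eq_one_iff W, ← Subgroup.mem_bot, ← hbot, hH']
    exact Subgroup.mem_map_of_mem _ hx
  obtain ⟨A', hA'1⟩ : ∃ A' : {A : Subgroup (Hol W) // A ≤ H' ∧ IsBestOffenderOn p (holV W) A},
      (A' : Subgroup (Hol W)) ≠ ⊥ := by
    by_contra hcon
    push Not at hcon
    apply hH1
    rw [c.gen, eq_bot_iff]
    exact iSup_le (fun A' => (hcon A').le)
  obtain ⟨B, hBA', hB⟩ := exists_isMinBO A'.2.2 hA'1
  have hBH : B ≤ H' := hBA'.trans A'.2.1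
  obtain ⟨hp23, -⟩ := c.ff.ffE_facts hBH hB
  obtain ⟨W₀, hW₀, hW₀card, hD₀N, hn₀, ⟨e₀⟩⟩ := c.exists_sl2_fixed hBH hB
  refine ⟨hp23, ?_⟩
  obtain ⟨W₁, hW₁⟩ : ∃ W₁ : Subgroup K, W₁ =
      (W₀.comap (SemidirectProduct.inl : ↥W →* Hol W)).map W.subtype := ⟨_, rfl⟩
  obtain ⟨D₁, hD₁⟩ : ∃ D₁ : Subgroup K, D₁ = fixSub Φ ⊓ H'.comap (holπ W) := ⟨_, rfl⟩
  have hmemW₁ : ∀ x : K, x ∈ W₁ ↔ ∃ w : ↥W, (SemidirectProduct.inl w : Hol W) ∈ W₀ ∧ (w : K) = x := by
    intro x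
    rw [hW₁, Subgroup.mem_map]
    constructor
    · rintro ⟨w, hw, rfl⟩
      exact ⟨w, hw, rfl⟩
    · rintro ⟨w, hw, rfl⟩
      exact ⟨w, hw, rfl⟩
  have hW₀inl : ∀ y ∈ W₀, ∃ w : ↥W, (SemidirectProduct.inl w : Hol W) = y := by
    intro y hy
    exact mem_holV.mp (hW₀ hy).1
  have hW₁fix : W₁ ≤ fixSub Φ := by
    intro x hx
    obtain ⟨w, hw, rfl⟩ := (hmemW₁ x).mp hx
    intro φ hφ
    have hξ : holξ W φ ∈ Y := by rw [hY]; exact Subgroup.mem_map_of_mem _ hφ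
    have h1 := Subgroup.mem_centralizer_iff.mp (hW₀ hw).2 _ hξ
    have h2 : holξ W φ * SemidirectProduct.inl w * (holξ W φ)⁻¹ = SemidirectProduct.inl w := by
      rw [h1]; group
    rw [holξ_conj_inl] at h2
    have h3 := SemidirectProduct.inl_injective h2
    have h4 := congrArg Subtype.val h3
    rwa [MulAut.characteristic_apply_apply_coe] at h4
  have hπD₀ : ∀ k ∈ D₁, holπ W k ∈ H' ⊓ Subgroup.centralizer (Y : Set (Hol W)) := by
    intro k hk
    rw [hD₁] at hk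
    refine ⟨hk.2, ?_⟩
    show holπ W k ∈ Subgroup.centralizer (Y : Set (Hol W))
    rw [Subgroup.mem_centralizer_iff]
    rintro y hy
    rw [hY] at hy
    obtain ⟨φ, hφ, rfl⟩ := hy
    have h1 := holξ_conj_holπ W φ k
    rw [hk.1 φ hφ] at h1
    calc holξ W φ * holπ W k = (holξ W φ * holπ W k * (holξ W φ)⁻¹) * holξ W φ := by group
      _ = holπ W k * holξ W φ := by rw [h1]
  have hconj : ∀ k ∈ D₁, ∀ x ∈ W₁, k * x * k⁻¹ ∈ W₁ := by
    intro k hk x hx
    obtain ⟨w, hw, rfl⟩ := (hmemW₁ x).mp hx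
    have h1 := (Subgroup.mem_normalizer_iff.mp (hD₀N (hπD₀ k hk)) _).mp hw
    rw [holπ_conj] at h1
    exact (hmemW₁ _).mpr ⟨_, h1, by rw [MulAut.conjNormal_apply]⟩
  have hD₁N : D₁ ≤ Subgroup.normalizer (W₁ : Set K) := le_normalizer_of_forall_conj_mem hconj
  have hcard : Nat.card W₁ = p ^ 2 := by
    rw [hW₁, Subgroup.card_map_of_injective W.subtype_injective, ← hW₀card]
    have h1 : (W₀.comap (SemidirectProduct.inl : ↥W →* Hol W)).map SemidirectProduct.inl = W₀ := by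
      apply Subgroup.map_comap_eq_self
      intro y hy
      obtain ⟨w, rfl⟩ := hW₀inl y hy
      exact ⟨w, rfl⟩
    conv_rhs => rw [← h1]
    exact (Subgroup.card_map_of_injective SemidirectProduct.inl_injective).symm
  have hW₁e : IsElementaryAbelian p W₁ := by
    apply elemAb_of_le hWe
    rw [hW₁]
    exact Subgroup.map_subtype_le _
  -- the isomorphism
  let f₀ : ↥D₁ →* ↥(H' ⊓ Subgroup.centralizer (Y : Set (Hol W))) :=
    ((holπ W).comp D₁.subtype).codRestrict _ (fun k => hπD₀ k.1 k.2)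
  let f : ↥D₁ →* ↥(H' ⊓ Subgroup.centralizer (Y : Set (Hol W))) ⧸
      (Subgroup.centralizer (W₀ : Set (Hol W))).subgroupOf
        (H' ⊓ Subgroup.centralizer (Y : Set (Hol W))) := (QuotientGroup.mk' _).comp f₀
  have hf : Function.Surjective f := by
    intro y
    obtain ⟨d, rfl⟩ := QuotientGroup.mk_surjective y
    have hdr : (d : Hol W) ∈ (holπ W).range := by
      have h1 : (d : Hol W) ∈ H' := d.2.1
      have h2 : H' ≤ (holπ W).range := by rw [hH']; exact Subgroup.map_le_range _ _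
      exact h2 h1
    have hdY : (d : Hol W) ∈ Subgroup.centralizer ((Φ.map (holξ W) : Subgroup (Hol W)) : Set (Hol W)) := by
      rw [← hY]; exact d.2.2
    obtain ⟨k, hk, hkd⟩ := exists_fixed_lift W Φ hΦ hq hdr hdY
    have hkD : k ∈ D₁ := by
      rw [hD₁]
      refine ⟨hk, ?_⟩
      show holπ W k ∈ H'
      rw [hkd]
      exact d.2.1
    refine ⟨⟨k, hkD⟩, ?_⟩
    have h3 : f₀ ⟨k, hkD⟩ = d := Subtype.ext hkd
    show (QuotientGroup.mk' _) (f₀ ⟨k, hkD⟩) = _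
    rw [h3]
    rfl
  have hker : f.ker = (Subgroup.centralizer (W₁ : Set K)).subgroupOf D₁ := by
    ext x
    rw [MonoidHom.mem_ker, Subgroup.mem_subgroupOf]
    show (QuotientGroup.mk' _) (f₀ x) = 1 ↔ _
    rw [QuotientGroup.mk'_apply, QuotientGroup.eq_one_iff, Subgroup.mem_subgroupOf]
    show holπ W (x : K) ∈ Subgroup.centralizer (W₀ : Set (Hol W)) ↔ _
    rw [Subgroup.mem_centralizer_iff, Subgroup.mem_centralizer_iff]
    constructor
    · intro h y hy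
      obtain ⟨w, hw, rfl⟩ := (hmemW₁ y).mp hy
      have h1 := h _ hw
      exact ((holπ_conj_eq_iff W).mp h1.symm).symm
    · intro h y hy
      obtain ⟨w, rfl⟩ := hW₀inl y hy
      have h1 := h (w : K) ((hmemW₁ _).mpr ⟨w, hy, rfl⟩)
      exact ((holπ_conj_eq_iff W).mpr h1.symm).symm
  have hn : ((Subgroup.centralizer (W₁ : Set K)).subgroupOf D₁).Normal := by
    rw [← hker]; exact MonoidHom.normal_ker f
  refine ⟨W₁, D₁, hW₁fix, ?_, hW₁e, hcard, hD₁N, hn, ?_⟩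
  · rw [hD₁]; exact inf_le_left
  · exact ⟨((QuotientGroup.quotientMulEquivOfEq hker.symm).trans
      (QuotientGroup.quotientKerEquivOfSurjective f hf)).trans e₀⟩

end Cfsg.Agent.Lib.Helper10
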