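import Mathlib
import Cfsg.Prelude.Def_Solvable
import Cfsg.Agent.Lib.Helper10.Card
import Cfsg.Agent.Lib.Helper10.SylowIn
import Cfsg.Agent.Lib.Helper96.FrobeniusConj

set_option autoImplicit false

namespace Cfsg.Agent.Lib.Helper10

open Pointwise

variable {Q : Type*} [Group Q]

/-- a maximal complement `H` of a normal subgroup `K` leaves no proper nontrivial subgroup of `K`
invariant -/
theorem invariant_sub_of_coatom_compl [Finite Q] {K H L : Subgroup Q}
    (hKc : Subgroup.IsComplement' K H) (hH : IsCoatom H) (hLK : L ≤ K)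
    (hHL : H ≤ Subgroup.normalizer (L : Set Q)) : L = ⊥ ∨ L = K := by
  have hdisj : K ⊓ H = ⊥ := hKc.disjoint.eq_bot
  have hle : H ≤ H ⊔ L := le_sup_left
  rcases hH.le_iff.mp hle with h1 | h1
  · right
    have hc := card_sup_mul_card_inf hHL
    have hHL0 : H ⊓ L = ⊥ := by
      rw [eq_bot_iff, ← hdisj, inf_comm]
      exact inf_le_inf_right H hLK
    rw [h1, hHL0, Subgroup.card_bot, mul_one, Subgroup.card_top, ← hKc.card_mul_card, mul_comm] at hc
    have hpos : 0 < Nat.card H := Nat.card_pos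
    have hcard : Nat.card K = Nat.card L := Nat.eq_of_mul_eq_mul_left hpos hc
    exact Subgroup.eq_of_le_of_card_ge hLK (le_of_eq hcard)
  · left
    have hLH : L ≤ H := by rw [← h1]; exact le_sup_right
    rw [eq_bot_iff, ← hdisj]
    exact le_inf hLK hLH

theorem conj_mem_normalizer' [Finite Q] (A B : Subgroup Q) (m u : Q)
    (hAB : MulAut.conj m • A = B) (hu : u ∈ Subgroup.normalizer (A : Set Q)) :
    m * u * m⁻¹ ∈ Subgroup.normalizer (B : Set Q) := by
  subst hAB
  apply Subgroup.mem_normalizer_fintype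
  intro b hb
  rw [SetLike.mem_coe, mem_conj_smul_iff'] at hb ⊢
  have h1 : u * (m⁻¹ * b * m) * u⁻¹ ∈ A := (Subgroup.mem_normalizer_iff.mp hu _).mp hb
  have : m⁻¹ * (m * u * m⁻¹ * b * (m * u * m⁻¹)⁻¹) * m = u * (m⁻¹ * b * m) * u⁻¹ := by group
  rw [this]; exact h1

/-- the kernel of a Frobenius group with a maximal complement is a `p`-group -/
theorem kernel_isPGroup_of_coatom [Finite Q] (H K : Subgroup Q)
    (hF : Cfsg.IsFrobeniusComplement H) (hK : (K : Set Q) = Cfsg.frobeniusKernel H)
    [hKn : K.Normal] (hKc : Subgroup.IsComplement' K H) (hH : IsCoatom H) :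
    ∃ p : ℕ, p.Prime ∧ IsPGroup p K := by
  have hcardQ := hKc.card_mul_card
  have hKH : (Nat.card K).Coprime (Nat.card H) := by
    have := Cfsg.Agent.Lib.Helper96.coprime_index_card hF
    rwa [hKc.index_eq_card] at this
  have hK1 : Nat.card K ≠ 1 := by
    intro h1
    rw [h1, one_mul] at hcardQ
    exact hH.1 ((Subgroup.card_eq_iff_eq_top H).mp hcardQ)
  obtain ⟨p, hp, hpdvd⟩ := Nat.exists_prime_and_dvd hK1
  haveI : Fact p.Prime := ⟨hp⟩
  refine ⟨p, hp, ?_⟩
  obtain ⟨P₀⟩ : Nonempty (Sylow p K) := inferInstance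
  have hfr : Subgroup.normalizer (((P₀ : Subgroup K).map K.subtype : Subgroup Q) : Set Q) ⊔ K = ⊤ :=
    Sylow.normalizer_sup_eq_top P₀
  set P : Subgroup Q := (P₀ : Subgroup K).map K.subtype with hP
  set N : Subgroup Q := Subgroup.normalizer (P : Set Q) with hN
  have hcardP : Nat.card P = p ^ (Nat.card K).factorization p := by
    rw [hP, Subgroup.card_map_of_injective K.subtype_injective]
    exact P₀.card_eq_multiplicity
  have hPK : P ≤ K := Subgroup.map_subtype_le _
  haveI hM'n : (K.subgroupOf N).Normal := inferInstance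
  have hidx : (K.subgroupOf N).index = Nat.card H := by
    show K.relIndex N = _
    rw [← Subgroup.relIndex_sup_right, hfr, Subgroup.relIndex_top_right, hKc.symm.index_eq_card]
  have hcardM : Nat.card (K.subgroupOf N) ∣ Nat.card K :=
    Subgroup.card_comap_dvd_of_injective K N.subtype N.subtype_injective
  have hcop : (Nat.card (K.subgroupOf N)).Coprime (K.subgroupOf N).index := by
    rw [hidx]; exact Nat.Coprime.coprime_dvd_left hcardM hKH
  obtain ⟨H₁', hH₁'⟩ := Subgroup.exists_right_complement'_of_coprime hcop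
  set H₁ : Subgroup Q := H₁'.map N.subtype with hH₁
  have hcardH₁ : Nat.card H₁ = Nat.card H := by
    rw [hH₁, Subgroup.card_map_of_injective N.subtype_injective, ← hidx]
    exact hH₁'.symm.index_eq_card.symm
  have hH₁K : H₁ ⊓ K = ⊥ := by
    apply disjoint_iff.mp
    apply Subgroup.disjoint_of_coprime_natCard
    rw [hcardH₁]; exact hKH.symm
  have hall : ∀ x ∈ H₁, x ≠ 1 → ∃ g : Q, x ∈ MulAut.conj g • H := by
    intro x hx hx1
    have hxK : x ∉ K := by
      intro hxK
      have : x ∈ H₁ ⊓ K := ⟨hx, hxK⟩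
      rw [hH₁K, Subgroup.mem_bot] at this
      exact hx1 this
    have hxk : x ∉ Cfsg.frobeniusKernel H := by rw [← hK]; exact hxK
    exact (Cfsg.Agent.Lib.Helper96.exists_conj_of_not_mem_kernel H hxk).2
  obtain ⟨g, hg⟩ := Cfsg.Agent.Lib.Helper96.conj_of_forall_mem_conj H H₁ hF hcardH₁ hall
  have hH₁N : H₁ ≤ N := Subgroup.map_subtype_le _
  set P' : Subgroup Q := MulAut.conj g⁻¹ • P with hP'
  have hHP' : H ≤ Subgroup.normalizer (P' : Set Q) := by
    intro h hh
    have h1 : g * h * g⁻¹ ∈ H₁ := by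
      rw [hg, mem_conj_smul_iff']
      have : g⁻¹ * (g * h * g⁻¹) * g = h := by group
      rw [this]; exact hh
    have h2 := conj_mem_normalizer' P P' g⁻¹ (g * h * g⁻¹) rfl (hH₁N h1)
    have e : g⁻¹ * (g * h * g⁻¹) * g⁻¹⁻¹ = h := by group
    rwa [e] at h2
  have hP'K : P' ≤ K := by
    intro x hx
    rw [hP', mem_conj_smul_iff', inv_inv] at hx
    have h1 := hPK hx
    have h2 := hKn.conj_mem _ h1 g⁻¹
    have e : g⁻¹ * (g * x * g⁻¹) * g⁻¹⁻¹ = x := by group
    rwa [e] at h2
  have hcardP' : Nat.card P' = Nat.card P :=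
    Subgroup.card_map_of_injective (MulAut.conj g⁻¹).injective
  have hk0 : (Nat.card K).factorization p ≠ 0 := by
    have hKpos : Nat.card K ≠ 0 := Nat.card_pos.ne'
    exact (Nat.Prime.factorization_pos_of_dvd hp hKpos hpdvd).ne'
  rcases invariant_sub_of_coatom_compl hKc hH hP'K hHP' with h0 | h0
  · exfalso
    rw [h0, Subgroup.card_bot] at hcardP'
    rw [hcardP] at hcardP'
    have : 1 < p ^ (Nat.card K).factorization p := Nat.one_lt_pow hk0 hp.one_lt
    omega
  · have e : Nat.card K = Nat.card P' := by rw [h0]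
    exact IsPGroup.of_card (n := (Nat.card K).factorization p) (e.trans (hcardP'.trans hcardP))

/-- the kernel of a Frobenius group with a maximal complement is abelian -/
theorem kernel_comm_of_coatom [Finite Q] (H K : Subgroup Q)
    (hF : Cfsg.IsFrobeniusComplement H) (hK : (K : Set Q) = Cfsg.frobeniusKernel H)
    [hKn : K.Normal] (hKc : Subgroup.IsComplement' K H) (hH : IsCoatom H) :
    ∀ x ∈ K, ∀ y ∈ K, x * y = y * x := by
  obtain ⟨p, hp, hKp⟩ := kernel_isPGroup_of_coatom H K hF hK hKc hH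
  haveI : Fact p.Prime := ⟨hp⟩
  have hKne : K ≠ ⊥ := by
    intro hb
    have hcardQ := hKc.card_mul_card
    rw [hb, Subgroup.card_bot, one_mul] at hcardQ
    exact hH.1 ((Subgroup.card_eq_iff_eq_top H).mp hcardQ)
  haveI : Nontrivial K := (Subgroup.nontrivial_iff_ne_bot K).mpr hKne
  have hcn : Nontrivial (Subgroup.center K) := hKp.center_nontrivial
  obtain ⟨z, hz1⟩ := exists_ne (1 : Subgroup.center K)
  set Z : Subgroup Q := K ⊓ Subgroup.centralizer (K : Set Q) with hZ
  haveI hZn : Z.Normal := inferInstance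
  have hzZ : ((z : K) : Q) ∈ Z := by
    refine Subgroup.mem_inf.mpr ⟨(z : K).2, ?_⟩
    rw [Subgroup.mem_centralizer_iff]
    intro k hk
    have := Subgroup.mem_center_iff.mp z.2 ⟨k, hk⟩
    exact congrArg Subtype.val this
  have hZne : Z ≠ ⊥ := by
    intro hb
    rw [hb, Subgroup.mem_bot] at hzZ
    apply hz1
    apply Subtype.ext
    apply Subtype.ext
    simpa using hzZ
  have hHZ : H ≤ Subgroup.normalizer (Z : Set Q) := by
    rw [Subgroup.normalizer_eq_top_iff.mpr hZn]; exact le_top
  rcases invariant_sub_of_coatom_compl hKc hH inf_le_left hHZ with h0 | h0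
  · exact absurd h0 hZne
  · intro x hx y hy
    have hy' : y ∈ Z := h0.symm.le hy
    exact Subgroup.mem_centralizer_iff.mp (Subgroup.mem_inf.mp hy').2 x hx

end Cfsg.Agent.Lib.Helper10
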