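import Mathlib
import Cfsg.Prelude.Def_ClassicalGeometry
import Cfsg.Agent.Lib.Helper4.NdDefs
import Cfsg.Agent.Lib.Helper8.SpIrredElt

set_option autoImplicit false
open Matrix
open Cfsg.Agent.Lib.Helper99 (Nd dker sympB shiftEnd)

/-! ND-A9 (helper10): the model unipotent isometry with Jordan type `pc e` (Cayley transform of an
explicit skew-adjoint nilpotent operator). -/

namespace Cfsg.Agent.Lib.Helper4.NdH

universe u v

section general

variable {F : Type*} [Field F] {V : Type*} [AddCommGroup V] [Module F V]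

theorem a9_swap (B : V →ₗ[F] V →ₗ[F] F) (hB : Alt B) (x y : V) : B x y = - B y x := by
  have h := hB (x + y)
  simp only [map_add, LinearMap.add_apply, hB x, hB y, zero_add, add_zero] at h
  exact eq_neg_of_add_eq_zero_right h

theorem a9_nondeg (B : V →ₗ[F] V →ₗ[F] F) (hB : Alt B) (hV : Nd B ⊤) :
    LinearMap.BilinForm.Nondegenerate B := by
  refine ⟨fun x hx => hV x Submodule.mem_top (fun y _ => hx y), fun y hy => ?_⟩
  refine hV y Submodule.mem_top (fun x _ => ?_)
  rw [a9_swap B hB, hy x, neg_zero]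

/-- two nondegenerate alternating spaces of the same (even) dimension are isometric -/
theorem a9_iso {V' : Type*} [AddCommGroup V'] [Module F V'] [FiniteDimensional F V]
    [FiniteDimensional F V'] (B : V →ₗ[F] V →ₗ[F] F) (hB : Alt B) (hV : Nd B ⊤)
    (B' : V' →ₗ[F] V' →ₗ[F] F) (hB' : Alt B') (hV' : Nd B' ⊤) (N : ℕ)
    (h : Module.finrank F V = 2 * N) (h' : Module.finrank F V' = 2 * N) :
    ∃ Θ : V ≃ₗ[F] V', ∀ a b, B' (Θ a) (Θ b) = B a b := by
  obtain ⟨Θ1, h1⟩ := Cfsg.Agent.Lib.Helper8.exists_symp_coords_gen B hB (a9_nondeg B hB hV) N h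
  obtain ⟨Θ2, h2⟩ := Cfsg.Agent.Lib.Helper8.exists_symp_coords_gen B' hB' (a9_nondeg B' hB' hV') N h'
  refine ⟨Θ1.trans Θ2.symm, fun a b => ?_⟩
  rw [← h2, ← h1]
  simp

/-- Cayley transform of a nilpotent skew-adjoint operator -/
theorem a9_cayley (h2 : (2 : F) ≠ 0) (B : V →ₗ[F] V →ₗ[F] F) (M : Module.End F V)
    (hskew : ∀ x y, B (M x) y = - B x (M y)) (e : ℕ) (hM : M ^ e = 0) :
    ∃ u : V →ₗ[F] V, Isom B u ∧ (u - 1 : Module.End F V) ^ e = 0 ∧
      ∀ k, dker (u - 1 : Module.End F V) k = dker M k := by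
  set M₂ : Module.End F V := (2 : F)⁻¹ • M with hM₂
  have hnil : IsNilpotent M₂ := ⟨e, by rw [hM₂, smul_pow, hM, smul_zero]⟩
  obtain ⟨U, hU⟩ := hnil.isUnit_one_sub
  have hskew₂ : ∀ x y, B (M₂ x) y = - B x (M₂ y) := by
    intro x y
    rw [hM₂, LinearMap.smul_apply, LinearMap.smul_apply, map_smul, map_smul, LinearMap.smul_apply,
      hskew, smul_neg]
  have h2M : M = M₂ + M₂ := by
    rw [hM₂, ← add_smul, ← two_mul, mul_inv_cancel₀ h2, one_smul]
  have hUi : ∀ x : V, (1 - M₂) ((↑U⁻¹ : Module.End F V) x) = x := by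
    intro x
    rw [← hU, ← Module.End.mul_apply, Units.mul_inv, Module.End.one_apply]
  refine ⟨(1 + M₂) * (↑U⁻¹ : Module.End F V), ?_, ?_, ?_⟩
  · intro x y
    set x' := (↑U⁻¹ : Module.End F V) x with hx'
    set y' := (↑U⁻¹ : Module.End F V) y with hy'
    have hx : x = (1 - M₂) x' := (hUi x).symm
    have hy : y = (1 - M₂) y' := (hUi y).symm
    rw [Module.End.mul_apply, Module.End.mul_apply, ← hx', ← hy']
    conv_rhs => rw [hx, hy]
    simp only [LinearMap.add_apply, LinearMap.sub_apply, Module.End.one_apply, map_add, map_sub]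
    rw [hskew₂ x' y']
    ring
  · have hsub : ((1 + M₂) * (↑U⁻¹ : Module.End F V) - 1 : Module.End F V) = M * (↑U⁻¹ : Module.End F V) := by
      have h1 : (1 - M₂) * (↑U⁻¹ : Module.End F V) = 1 := by rw [← hU, Units.mul_inv]
      calc ((1 + M₂) * (↑U⁻¹ : Module.End F V) - 1 : Module.End F V)
          = (1 + M₂) * (↑U⁻¹ : Module.End F V) - (1 - M₂) * (↑U⁻¹ : Module.End F V) := by rw [h1]
        _ = (M₂ + M₂) * (↑U⁻¹ : Module.End F V) := by
            rw [← sub_mul]
            congr 1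
            abel
        _ = M * (↑U⁻¹ : Module.End F V) := by rw [← h2M]
    have hcomm : Commute M (↑U⁻¹ : Module.End F V) := by
      apply Commute.units_inv_right
      rw [hU, hM₂]
      exact (Commute.one_right M).sub_right ((Commute.refl M).smul_right _)
    rw [hsub, hcomm.mul_pow, hM, zero_mul]
  · intro k
    have hsub : ((1 + M₂) * (↑U⁻¹ : Module.End F V) - 1 : Module.End F V) = M * (↑U⁻¹ : Module.End F V) := by
      have h1 : (1 - M₂) * (↑U⁻¹ : Module.End F V) = 1 := by rw [← hU, Units.mul_inv]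
      calc ((1 + M₂) * (↑U⁻¹ : Module.End F V) - 1 : Module.End F V)
          = (1 + M₂) * (↑U⁻¹ : Module.End F V) - (1 - M₂) * (↑U⁻¹ : Module.End F V) := by rw [h1]
        _ = (M₂ + M₂) * (↑U⁻¹ : Module.End F V) := by
            rw [← sub_mul]
            congr 1
            abel
        _ = M * (↑U⁻¹ : Module.End F V) := by rw [← h2M]
    have hcomm : Commute M (↑U⁻¹ : Module.End F V) := by
      apply Commute.units_inv_right
      rw [hU, hM₂]
      exact (Commute.one_right M).sub_right ((Commute.refl M).smul_right _)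
    unfold dker
    rw [hsub, hcomm.mul_pow, (hcomm.pow_pow k k).eq, ← Units.val_pow_eq_pow_val]
    have hker : LinearMap.ker ((↑(U⁻¹ ^ k) : Module.End F V) * M ^ k) = LinearMap.ker (M ^ k) := by
      rw [Module.End.mul_eq_comp]
      apply LinearMap.ker_comp_of_ker_eq_bot
      rw [LinearMap.ker_eq_bot]
      intro a b hab
      have := congrArg (fun z => (↑(U⁻¹ ^ k)⁻¹ : Module.End F V) z) hab
      simp only [← Module.End.mul_apply, Units.inv_mul, Module.End.one_apply] at this
      exact this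
    rw [hker]

/-- transport of a model `(V', B', M')` to `(V, B)` followed by the Cayley transform -/
theorem a9_transport {V' : Type*} [AddCommGroup V'] [Module F V'] [FiniteDimensional F V]
    [FiniteDimensional F V'] (h2 : (2 : F) ≠ 0) (B : V →ₗ[F] V →ₗ[F] F) (hB : Alt B) (hV : Nd B ⊤)
    (B' : V' →ₗ[F] V' →ₗ[F] F) (hB' : Alt B') (hV' : Nd B' ⊤) (N : ℕ)
    (h : Module.finrank F V = 2 * N) (h' : Module.finrank F V' = 2 * N)
    (M' : Module.End F V') (hskew : ∀ x y, B' (M' x) y = - B' x (M' y)) (e : ℕ) (hM : M' ^ e = 0) :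
    ∃ u : V →ₗ[F] V, Isom B u ∧ (u - 1 : Module.End F V) ^ e = 0 ∧
      ∀ k, dker (u - 1 : Module.End F V) k = dker M' k := by
  obtain ⟨Θ, hΘ⟩ := a9_iso B hB hV B' hB' hV' N h h'
  set M : Module.End F V := Θ.symm.conj M' with hMdef
  have hconj : ∀ w, M' (Θ w) = Θ (M w) := by
    intro w
    rw [hMdef, LinearEquiv.conj_apply]
    simp
  have hskewM : ∀ x y, B (M x) y = - B x (M y) := by
    intro x y
    rw [← hΘ, ← hconj, hskew, hconj, hΘ]
  have hMe : M ^ e = 0 := by
    ext w
    apply Θ.injective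
    rw [← Cfsg.Agent.Lib.Helper99.pow_conj_apply Θ M M' hconj, hM]
    simp
  obtain ⟨u, hu1, hu2, hu3⟩ := a9_cayley h2 B M hskewM e hMe
  refine ⟨u, hu1, hu2, fun k => ?_⟩
  rw [hu3, Cfsg.Agent.Lib.Helper99.dker_conj Θ M M' hconj]

end general

section models

variable (F : Type*) [Field F]

/-- the weighted reversal form `∑ c i * x i * y (rev i)` on `Fin n → F` -/
noncomputable def a9_formC (n : ℕ) (c : ℕ → F) : (Fin n → F) →ₗ[F] (Fin n → F) →ₗ[F] F :=
  LinearMap.mk₂ F (fun x y => ∑ i : Fin n, c (i : ℕ) * x i * y i.rev)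
    (fun x x' y => by
      simp only [Pi.add_apply, mul_add, add_mul, Finset.sum_add_distrib])
    (fun a x y => by
      simp only [Pi.smul_apply, smul_eq_mul, Finset.mul_sum]
      refine Finset.sum_congr rfl (fun i _ => ?_)
      ring)
    (fun x y y' => by
      simp only [Pi.add_apply, mul_add, Finset.sum_add_distrib])
    (fun a x y => by
      simp only [Pi.smul_apply, smul_eq_mul, Finset.mul_sum]
      refine Finset.sum_congr rfl (fun i _ => ?_)
      ring)

theorem a9_formC_apply (n : ℕ) (c : ℕ → F) (x y : Fin n → F) :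
    a9_formC F n c x y = ∑ i : Fin n, c (i : ℕ) * x i * y i.rev := rfl

theorem a9_shift_castSucc (m : ℕ) (x : Fin (m + 1) → F) (i : Fin m) :
    shiftEnd F (m + 1) x i.castSucc = x i.succ := by
  rw [Cfsg.Agent.Lib.Helper99.shiftEnd_apply, dif_pos (by simp)]
  rfl

theorem a9_shift_last (m : ℕ) (x : Fin (m + 1) → F) :
    shiftEnd F (m + 1) x (Fin.last m) = 0 := by
  rw [Cfsg.Agent.Lib.Helper99.shiftEnd_apply, dif_neg (by simp)]

theorem a9_shift_adj (m : ℕ) (c : ℕ → F) (x y : Fin (m + 1) → F) :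
    ∑ i : Fin (m + 1), c ((i : ℕ) + 1) * (shiftEnd F (m + 1) x) i * y i.rev =
      ∑ i : Fin (m + 1), c (i : ℕ) * x i * (shiftEnd F (m + 1) y) i.rev := by
  rw [Fin.sum_univ_castSucc, Fin.sum_univ_succ, a9_shift_last, Fin.rev_zero, a9_shift_last,
    mul_zero, zero_mul, mul_zero, add_zero, zero_add]
  refine Finset.sum_congr rfl (fun i _ => ?_)
  rw [a9_shift_castSucc, Fin.rev_castSucc, Fin.rev_succ, a9_shift_castSucc]
  simp

theorem a9_shift_pow_eq_zero (n : ℕ) : (shiftEnd F n) ^ n = 0 := by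
  refine LinearMap.ext (fun v => ?_)
  funext i
  rw [Cfsg.Agent.Lib.Helper99.shiftEnd_pow_apply, dif_neg (by omega)]
  rfl

/-- left nondegeneracy of the weighted reversal form -/
theorem a9_formC_left (n : ℕ) (c : ℕ → F) (hc : ∀ i, c i ≠ 0) (x : Fin n → F)
    (hx : ∀ y, a9_formC F n c x y = 0) : x = 0 := by
  classical
  ext i
  have h := hx (Pi.single i.rev 1)
  rw [a9_formC_apply, Finset.sum_eq_single i] at h
  · rw [Pi.single_eq_same, mul_one] at h
    rcases mul_eq_zero.1 h with h | h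
    · exact absurd h (hc _)
    · exact h
  · intro j _ hj
    rw [Pi.single_eq_of_ne (fun hh => hj (Fin.rev_injective hh)), mul_zero]
  · intro hi
    exact absurd (Finset.mem_univ i) hi

/-- right nondegeneracy of the weighted reversal form -/
theorem a9_formC_right (n : ℕ) (c : ℕ → F) (hc : ∀ i, c i ≠ 0) (y : Fin n → F)
    (hy : ∀ x, a9_formC F n c x y = 0) : y = 0 := by
  classical
  ext i
  have h := hy (Pi.single i.rev 1)
  rw [a9_formC_apply, Finset.sum_eq_single i.rev] at h
  · rw [Pi.single_eq_same, mul_one, Fin.rev_rev] at h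
    rcases mul_eq_zero.1 h with h | h
    · exact absurd h (hc _)
    · exact h
  · intro j _ hj
    rw [Pi.single_eq_of_ne hj, mul_zero, zero_mul]
  · intro hi
    exact absurd (Finset.mem_univ _) hi

/-- the sign weight -/
def a9_sgn : ℕ → F := fun i => (-1 : F) ^ i

theorem a9_sgn_ne (i : ℕ) : a9_sgn F i ≠ 0 := pow_ne_zero _ (neg_ne_zero.2 one_ne_zero)

theorem a9_formE_skew (m : ℕ) (x y : Fin (m + 1) → F) :
    a9_formC F (m + 1) (a9_sgn F) (shiftEnd F (m + 1) x) y =
      - a9_formC F (m + 1) (a9_sgn F) x (shiftEnd F (m + 1) y) := by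
  rw [a9_formC_apply, a9_formC_apply, ← a9_shift_adj, ← Finset.sum_neg_distrib]
  refine Finset.sum_congr rfl (fun i _ => ?_)
  unfold a9_sgn
  rw [pow_succ]
  ring

theorem a9_formE_alt (h2 : (2 : F) ≠ 0) (n : ℕ) (hn : Even n) (x : Fin n → F) :
    a9_formC F n (a9_sgn F) x x = 0 := by
  rw [a9_formC_apply]
  set g : Fin n → F := fun i => a9_sgn F (i : ℕ) * x i * x i.rev with hg
  have h1 : ∑ i, g (Fin.revPerm i) = ∑ i, g i := Equiv.sum_comp Fin.revPerm g
  have h3 : ∀ i, g (Fin.revPerm i) = - g i := by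
    intro i
    rw [Fin.revPerm_apply, hg]
    simp only [Fin.rev_rev, Fin.val_rev]
    have hi := i.2
    have hpar : (n - ((i : ℕ) + 1)) % 2 = ((i : ℕ) + 1) % 2 := by
      have := Nat.even_iff.1 hn
      omega
    unfold a9_sgn
    rw [neg_one_pow_eq_pow_mod_two, hpar, ← neg_one_pow_eq_pow_mod_two, pow_succ]
    ring
  have h4 : ∑ i, g i = - ∑ i, g i := by
    conv_lhs => rw [← h1]
    rw [← Finset.sum_neg_distrib]
    exact Finset.sum_congr rfl (fun i _ => h3 i)
  have h5 : (2 : F) * ∑ i, g i = 0 := by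
    rw [two_mul]
    nth_rewrite 1 [h4]
    rw [neg_add_cancel]
  rcases mul_eq_zero.1 h5 with h | h
  · exact absurd h h2
  · exact h

/-- the hyperbolic form on `(Fin n → F) × (Fin n → F)` built from the reversal pairing -/
noncomputable def a9_formO (n : ℕ) :
    ((Fin n → F) × (Fin n → F)) →ₗ[F] ((Fin n → F) × (Fin n → F)) →ₗ[F] F :=
  (a9_formC F n (fun _ => 1)).compl₁₂ (LinearMap.fst F _ _) (LinearMap.snd F _ _) -
    ((a9_formC F n (fun _ => 1)).compl₁₂ (LinearMap.fst F _ _) (LinearMap.snd F _ _)).flip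

theorem a9_formO_apply (n : ℕ) (p q : (Fin n → F) × (Fin n → F)) :
    a9_formO F n p q = a9_formC F n (fun _ => 1) p.1 q.2 - a9_formC F n (fun _ => 1) q.1 p.2 := by
  unfold a9_formO
  rw [LinearMap.sub_apply, LinearMap.sub_apply, LinearMap.flip_apply, LinearMap.compl₁₂_apply,
    LinearMap.compl₁₂_apply]
  rfl

theorem a9_formP_adj (m : ℕ) (x y : Fin (m + 1) → F) :
    a9_formC F (m + 1) (fun _ => 1) (shiftEnd F (m + 1) x) y =
      a9_formC F (m + 1) (fun _ => 1) x (shiftEnd F (m + 1) y) := by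
  rw [a9_formC_apply, a9_formC_apply]
  exact a9_shift_adj F m (fun _ => 1) x y

theorem a9_formO_skew (m : ℕ) (p q : (Fin (m + 1) → F) × (Fin (m + 1) → F)) :
    a9_formO F (m + 1) (((shiftEnd F (m + 1)).prodMap (- shiftEnd F (m + 1))) p) q =
      - a9_formO F (m + 1) p (((shiftEnd F (m + 1)).prodMap (- shiftEnd F (m + 1))) q) := by
  rw [a9_formO_apply, a9_formO_apply]
  simp only [LinearMap.prodMap_apply, LinearMap.neg_apply, map_neg, LinearMap.neg_apply]
  rw [a9_formP_adj, a9_formP_adj]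
  ring

theorem a9_formO_nd (n : ℕ) : Nd (a9_formO F n) ⊤ := by
  intro p _ hp
  have h1 : p.1 = 0 := by
    apply a9_formC_left F n (fun _ => 1) (fun _ => one_ne_zero)
    intro y
    have := hp (0, y) Submodule.mem_top
    rw [a9_formO_apply] at this
    simpa using this
  have h2 : p.2 = 0 := by
    apply a9_formC_right F n (fun _ => 1) (fun _ => one_ne_zero)
    intro x
    have := hp (x, 0) Submodule.mem_top
    rw [a9_formO_apply] at this
    simpa using this
  exact Prod.ext h1 h2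

end models

section main

variable {F : Type u} [Field F] {V : Type v} [AddCommGroup V] [Module F V]

theorem a9_dker_neg {W : Type*} [AddCommGroup W] [Module F W] (T : Module.End F W) (k : ℕ) :
    dker (-T) k = dker T k := by
  unfold dker
  rw [neg_pow]
  rcases neg_one_pow_eq_or (Module.End F W) k with h | h
  · rw [h, one_mul]
  · rw [h, neg_one_mul, LinearMap.ker_neg]

theorem a9_neg_pow_zero {W : Type*} [AddCommGroup W] [Module F W] (T : Module.End F W) (k : ℕ)
    (h : T ^ k = 0) : (-T) ^ k = 0 := by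
  rw [neg_pow, h, mul_zero]

/-- ND-A9 (MODEL) -/
theorem exists_model [FiniteDimensional F V] (h2 : (2 : F) ≠ 0) (B : V →ₗ[F] V →ₗ[F] F)
    (hB : Alt B) (hV : Nd B ⊤) (e : ℕ) (he : 0 < e) (hdim : Module.finrank F V = pdim e) :
    ∃ u : V →ₗ[F] V, Isom B u ∧ (u - 1 : Module.End F V) ^ e = 0 ∧
      HasType (u - 1 : Module.End F V) (pc e) := by
  obtain ⟨m, rfl⟩ : ∃ m, e = m + 1 := ⟨e - 1, by omega⟩
  by_cases hev : Even (m + 1)
  · obtain ⟨N, hN⟩ := id hev
    have hfr : Module.finrank F V = 2 * N := by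
      rw [hdim, pdim, if_pos hev]
      omega
    have hfr' : Module.finrank F (Fin (m + 1) → F) = 2 * N := by
      rw [Module.finrank_fintype_fun_eq_card, Fintype.card_fin]
      omega
    have hnd : Nd (a9_formC F (m + 1) (a9_sgn F)) ⊤ := fun x _ hx =>
      a9_formC_left F (m + 1) (a9_sgn F) (a9_sgn_ne F) x (fun y => hx y Submodule.mem_top)
    obtain ⟨u, hu1, hu2, hu3⟩ := a9_transport h2 B hB hV (a9_formC F (m + 1) (a9_sgn F))
      (a9_formE_alt F h2 (m + 1) hev) hnd N hfr hfr' (shiftEnd F (m + 1)) (a9_formE_skew F m)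
      (m + 1) (a9_shift_pow_eq_zero F (m + 1))
    refine ⟨u, hu1, hu2, fun k => ?_⟩
    rw [hu3, Cfsg.Agent.Lib.Helper99.dker_shiftEnd, pc, if_pos hev]
    simp
  · have hfr : Module.finrank F V = 2 * (m + 1) := by
      rw [hdim, pdim, if_neg hev]
    have hfr' : Module.finrank F ((Fin (m + 1) → F) × (Fin (m + 1) → F)) = 2 * (m + 1) := by
      rw [Module.finrank_prod, Module.finrank_fintype_fun_eq_card, Fintype.card_fin]
      omega
    have halt : Alt (a9_formO F (m + 1)) := by
      intro p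
      rw [a9_formO_apply, sub_self]
    obtain ⟨u, hu1, hu2, hu3⟩ := a9_transport h2 B hB hV (a9_formO F (m + 1)) halt
      (a9_formO_nd F (m + 1)) (m + 1) hfr hfr'
      ((shiftEnd F (m + 1)).prodMap (- shiftEnd F (m + 1))) (a9_formO_skew F m) (m + 1)
      (by
        have hneg : (- shiftEnd F (m + 1) : Module.End F (Fin (m + 1) → F)) ^ (m + 1) = 0 :=
          a9_neg_pow_zero _ _ (a9_shift_pow_eq_zero F (m + 1))
        rw [Cfsg.Agent.Lib.Helper99.prodMap_pow', a9_shift_pow_eq_zero]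
        erw [hneg]
        exact LinearMap.prodMap_zero)
    refine ⟨u, hu1, hu2, fun k => ?_⟩
    rw [hu3, Cfsg.Agent.Lib.Helper99.dker_prodMap, a9_dker_neg,
      Cfsg.Agent.Lib.Helper99.dker_shiftEnd, pc, if_neg hev]
    simp

end main

end Cfsg.Agent.Lib.Helper4.NdH
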