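import Mathlib

/-! # Oc hive (helper44, S5977/S5978), leaf OC-T1 (helper32 + helper10): shared interface.
Abstract version of `IsJ`: `J` is self-adjoint for the polar form of the quadratic form `Q` and `J² = δ`. -/

set_option autoImplicit false

namespace Cfsg.Agent.Lib.Helper44.Oc

open QuadraticMap

/-- abstract `IsJ`: `J ∘ J = δ` and `J` is self-adjoint for `polar Q` -/
def t1_AbsJ {F V : Type*} [Field F] [AddCommGroup V] [Module F V] (Q : QuadraticForm F V) (δ : F)
    (J : V →ₗ[F] V) : Prop :=
  (∀ v, J (J v) = δ • v) ∧ ∀ u v, polar Q (J u) v = polar Q u (J v)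

end Cfsg.Agent.Lib.Helper44.Oc
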