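import Mathlib
import Cfsg.Agent.Lib.Helper10.OcT1Defs
import Cfsg.Agent.Lib.Helper25.OcT1H

/-! # Oc hive (helper44, S5977/S5978), leaf OC-T1, part (A): `t1_common`.
Two self-adjoint square roots `J₁ J₂` of a nonsquare `δ` on a nondegenerate quadratic space over a finite
field of odd characteristic have vectors with a common nonzero datum `(Q v, polar Q (J v) v)`. -/

set_option autoImplicit false

namespace Cfsg.Agent.Lib.Helper44.Oc

open QuadraticMap

universe u v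

variable {F : Type v} [Field F] {V : Type u} [AddCommGroup V] [Module F V]

/-- the datum of `v` in `E = F(√δ)` -/
def t1c_a (Q : QuadraticForm F V) (δ : F) (J : V →ₗ[F] V) (v : V) : QuadraticAlgebra F δ 0 :=
  ⟨Q v, polar Q (J v) v / (2 * δ)⟩

/-- the action of `E` on `V` through `J` -/
def t1c_act (δ : F) (J : V →ₗ[F] V) (c : QuadraticAlgebra F δ 0) (v : V) : V :=
  c.re • v + c.im • J v

theorem t1c_polar_self (Q : QuadraticForm F V) (v : V) : polar Q v v = 2 * Q v := by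
  rw [polar_self, two_nsmul, two_mul]

theorem t1c_QJ (h2 : (2 : F) ≠ 0) (Q : QuadraticForm F V) (δ : F) (J : V →ₗ[F] V)
    (hJ : t1_AbsJ Q δ J) (v : V) : Q (J v) = δ * Q v := by
  have h1 : polar Q (J v) (J v) = polar Q v (J (J v)) := hJ.2 v (J v)
  rw [hJ.1 v, polar_smul_right, t1c_polar_self, t1c_polar_self, smul_eq_mul] at h1
  have : (2 : F) * Q (J v) = 2 * (δ * Q v) := by
    rw [h1]; ring
  exact mul_left_cancel₀ h2 this

theorem t1c_J_act (Q : QuadraticForm F V) (δ : F) (J : V →ₗ[F] V)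
    (hJ : t1_AbsJ Q δ J) (c : QuadraticAlgebra F δ 0) (v : V) :
    J (t1c_act δ J c v) = (δ * c.im) • v + c.re • J v := by
  unfold t1c_act
  rw [map_add, map_smul, map_smul, hJ.1 v, smul_smul, add_comm, mul_comm]

theorem t1c_a_act (h2 : (2 : F) ≠ 0) (Q : QuadraticForm F V) (δ : F) (hδ0 : δ ≠ 0) (J : V →ₗ[F] V)
    (hJ : t1_AbsJ Q δ J) (c : QuadraticAlgebra F δ 0) (v : V) :
    t1c_a Q δ J (t1c_act δ J c v) = c ^ 2 * t1c_a Q δ J v := by
  have hQJ := t1c_QJ h2 Q δ J hJ v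
  have hc : polar Q v (J v) = polar Q (J v) v := polar_comm _ _ _
  have hJJ : polar Q (J v) (J v) = 2 * (δ * Q v) := by rw [t1c_polar_self, hQJ]
  have hvv : polar Q v v = 2 * Q v := t1c_polar_self _ _
  ext
  · unfold t1c_a
    rw [pow_two]
    simp only [QuadraticAlgebra.re_mul, QuadraticAlgebra.im_mul]
    unfold t1c_act
    rw [QuadraticMap.map_add (⇑Q), QuadraticMap.map_smul, QuadraticMap.map_smul, polar_smul_left,
      polar_smul_right, hQJ, hc]
    simp only [smul_eq_mul]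
    field_simp
    ring
  · unfold t1c_a
    rw [pow_two]
    simp only [QuadraticAlgebra.re_mul, QuadraticAlgebra.im_mul]
    rw [t1c_J_act Q δ J hJ]
    unfold t1c_act
    simp only [polar_add_left, polar_add_right, polar_smul_left, polar_smul_right, smul_eq_mul,
      hJJ, hvv, hc]
    field_simp
    ring

/-- additivity of the datum on `J`-orthogonal vectors -/
theorem t1c_a_add (Q : QuadraticForm F V) (δ : F) (J : V →ₗ[F] V)
    (hJ : t1_AbsJ Q δ J) (u w : V) (h1 : polar Q u w = 0) (h2' : polar Q (J u) w = 0) :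
    t1c_a Q δ J (u + w) = t1c_a Q δ J u + t1c_a Q δ J w := by
  have h3 : polar Q (J w) u = 0 := by rw [hJ.2 w u, polar_comm, h2']
  ext
  · unfold t1c_a
    simp only [QuadraticAlgebra.re_add]
    rw [QuadraticMap.map_add (⇑Q), h1, add_zero]
  · unfold t1c_a
    simp only [QuadraticAlgebra.im_add]
    rw [map_add, polar_add_left, polar_add_right, polar_add_right, h2', h3]
    ring

theorem t1c_a_ne_zero (Q : QuadraticForm F V) (δ : F)
    (J : V →ₗ[F] V) (v : V) (h : t1c_a Q δ J v ≠ 0) : Q v ≠ 0 ∨ polar Q (J v) v ≠ 0 := by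
  by_contra hcon
  push Not at hcon
  apply h
  ext
  · exact hcon.1
  · unfold t1c_a
    simp [hcon.2]

theorem t1c_a_ne_zero_of_Q (Q : QuadraticForm F V) (δ : F)
    (J : V →ₗ[F] V) (v : V) (h : Q v ≠ 0) : t1c_a Q δ J v ≠ 0 := by
  intro h0
  apply h
  have := congrArg QuadraticAlgebra.re h0
  simpa [t1c_a] using this

/-- `v, J v` are independent for `v ≠ 0` -/
theorem t1c_indep (δ : F) (hδ : ¬ IsSquare δ) (J : V →ₗ[F] V)
    (hJ : ∀ v, J (J v) = δ • v) (v : V) (hv : v ≠ 0) (x y : F) (h : x • v + y • J v = 0) :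
    x = 0 ∧ y = 0 := by
  by_cases hy : y = 0
  · subst hy
    rw [zero_smul, add_zero] at h
    exact ⟨(smul_eq_zero.mp h).resolve_right hv, rfl⟩
  · exfalso
    apply hδ
    -- J v = -(x/y) v
    have h1 : J v = (-(x / y)) • v := by
      have : y • J v = -(x • v) := eq_neg_of_add_eq_zero_right h
      calc J v = y⁻¹ • (y • J v) := by rw [smul_smul, inv_mul_cancel₀ hy, one_smul]
        _ = (-(x / y)) • v := by rw [this, smul_neg, smul_smul, neg_smul]; congr 2; field_simp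
    have h2 : δ • v = ((x / y) * (x / y)) • v := by
      rw [← hJ v, h1, map_smul, h1, smul_smul]; congr 1; ring
    have h3 : (δ - (x / y) * (x / y)) • v = 0 := by rw [sub_smul, h2, sub_self]
    have h4 := (smul_eq_zero.mp h3).resolve_right hv
    exact ⟨x / y, sub_eq_zero.mp h4⟩

/-- the discriminant of the plane `<v, J v>` is nonzero when `Q v ≠ 0` -/
theorem t1c_disc_ne_zero (h2 : (2 : F) ≠ 0) (δ : F) (hδ : ¬ IsSquare δ) (s t : F) (hs : s ≠ 0) :
    4 * δ * s ^ 2 - t ^ 2 ≠ 0 := by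
  intro h
  apply hδ
  refine ⟨t / (2 * s), ?_⟩
  field_simp
  linear_combination h

/-- a vector with `Q ≠ 0` in the `J`-orthogonal complement of `v₁` -/
theorem t1c_exists_perp [FiniteDimensional F V] (h2 : (2 : F) ≠ 0) (Q : QuadraticForm F V)
    (hQ : (QuadraticMap.polarBilin Q).Nondegenerate) (δ : F) (hδ : ¬ IsSquare δ) (J : V →ₗ[F] V)
    (hJ : t1_AbsJ Q δ J) (hdim : 3 ≤ Module.finrank F V) (v₁ : V) (hv₁ : Q v₁ ≠ 0) :
    ∃ v₂ : V, polar Q v₁ v₂ = 0 ∧ polar Q (J v₁) v₂ = 0 ∧ Q v₂ ≠ 0 := by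
  let f : V →ₗ[F] F × F :=
    LinearMap.prod (QuadraticMap.polarBilin Q v₁) (QuadraticMap.polarBilin Q (J v₁))
  have hker : LinearMap.ker f ≠ ⊥ := by
    apply LinearMap.ker_ne_bot_of_finrank_lt
    rw [Module.finrank_prod, Module.finrank_self]
    omega
  obtain ⟨w, hwker, hw0⟩ := Submodule.exists_mem_ne_zero_of_ne_bot hker
  have hfw : f w = 0 := hwker
  have hw1 : polar Q v₁ w = 0 := congrArg Prod.fst hfw
  have hw2 : polar Q (J v₁) w = 0 := congrArg Prod.snd hfw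
  obtain ⟨u₀, hu₀⟩ : ∃ u₀, polar Q w u₀ ≠ 0 := by
    by_contra hcon
    push Not at hcon
    exact hw0 (hQ.1 w hcon)
  have hD := t1c_disc_ne_zero h2 δ hδ (Q v₁) (polar Q (J v₁) v₁) hv₁
  have hQJ := t1c_QJ h2 Q δ J hJ v₁
  have hc : polar Q v₁ (J v₁) = polar Q (J v₁) v₁ := polar_comm _ _ _
  have hJJ : polar Q (J v₁) (J v₁) = 2 * (δ * Q v₁) := by rw [t1c_polar_self, hQJ]
  have hvv : polar Q v₁ v₁ = 2 * Q v₁ := t1c_polar_self _ _
  set s := Q v₁ with hs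
  set t := polar Q (J v₁) v₁ with ht
  set b₁ := polar Q v₁ u₀ with hb₁
  set b₂ := polar Q (J v₁) u₀ with hb₂
  set D := 4 * δ * s ^ 2 - t ^ 2 with hDdef
  set α := (2 * δ * s * b₁ - t * b₂) / D with hα
  set β := (2 * s * b₂ - t * b₁) / D with hβ
  set u := u₀ - α • v₁ - β • J v₁ with hu
  have hu1 : polar Q v₁ u = 0 := by
    rw [hu, polar_sub_right, polar_sub_right, polar_smul_right, polar_smul_right, hvv, hc,
      smul_eq_mul, smul_eq_mul, hα, hβ]
    field_simp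
    ring
  have hu2 : polar Q (J v₁) u = 0 := by
    rw [hu, polar_sub_right, polar_sub_right, polar_smul_right, polar_smul_right, hJJ,
      smul_eq_mul, smul_eq_mul, hα, hβ]
    field_simp
    ring
  have hwu : polar Q w u ≠ 0 := by
    rw [hu, polar_sub_right, polar_sub_right, polar_smul_right, polar_smul_right,
      polar_comm Q w v₁, polar_comm Q w (J v₁), hw1, hw2, smul_zero, smul_zero, sub_zero, sub_zero]
    exact hu₀
  by_cases hQw : Q w = 0
  · by_cases hQu : Q u = 0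
    · refine ⟨w + u, ?_, ?_, ?_⟩
      · rw [polar_add_right, hw1, hu1, add_zero]
      · rw [polar_add_right, hw2, hu2, add_zero]
      · rw [QuadraticMap.map_add (⇑Q), hQw, hQu, zero_add, zero_add]
        exact hwu
    · exact ⟨u, hu1, hu2, hQu⟩
  · exact ⟨w, hw1, hw2, hQw⟩

theorem t1c_exists_Q_ne [FiniteDimensional F V] (Q : QuadraticForm F V)
    (hQ : (QuadraticMap.polarBilin Q).Nondegenerate) (hdim : 0 < Module.finrank F V) :
    ∃ v : V, Q v ≠ 0 := by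
  by_contra hcon
  push Not at hcon
  haveI : Nontrivial V := Module.nontrivial_of_finrank_pos hdim
  obtain ⟨x, hx⟩ := exists_ne (0 : V)
  apply hx
  apply hQ.1
  intro y
  show polar Q x y = 0
  unfold polar
  rw [hcon, hcon, hcon]
  simp

theorem t1c_fact (δ : F) (hδ : ¬ IsSquare δ) : Fact (∀ r : F, r ^ 2 ≠ δ + 0 * r) :=
  ⟨fun r h => hδ ⟨r, by rw [← pow_two, h]; ring⟩⟩

theorem t1c_ringChar [Fintype F] (h2 : (2 : F) ≠ 0) : ringChar F ≠ 2 := by
  intro h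
  apply h2
  have := ringChar.Nat.cast_ringChar (R := F)
  rw [h] at this
  exact_mod_cast this

theorem t1c_perp_act (Q : QuadraticForm F V) (δ : F) (J : V →ₗ[F] V) (hJ : t1_AbsJ Q δ J)
    (v₁ v₂ : V) (h1 : polar Q v₁ v₂ = 0) (h2' : polar Q (J v₁) v₂ = 0)
    (c₁ c₂ : QuadraticAlgebra F δ 0) :
    polar Q (t1c_act δ J c₁ v₁) (t1c_act δ J c₂ v₂) = 0 ∧
      polar Q (J (t1c_act δ J c₁ v₁)) (t1c_act δ J c₂ v₂) = 0 := by
  have h3 : polar Q v₁ (J v₂) = 0 := by rw [← hJ.2, h2']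
  have h4 : polar Q (J v₁) (J v₂) = 0 := by rw [hJ.2, hJ.1, polar_smul_right, h1, smul_zero]
  constructor
  · unfold t1c_act
    simp only [polar_add_left, polar_add_right, polar_smul_left, polar_smul_right, h1, h2', h3, h4,
      smul_zero, add_zero]
  · rw [t1c_J_act Q δ J hJ]
    unfold t1c_act
    simp only [polar_add_left, polar_add_right, polar_smul_left, polar_smul_right, h1, h2', h3, h4,
      smul_zero, add_zero]

/-- in dimension at least `3` the datum `1` is represented -/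
theorem t1c_rep_one [FiniteDimensional F V] [Fintype F] (h2 : (2 : F) ≠ 0) (Q : QuadraticForm F V)
    (hQ : (QuadraticMap.polarBilin Q).Nondegenerate) (δ : F) (hδ : ¬ IsSquare δ) (J : V →ₗ[F] V)
    (hJ : t1_AbsJ Q δ J) (hdim : 3 ≤ Module.finrank F V) :
    ∃ v : V, t1c_a Q δ J v = 1 := by
  classical
  have hδ0 : δ ≠ 0 := fun h => hδ (h ▸ ⟨0, by simp⟩)
  obtain ⟨v₁, hv₁⟩ := t1c_exists_Q_ne Q hQ (by omega)
  obtain ⟨v₂, h12, hJ12, hv₂⟩ := t1c_exists_perp h2 Q hQ δ hδ J hJ hdim v₁ hv₁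
  haveI := t1c_fact δ hδ
  letI : Fintype (QuadraticAlgebra F δ 0) := Fintype.ofEquiv _ (QuadraticAlgebra.equivProd δ 0).symm
  have hcard : Fintype.card (QuadraticAlgebra F δ 0) % 2 = 1 := by
    rw [Fintype.card_congr (QuadraticAlgebra.equivProd δ 0), Fintype.card_prod, Nat.mul_mod,
      FiniteField.odd_card_of_char_ne_two (t1c_ringChar h2)]
  have ha₁ := t1c_a_ne_zero_of_Q Q δ J v₁ hv₁
  have ha₂ := t1c_a_ne_zero_of_Q Q δ J v₂ hv₂
  set a₁ := t1c_a Q δ J v₁ with ha₁def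
  set a₂ := t1c_a Q δ J v₂ with ha₂def
  have hf : (Polynomial.C a₁ * Polynomial.X ^ 2 - 1 : Polynomial (QuadraticAlgebra F δ 0)).degree = 2 := by
    have h1 : (Polynomial.C a₁ * Polynomial.X ^ 2 : Polynomial (QuadraticAlgebra F δ 0)).degree = 2 :=
      Polynomial.degree_C_mul_X_pow 2 ha₁
    rw [Polynomial.degree_sub_eq_left_of_degree_lt, h1]
    rw [h1, Polynomial.degree_one]
    norm_num
  have hg : (Polynomial.C a₂ * Polynomial.X ^ 2 : Polynomial (QuadraticAlgebra F δ 0)).degree = 2 :=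
    Polynomial.degree_C_mul_X_pow 2 ha₂
  obtain ⟨c₁, c₂, hc⟩ := FiniteField.exists_root_sum_quadratic hf hg hcard
  simp only [Polynomial.eval_sub, Polynomial.eval_mul, Polynomial.eval_C, Polynomial.eval_pow,
    Polynomial.eval_X, Polynomial.eval_one] at hc
  obtain ⟨hp1, hp2⟩ := t1c_perp_act Q δ J hJ v₁ v₂ h12 hJ12 c₁ c₂
  refine ⟨t1c_act δ J c₁ v₁ + t1c_act δ J c₂ v₂, ?_⟩
  rw [t1c_a_add Q δ J hJ _ _ hp1 hp2, t1c_a_act h2 Q δ hδ0 J hJ, t1c_a_act h2 Q δ hδ0 J hJ,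
    ← ha₁def, ← ha₂def]
  linear_combination hc

/-- in dimension `2` two structures have a common nonzero datum (modulo the field lemma `hH`) -/
theorem t1c_dim2 [FiniteDimensional F V] (h2 : (2 : F) ≠ 0) (Q : QuadraticForm F V)
    (hQ : (QuadraticMap.polarBilin Q).Nondegenerate) (δ : F) (hδ : ¬ IsSquare δ)
    (J₁ J₂ : V →ₗ[F] V) (h₁ : t1_AbsJ Q δ J₁) (h₂ : t1_AbsJ Q δ J₂)
    (hdim : Module.finrank F V = 2)
    (hH : ∀ (x : QuadraticAlgebra F δ 0) (m : F), m ≠ 0 → QuadraticAlgebra.norm x = m ^ 2 →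
      ∃ e : QuadraticAlgebra F δ 0, x = e ^ 2) :
    ∃ v₁ v₂ : V, t1c_a Q δ J₁ v₁ = t1c_a Q δ J₂ v₂ ∧ t1c_a Q δ J₁ v₁ ≠ 0 := by
  have hδ0 : δ ≠ 0 := fun h => hδ (h ▸ ⟨0, by simp⟩)
  obtain ⟨v, hv⟩ := t1c_exists_Q_ne Q hQ (by omega)
  have hv0 : v ≠ 0 := fun h => hv (by rw [h, QuadraticMap.map_zero])
  have hli : LinearIndependent F ![v, J₁ v] :=
    LinearIndependent.pair_iff.mpr (fun x y h => t1c_indep δ hδ J₁ h₁.1 v hv0 x y h)
  have hspan := hli.span_eq_top_of_card_eq_finrank' (by simp [hdim])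
  have hmem : J₂ v ∈ Submodule.span F (Set.range ![v, J₁ v]) := by rw [hspan]; trivial
  simp only [Matrix.range_cons, Matrix.range_empty, Set.union_empty, Set.singleton_union] at hmem
  obtain ⟨α, β, hαβ⟩ := Submodule.mem_span_pair.mp hmem
  haveI := t1c_fact δ hδ
  have hQJ₁ := t1c_QJ h2 Q δ J₁ h₁ v
  have hQJ₂ := t1c_QJ h2 Q δ J₂ h₂ v
  have hvv : polar Q v v = 2 * Q v := t1c_polar_self _ _
  have ht₂ : polar Q (J₂ v) v = α * (2 * Q v) + β * polar Q (J₁ v) v := by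
    rw [← hαβ, polar_add_left, polar_smul_left, polar_smul_left, hvv, smul_eq_mul, smul_eq_mul]
  have hs₂ : δ * Q v = α * α * Q v + β * β * (δ * Q v) + α * β * polar Q (J₁ v) v := by
    have h5 : Q (J₂ v) = α * α * Q v + β * β * (δ * Q v) + α * β * polar Q (J₁ v) v := by
      rw [← hαβ, QuadraticMap.map_add (⇑Q), QuadraticMap.map_smul, QuadraticMap.map_smul,
        polar_smul_left, polar_smul_right, hQJ₁, polar_comm Q v (J₁ v)]
      simp only [smul_eq_mul]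
      ring
    rw [← h5, hQJ₂]
  have ha₁ := t1c_a_ne_zero_of_Q Q δ J₁ v hv
  have ha₂ := t1c_a_ne_zero_of_Q Q δ J₂ v hv
  have hnorm : QuadraticAlgebra.norm (t1c_a Q δ J₂ v) = β ^ 2 * QuadraticAlgebra.norm (t1c_a Q δ J₁ v) := by
    unfold t1c_a
    simp only [QuadraticAlgebra.norm_def]
    rw [ht₂]
    field_simp
    linear_combination (4 * Q v) * hs₂
  set a₁ := t1c_a Q δ J₁ v with ha₁def
  set a₂ := t1c_a Q δ J₂ v with ha₂def
  have hna₁ : QuadraticAlgebra.norm a₁ ≠ 0 := fun h => ha₁ (QuadraticAlgebra.norm_eq_zero_iff_eq_zero.mp h)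
  have hna₂ : QuadraticAlgebra.norm a₂ ≠ 0 := fun h => ha₂ (QuadraticAlgebra.norm_eq_zero_iff_eq_zero.mp h)
  have hβ : β ≠ 0 := by
    intro h
    apply hna₂
    rw [hnorm, h]
    ring
  set x := a₂ * a₁⁻¹ with hx
  have hxa : x * a₁ = a₂ := by rw [hx, mul_assoc, inv_mul_cancel₀ ha₁, mul_one]
  have hnx : QuadraticAlgebra.norm x = β ^ 2 := by
    apply mul_right_cancel₀ hna₁
    rw [← map_mul, hxa, hnorm]
  obtain ⟨e, he⟩ := hH x β hβ hnx
  refine ⟨t1c_act δ J₁ e v, v, ?_, ?_⟩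
  · rw [t1c_a_act h2 Q δ hδ0 J₁ h₁, ← ha₁def, ← he, hxa]
  · rw [t1c_a_act h2 Q δ hδ0 J₁ h₁, ← ha₁def, ← he, hxa]
    exact ha₂

/-- `t1_common` modulo the field lemma `hH` -/
theorem t1c_common_of [FiniteDimensional F V] [Nontrivial V] [Fintype F] (h2 : (2 : F) ≠ 0)
    (Q : QuadraticForm F V) (hQ : (QuadraticMap.polarBilin Q).Nondegenerate) (δ : F)
    (hδ : ¬ IsSquare δ) (J₁ J₂ : V →ₗ[F] V) (h₁ : t1_AbsJ Q δ J₁) (h₂ : t1_AbsJ Q δ J₂)
    (hH : ∀ (x : QuadraticAlgebra F δ 0) (m : F), m ≠ 0 → QuadraticAlgebra.norm x = m ^ 2 →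
      ∃ e : QuadraticAlgebra F δ 0, x = e ^ 2) :
    ∃ v₁ v₂ : V, (Q v₁ ≠ 0 ∨ polar Q (J₁ v₁) v₁ ≠ 0) ∧ Q v₂ = Q v₁ ∧
      polar Q (J₂ v₂) v₂ = polar Q (J₁ v₁) v₁ := by
  have hδ0 : δ ≠ 0 := fun h => hδ (h ▸ ⟨0, by simp⟩)
  have key : ∃ v₁ v₂ : V, t1c_a Q δ J₁ v₁ = t1c_a Q δ J₂ v₂ ∧ t1c_a Q δ J₁ v₁ ≠ 0 := by
    obtain ⟨v, hv0⟩ := exists_ne (0 : V)
    have hli : LinearIndependent F ![v, J₁ v] :=
      LinearIndependent.pair_iff.mpr (fun x y h => t1c_indep δ hδ J₁ h₁.1 v hv0 x y h)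
    have h2le : 2 ≤ Module.finrank F V := by
      have := hli.fintype_card_le_finrank
      simpa using this
    by_cases hdim : Module.finrank F V = 2
    · exact t1c_dim2 h2 Q hQ δ hδ J₁ J₂ h₁ h₂ hdim hH
    · have h3 : 3 ≤ Module.finrank F V := by omega
      obtain ⟨v₁, hv₁⟩ := t1c_rep_one h2 Q hQ δ hδ J₁ h₁ h3
      obtain ⟨v₂, hv₂⟩ := t1c_rep_one h2 Q hQ δ hδ J₂ h₂ h3
      haveI := t1c_fact δ hδ
      exact ⟨v₁, v₂, by rw [hv₁, hv₂], by rw [hv₁]; exact one_ne_zero⟩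
  obtain ⟨v₁, v₂, heq, hne⟩ := key
  refine ⟨v₁, v₂, t1c_a_ne_zero Q δ J₁ v₁ hne, ?_, ?_⟩
  · have := congrArg QuadraticAlgebra.re heq
    simpa [t1c_a] using this.symm
  · have := congrArg QuadraticAlgebra.im heq
    simp only [t1c_a] at this
    have h2δ : (2 * δ) ≠ 0 := mul_ne_zero h2 hδ0
    field_simp at this
    exact this.symm

/-- OC-T1, part (A): two structures `J₁ J₂` have vectors with a common nonzero datum. -/
theorem t1_common [FiniteDimensional F V] [Nontrivial V] [Fintype F] (h2 : (2 : F) ≠ 0)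
    (Q : QuadraticForm F V) (hQ : (QuadraticMap.polarBilin Q).Nondegenerate) (δ : F)
    (hδ : ¬ IsSquare δ) (J₁ J₂ : V →ₗ[F] V) (h₁ : t1_AbsJ Q δ J₁) (h₂ : t1_AbsJ Q δ J₂) :
    ∃ v₁ v₂ : V, (Q v₁ ≠ 0 ∨ polar Q (J₁ v₁) v₁ ≠ 0) ∧ Q v₂ = Q v₁ ∧
      polar Q (J₂ v₂) v₂ = polar Q (J₁ v₁) v₁ :=
  t1c_common_of h2 Q hQ δ hδ J₁ J₂ h₁ h₂ (fun x m hm hx => t1c_sq_of_norm_sq h2 δ hδ x m hm hx)

end Cfsg.Agent.Lib.Helper44.Oc
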