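import Mathlib
import Cfsg.Prelude.Def_GeometricClasses
import Cfsg.Agent.Lib.Helper44.OcDefs
import Cfsg.Agent.Lib.Helper10.OcT1Defs
import Cfsg.Agent.Lib.Helper37.ParabolicBridge

/-! # Oc hive (helper44, S5977/S5978), leaf OC-T1: the coordinate wrapper.
From the abstract conjugacy statement (for the bundled form `toQF Q hQ` on `ι → F` and the endomorphisms `toLin' J`)
to the matrix statement `exists_conj_J`. -/

set_option autoImplicit false
open scoped MatrixGroups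
open Matrix

namespace Cfsg.Agent.Lib.Helper44.Oc

universe v

variable {F : Type v} [Field F] {ι : Type} [Fintype ι] [DecidableEq ι]

/-- `IsJ` gives the abstract `t1_AbsJ` for `toLin' J` -/
theorem t1w_absJ (Q : (ι → F) → F) (hQ : Cfsg.Geo.IsNondegenerateQuadraticForm Q) (δ : F)
    (J : Matrix ι ι F) (hJ : IsJ Q δ J) :
    t1_AbsJ (Cfsg.Agent.Lib.Helper37.toQF Q hQ) δ (Matrix.toLin' J) := by
  refine ⟨fun v => ?_, fun u v => ?_⟩
  · rw [Matrix.toLin'_apply, Matrix.toLin'_apply, Matrix.mulVec_mulVec, hJ.1, Matrix.smul_mulVec,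
      Matrix.one_mulVec]
  · rw [Matrix.toLin'_apply, Matrix.toLin'_apply]
    exact hJ.2 u v

/-- the coordinate wrapper: an abstract intertwining isometry gives the matrix statement -/
theorem t1w_wrap (Q : (ι → F) → F) (hQ : Cfsg.Geo.IsNondegenerateQuadraticForm Q)
    (J₁ J₂ : Matrix ι ι F)
    (habs : ∃ g : (ι → F) ≃ₗ[F] (ι → F),
      (∀ v, Cfsg.Agent.Lib.Helper37.toQF Q hQ (g v) = Cfsg.Agent.Lib.Helper37.toQF Q hQ v) ∧
        ∀ v, g (Matrix.toLin' J₁ v) = Matrix.toLin' J₂ (g v)) :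
    ∃ h : GL ι F, h ∈ Cfsg.isometryGroup F Q ∧
      (h : Matrix ι ι F) * J₁ * ((h⁻¹ : GL ι F) : Matrix ι ι F) = J₂ := by
  obtain ⟨g, hgQ, hgJ⟩ := habs
  set M : Matrix ι ι F := LinearMap.toMatrix' (g : (ι → F) →ₗ[F] (ι → F)) with hM
  set M' : Matrix ι ι F := LinearMap.toMatrix' (g.symm : (ι → F) →ₗ[F] (ι → F)) with hM'
  have hMM' : M * M' = 1 := by
    rw [hM, hM', ← LinearMap.toMatrix'_comp]
    have : (g : (ι → F) →ₗ[F] (ι → F)) ∘ₗ (g.symm : (ι → F) →ₗ[F] (ι → F)) = LinearMap.id := by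
      ext v; simp
    rw [this, LinearMap.toMatrix'_id]
  have hM'M : M' * M = 1 := by
    rw [hM, hM', ← LinearMap.toMatrix'_comp]
    have : (g.symm : (ι → F) →ₗ[F] (ι → F)) ∘ₗ (g : (ι → F) →ₗ[F] (ι → F)) = LinearMap.id := by
      ext v; simp
    rw [this, LinearMap.toMatrix'_id]
  have hMv : ∀ v, M *ᵥ v = g v := fun v => by
    rw [hM, LinearMap.toMatrix'_mulVec]; rfl
  refine ⟨⟨M, M', hMM', hM'M⟩, ?_, ?_⟩
  · intro u _
    show Q (M *ᵥ u) = Q u
    rw [hMv]
    exact hgQ u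
  · show M * J₁ * M' = J₂
    have hcomm : M * J₁ = J₂ * M := by
      apply Matrix.toLin'.injective
      apply LinearMap.ext
      intro v
      rw [Matrix.toLin'_apply, Matrix.toLin'_apply, ← Matrix.mulVec_mulVec, ← Matrix.mulVec_mulVec,
        hMv, hMv, ← Matrix.toLin'_apply J₁, hgJ, Matrix.toLin'_apply]
    rw [hcomm, Matrix.mul_assoc, hMM', Matrix.mul_one]

end Cfsg.Agent.Lib.Helper44.Oc
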