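import Mathlib
import Cfsg.Agent.Lib.Helper39.OoDefs
import Cfsg.Agent.Lib.Helper43.SpBN_WEYL

/-! # S2547 OO hive (helper39), leaf WEYL (helper10): permutations of `Idx m` fixing `e₀` and commuting with
`bar` are generated by the simple generators (transport of helper43's `weyl_gen`). -/

set_option autoImplicit false

namespace Cfsg.Agent.Lib.Helper39.OoBN

open Matrix Cfsg

variable {m : ℕ}

/-- the embedding `Perm (Fin m ⊕ Fin m) →* Perm (Idx m)` -/
def weyl_emb (m : ℕ) : Equiv.Perm (Fin m ⊕ Fin m) →* Equiv.Perm (Idx m) :=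
  (Equiv.Perm.sumCongrHom Unit (Fin m ⊕ Fin m)).comp (MonoidHom.inr _ _)

theorem weyl_emb_apply (σ : Equiv.Perm (Fin m ⊕ Fin m)) :
    weyl_emb m σ = Equiv.Perm.sumCongr (1 : Equiv.Perm Unit) σ := rfl

theorem weyl_emb_short (k k' : Fin m) :
    weyl_emb m (Cfsg.Agent.Lib.Helper41.SpBN.simpleShort k k') = simpleA k k' := by
  unfold Cfsg.Agent.Lib.Helper41.SpBN.simpleShort simpleA xi yi
  rw [map_mul, weyl_emb_apply, weyl_emb_apply]
  rw [show (1 : Equiv.Perm Unit) = Equiv.refl Unit from rfl, Equiv.Perm.sumCongr_refl_swap,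
    Equiv.Perm.sumCongr_refl_swap]

theorem weyl_emb_long (k : Fin m) :
    weyl_emb m (Cfsg.Agent.Lib.Helper41.SpBN.simpleLong k) = simpleB k := by
  unfold Cfsg.Agent.Lib.Helper41.SpBN.simpleLong simpleB xi yi
  rw [weyl_emb_apply]
  rw [show (1 : Equiv.Perm Unit) = Equiv.refl Unit from rfl, Equiv.Perm.sumCongr_refl_swap]

theorem weyl_emb_mem (σ : Equiv.Perm (Fin m ⊕ Fin m))
    (h : Cfsg.Agent.Lib.Helper41.SpBN.IsSimpleGen σ) : IsSimpleGen (weyl_emb m σ) := by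
  rcases h with ⟨k, k', hk, rfl⟩ | ⟨k, hk, rfl⟩
  · exact Or.inl ⟨k, k', hk, weyl_emb_short k k'⟩
  · exact Or.inr ⟨k, hk, weyl_emb_long k⟩

/-- LEAF WEYL -/
theorem weyl_gen_o (π : Equiv.Perm (Idx m)) (h0 : π e0 = e0) (hπ : ∀ a, π (bar a) = bar (π a)) :
    π ∈ Subgroup.closure {σ : Equiv.Perm (Idx m) | IsSimpleGen σ} := by
  have hmaps : Set.MapsTo (⇑π) (Set.range (Sum.inl : Unit → Idx m)) (Set.range Sum.inl) := by
    rintro _ ⟨u, rfl⟩
    refine ⟨(), ?_⟩
    have : (Sum.inl u : Idx m) = e0 := rfl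
    rw [this, h0]
  obtain ⟨⟨π1, π2⟩, h12⟩ := Equiv.Perm.mem_sumCongrHom_range_of_perm_mapsTo_inl hmaps
  rw [Equiv.Perm.sumCongrHom_apply] at h12
  have h1 : π1 = 1 := Subsingleton.elim _ _
  subst h1
  have hπ2 : ∀ a : Fin m ⊕ Fin m, π2 a.swap = (π2 a).swap := by
    intro a
    have hb : ∀ c : Fin m ⊕ Fin m, bar (Sum.inr c : Idx m) = Sum.inr c.swap := by
      intro c
      rcases c with i | i <;> rfl
    have := hπ (Sum.inr a)
    rw [hb, ← h12] at this
    simp only [Equiv.Perm.sumCongr_apply, Sum.map_inr] at this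
    rw [hb] at this
    exact Sum.inr_injective this
  have hmem := Cfsg.Agent.Lib.Helper41.SpBN.weyl_gen π2 hπ2
  have hle : Subgroup.closure {σ : Equiv.Perm (Fin m ⊕ Fin m) |
      Cfsg.Agent.Lib.Helper41.SpBN.IsSimpleGen σ} ≤
      (Subgroup.closure {σ : Equiv.Perm (Idx m) | IsSimpleGen σ}).comap (weyl_emb m) := by
    rw [Subgroup.closure_le]
    intro σ hσ
    exact Subgroup.subset_closure (weyl_emb_mem σ hσ)
  have := hle hmem
  rw [Subgroup.mem_comap, weyl_emb_apply, h12] at this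
  exact this

end Cfsg.Agent.Lib.Helper39.OoBN
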