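import Mathlib
import Cfsg.Agent.Lib.Helper40.OpBNDefs
import Cfsg.Agent.Lib.Helper8.Eichler
import Cfsg.Agent.Lib.Helper8.OrthForms

/-! # S2548 OpBN hive (helper40), leaf MOVE (helper10): a nonsingular vector can be moved into a
hyperbolic plane `⟨e_k, f_k⟩` by an element of `Bo` (an Eichler–Siegel transformation). -/

set_option autoImplicit false

namespace Cfsg.Agent.Lib.Helper40.OpBN

open Matrix Cfsg Cfsg.Agent.Lib.Helper13 Cfsg.Agent.Lib.Helper41.SpBN QuadraticMap

variable {F : Type*} [Field F] {m : ℕ}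

/-- the Eichler formula (as a plain function) with `u = e_k` -/
noncomputable def move_E (k : Fin m) (w x : Idx m → F) : Idx m → F :=
  x + polar (⇑(Cfsg.Agent.Lib.Helper8.plusForm m F)) (Pi.single (Sum.inl k) 1) x • w
    - polar (⇑(Cfsg.Agent.Lib.Helper8.plusForm m F)) w x • (Pi.single (Sum.inl k) 1 : Idx m → F)
    - (Cfsg.Agent.Lib.Helper8.plusForm m F w *
        polar (⇑(Cfsg.Agent.Lib.Helper8.plusForm m F)) (Pi.single (Sum.inl k) 1) x) •
      (Pi.single (Sum.inl k) 1 : Idx m → F)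

theorem move_polar_e (k : Fin m) (x : Idx m → F) :
    polar (⇑(Cfsg.Agent.Lib.Helper8.plusForm m F)) (Pi.single (Sum.inl k) 1) x = x (Sum.inr k) := by
  rw [Cfsg.Agent.Lib.Helper8.polar_plusForm]
  simp [Pi.single_apply]

/-- the flag sets are mapped into themselves -/
theorem move_maps (k : Fin m) (w : Idx m → F) (hw : ∀ i : Fin m, (i : ℕ) ≤ (k : ℕ) → w (Sum.inr i) = 0)
    (j : Fin m) (x : Idx m → F)
    (hx : (∀ i : Fin m, (j : ℕ) < (i : ℕ) → x (Sum.inl i) = 0) ∧ ∀ i : Fin m, x (Sum.inr i) = 0) :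
    (∀ i : Fin m, (j : ℕ) < (i : ℕ) → move_E k w x (Sum.inl i) = 0) ∧
      ∀ i : Fin m, move_E k w x (Sum.inr i) = 0 := by
  obtain ⟨hx1, hx2⟩ := hx
  have hpe : polar (⇑(Cfsg.Agent.Lib.Helper8.plusForm m F)) (Pi.single (Sum.inl k) 1) x = 0 := by
    rw [move_polar_e, hx2]
  have hE : move_E k w x = x - polar (⇑(Cfsg.Agent.Lib.Helper8.plusForm m F)) w x •
      (Pi.single (Sum.inl k) 1 : Idx m → F) := by
    unfold move_E
    rw [hpe, zero_smul, mul_zero, zero_smul, add_zero, sub_zero]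
  have hpw : polar (⇑(Cfsg.Agent.Lib.Helper8.plusForm m F)) w x =
      ∑ i : Fin m, x (Sum.inl i) * w (Sum.inr i) := by
    rw [Cfsg.Agent.Lib.Helper8.polar_plusForm]
    refine Finset.sum_congr rfl (fun i _ => ?_)
    rw [hx2 i, mul_zero, zero_add]
  refine ⟨fun i hi => ?_, fun i => ?_⟩
  · rw [hE, Pi.sub_apply, Pi.smul_apply, hx1 i hi, zero_sub, neg_eq_zero, smul_eq_mul]
    by_cases hik : i = k
    · subst hik
      have : polar (⇑(Cfsg.Agent.Lib.Helper8.plusForm m F)) w x = 0 := by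
        rw [hpw]
        refine Finset.sum_eq_zero (fun l _ => ?_)
        by_cases hl : (j : ℕ) < (l : ℕ)
        · rw [hx1 l hl, zero_mul]
        · rw [hw l (by omega), mul_zero]
      rw [this, zero_mul]
    · rw [Pi.single_apply, if_neg (fun h => hik (Sum.inl.inj h)), mul_zero]
  · rw [hE, Pi.sub_apply, Pi.smul_apply, hx2 i, zero_sub, neg_eq_zero, smul_eq_mul,
      Pi.single_apply, if_neg (by simp), mul_zero]

/-- LEAF MOVE -/
theorem exists_Bo_move (v : Idx m → F) (hv : Cfsg.quadFormPlus m F v ≠ 0) :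
    ∃ b ∈ Bo F m, ∃ (k : Fin m) (a c : F),
      mt b *ᵥ v = a • Pi.single (Sum.inl k) 1 + c • Pi.single (Sum.inr k) 1 := by
  classical
  set Qf := Cfsg.Agent.Lib.Helper8.plusForm m F with hQf
  have hcoe : Cfsg.quadFormPlus m F = ⇑Qf := Cfsg.Agent.Lib.Helper8.plusForm_coe m F
  have hQ := Cfsg.Agent.Lib.Helper8.plusForm_nondegenerate m F
  -- the least index with nonzero `f`-coordinate
  have hex : ∃ n : ℕ, ∃ h : n < m, v (Sum.inr ⟨n, h⟩) ≠ 0 := by
    by_contra hno
    apply hv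
    unfold Cfsg.quadFormPlus
    refine Finset.sum_eq_zero (fun i _ => ?_)
    have : v (Sum.inr i) = 0 := by
      by_contra h
      exact hno ⟨i, i.2, h⟩
    rw [this, mul_zero]
  obtain ⟨hkm, hy⟩ := Nat.find_spec hex
  set k : Fin m := ⟨Nat.find hex, hkm⟩ with hk
  have hmin : ∀ i : Fin m, (i : ℕ) < (k : ℕ) → v (Sum.inr i) = 0 := by
    intro i hi
    by_contra h
    exact Nat.find_min hex hi ⟨i.2, h⟩
  set y : F := v (Sum.inr k) with hydef
  set xk : F := v (Sum.inl k) with hxk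
  set e : Idx m → F := Pi.single (Sum.inl k) 1 with he
  set f : Idx m → F := Pi.single (Sum.inr k) 1 with hf
  set w : Idx m → F := (-y⁻¹) • (v - y • f - xk • e) with hw
  have hwr : ∀ i : Fin m, (i : ℕ) ≤ (k : ℕ) → w (Sum.inr i) = 0 := by
    intro i hi
    have h1 : w (Sum.inr i) = (-y⁻¹) * (v (Sum.inr i) - y * (if i = k then 1 else 0)) := by
      rw [hw]
      simp only [Pi.smul_apply, Pi.sub_apply, he, hf, Pi.single_apply, smul_eq_mul, Sum.inr.injEq,
        reduceCtorEq, if_false, mul_zero, sub_zero]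
    rw [h1]
    by_cases hik : i = k
    · subst hik
      rw [if_pos rfl, mul_one, ← hydef, sub_self, mul_zero]
    · have : (i : ℕ) < (k : ℕ) := lt_of_le_of_ne hi (fun h => hik (Fin.ext h))
      rw [if_neg hik, mul_zero, sub_zero, hmin i this, mul_zero]
  have hwr' : ∀ i : Fin m, (i : ℕ) ≤ (k : ℕ) → (-w) (Sum.inr i) = 0 := by
    intro i hi
    rw [Pi.neg_apply, hwr i hi, neg_zero]
  have hu : Qf e = 0 := by
    rw [hQf, ← Cfsg.Agent.Lib.Helper8.plusForm_coe]
    unfold Cfsg.quadFormPlus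
    refine Finset.sum_eq_zero (fun i _ => ?_)
    have : e (Sum.inr i) = 0 := by
      rw [he]
      simp
    rw [this, mul_zero]
  have huw : polar (⇑Qf) e w = 0 := by
    rw [hQf, he, move_polar_e]
    exact hwr k le_rfl
  set b0 := Cfsg.Agent.Lib.Helper8.eichlerElt Qf hQ e w hu huw with hb0
  set M : Matrix (Idx m) (Idx m) F :=
    ((b0 : Matrix.GeneralLinearGroup (Idx m) F) : Matrix (Idx m) (Idx m) F) with hM
  set M' : Matrix (Idx m) (Idx m) F :=
    (((b0⁻¹ : ↥(Cfsg.isometryGroup F (⇑Qf))) : Matrix.GeneralLinearGroup (Idx m) F) :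
      Matrix (Idx m) (Idx m) F) with hM'
  have h1 : M * M' = 1 := by
    rw [hM, hM', Subgroup.coe_inv, ← Units.val_mul, mul_inv_cancel, Units.val_one]
  have h2 : M' * M = 1 := by
    rw [hM, hM', Subgroup.coe_inv, ← Units.val_mul, inv_mul_cancel, Units.val_one]
  have hMv : ∀ x, M *ᵥ x = move_E k w x := by
    intro x
    rw [hM, hb0, Cfsg.Agent.Lib.Helper8.eichlerElt_mulVec]
    rfl
  have hM'v : ∀ x, M' *ᵥ x = move_E k (-w) x := by
    intro x
    rw [hM', hb0, Cfsg.Agent.Lib.Helper8.eichlerElt_inv, Cfsg.Agent.Lib.Helper8.eichlerElt_mulVec]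
    rfl
  have hpres : ∀ x : Idx m → F, Cfsg.quadFormPlus m F (M *ᵥ x) = Cfsg.quadFormPlus m F x := by
    intro x
    rw [hcoe]
    exact Cfsg.Agent.Lib.Helper8.isoElt_preserves Qf b0 x
  obtain ⟨b, hb⟩ := exists_mt_eq M M' h1 h2 hpres
  refine ⟨b, ?_, k, xk - polar (⇑Qf) w v - Qf w * y, y, ?_⟩
  · unfold Bo
    rw [Subgroup.mem_iInf]
    intro j
    show ∀ x, _ ↔ _
    intro x
    have hbm : (omToMat F m) b = M := hb
    rw [hbm]
    constructor
    · intro hx
      rw [hMv]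
      exact move_maps k w hwr j x hx
    · intro hx
      have : x = M' *ᵥ (M *ᵥ x) := by
        rw [Matrix.mulVec_mulVec, h2, Matrix.one_mulVec]
      rw [this, hM'v]
      exact move_maps k (-w) hwr' j _ hx
  · rw [hb, hMv]
    unfold move_E
    rw [← hQf, ← he, hQf, he, move_polar_e, ← hydef, ← he, ← hQf]
    have hy0 : y ≠ 0 := hy
    have hyw : y • w = -(v - y • f - xk • e) := by
      rw [hw, smul_smul, mul_neg, mul_inv_cancel₀ hy0, neg_one_smul]
    rw [hyw]
    module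

end Cfsg.Agent.Lib.Helper40.OpBN
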