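import Mathlib
import Cfsg.Agent.Lib.Helper14.P4Defs

/-!
# S6000 hive, leaf P4-I2C: `x² = z • 1` with `z` a non-square forces `det x = z²` (4 × 4).

Shared machinery (also used by P4-I3A): an operator `f` which satisfies a quadratic without roots on
two vectors `v ≠ 0`, `w ∉ span(v, f v)` has `v, f v, w, f w` linearly independent.
-/

set_option autoImplicit false

namespace Cfsg.Agent.Lib.Helper14.P4

open Matrix

section
variable {F : Type*} [Field F] {V : Type*} [AddCommGroup V] [Module F V]

/-- the norm trick: if `c u + d f u` lies in an invariant subspace and `(c, d) ≠ 0` then `u` does -/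
theorem i2c_mem_of_comb (f : Module.End F V) (t n : F) (hroot : ∀ r : F, r * r - t * r + n ≠ 0)
    (W : Submodule F V) (hW : ∀ w ∈ W, f w ∈ W) (u : V) (hu : f (f u) = t • f u - n • u)
    (c d : F) (hcd : c ≠ 0 ∨ d ≠ 0) (h : c • u + d • f u ∈ W) : u ∈ W := by
  set N : F := c * c + c * d * t + d * d * n with hN
  have hN0 : N ≠ 0 := by
    by_cases hd : d = 0
    · subst hd
      have hc : c ≠ 0 := by tauto
      simp [hN, hc]
    · intro h0
      apply hroot (-c / d)
      field_simp
      linear_combination h0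
  have key : (c + d * t) • (c • u + d • f u) - d • f (c • u + d • f u) = N • u := by
    rw [map_add, map_smul, map_smul, hu, hN]
    module
  have h1 : N • u ∈ W := by
    rw [← key]
    exact W.sub_mem (W.smul_mem _ h) (W.smul_mem _ (hW _ h))
  have h2 := W.smul_mem N⁻¹ h1
  rwa [smul_smul, inv_mul_cancel₀ hN0, one_smul] at h2

/-- the span of `v, f v` is invariant -/
theorem i2c_span_invariant (f : Module.End F V) (t n : F) (v : V)
    (hv : f (f v) = t • f v - n • v) :
    ∀ z ∈ Submodule.span F {v, f v}, f z ∈ Submodule.span F {v, f v} := by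
  intro z hz
  rw [Submodule.mem_span_pair] at hz ⊢
  obtain ⟨a, b, rfl⟩ := hz
  refine ⟨-(b * n), a + b * t, ?_⟩
  rw [map_add, map_smul, map_smul, hv]
  module

/-- two independent vectors -/
theorem i2c_pair_eq_zero (f : Module.End F V) (t n : F) (hroot : ∀ r : F, r * r - t * r + n ≠ 0)
    (v : V) (hv : f (f v) = t • f v - n • v) (hv0 : v ≠ 0) (a b : F)
    (h : a • v + b • f v = 0) : a = 0 ∧ b = 0 := by
  by_contra hcon
  have hcd : a ≠ 0 ∨ b ≠ 0 := by tauto
  apply hv0
  have := i2c_mem_of_comb f t n hroot ⊥ (by intro w hw; rw [Submodule.mem_bot] at hw ⊢; rw [hw, map_zero])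
    v hv a b hcd (by rw [h]; exact Submodule.zero_mem _)
  simpa using this

/-- four independent vectors -/
theorem i2c_linearIndependent (f : Module.End F V) (t n : F)
    (hroot : ∀ r : F, r * r - t * r + n ≠ 0) (v w : V)
    (hv : f (f v) = t • f v - n • v) (hw : f (f w) = t • f w - n • w) (hv0 : v ≠ 0)
    (hwS : w ∉ Submodule.span F {v, f v}) : LinearIndependent F ![v, f v, w, f w] := by
  rw [Fintype.linearIndependent_iff]
  intro g hg
  have hg' : g 0 • v + g 1 • f v + g 2 • w + g 3 • f w = 0 := by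
    rw [← hg, Fin.sum_univ_four]; rfl
  clear hg
  have hg := hg'
  have h23 : g 2 = 0 ∧ g 3 = 0 := by
    by_contra hcon
    have hcd : g 2 ≠ 0 ∨ g 3 ≠ 0 := by tauto
    apply hwS
    apply i2c_mem_of_comb f t n hroot _ (i2c_span_invariant f t n v hv) w hw (g 2) (g 3) hcd
    have : g 2 • w + g 3 • f w = (-(g 0)) • v + (-(g 1)) • f v := by
      have h' : g 2 • w + g 3 • f w = -(g 0 • v + g 1 • f v) := by
        rw [eq_neg_iff_add_eq_zero]
        rw [← hg]; abel
      rw [h']; module
    rw [this]
    exact Submodule.mem_span_pair.2 ⟨_, _, rfl⟩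
  have h01 : g 0 = 0 ∧ g 1 = 0 := by
    apply i2c_pair_eq_zero f t n hroot v hv hv0
    rw [h23.1, h23.2, zero_smul, zero_smul, add_zero, add_zero] at hg
    exact hg
  intro i
  fin_cases i
  · exact h01.1
  · exact h01.2
  · exact h23.1
  · exact h23.2

/-- a vector outside the span of two vectors, in dimension 4 -/
theorem i2c_exists_not_mem_span (hV : Module.finrank F V = 4) (a b : V) :
    ∃ w : V, w ∉ Submodule.span F ({a, b} : Set V) := by
  classical
  by_contra hcon
  push Not at hcon
  have htop : Submodule.span F ({a, b} : Set V) = ⊤ := by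
    rw [eq_top_iff]; intro w _; exact hcon w
  have h1 := finrank_span_finset_le_card (R := F) ({a, b} : Finset V)
  rw [Finset.coe_pair] at h1
  unfold Set.finrank at h1
  rw [htop, finrank_top, hV] at h1
  have h2 : ({a, b} : Finset V).card ≤ 2 := Finset.card_le_two
  omega

/-- the basis `v, f v, w, f w` -/
theorem i2c_exists_basis (hV : Module.finrank F V = 4) (f : Module.End F V) (t n : F)
    (hroot : ∀ r : F, r * r - t * r + n ≠ 0) (hf : ∀ u, f (f u) = t • f u - n • u) :
    ∃ b : Module.Basis (Fin 4) F V, f (b 0) = b 1 ∧ f (b 1) = t • b 1 - n • b 0 ∧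
      f (b 2) = b 3 ∧ f (b 3) = t • b 3 - n • b 2 := by
  haveI : Nontrivial V := Module.nontrivial_of_finrank_pos (R := F) (by omega)
  obtain ⟨v, hv0⟩ := exists_ne (0 : V)
  obtain ⟨w, hw⟩ := i2c_exists_not_mem_span hV v (f v)
  have hli := i2c_linearIndependent f t n hroot v w (hf v) (hf w) hv0 hw
  have hcard : Fintype.card (Fin 4) = Module.finrank F V := by simp [hV]
  refine ⟨basisOfLinearIndependentOfCardEqFinrank hli hcard, ?_⟩
  simp only [coe_basisOfLinearIndependentOfCardEqFinrank]
  refine ⟨rfl, ?_, rfl, ?_⟩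
  · exact hf v
  · exact hf w

/-- the determinant in the basis `v, f v, w, f w` when `f² = z` -/
theorem i2c_det_core (b : Module.Basis (Fin 4) F V) (f : Module.End F V) (z : F)
    (h0 : f (b 0) = b 1) (h1 : f (b 1) = z • b 0) (h2 : f (b 2) = b 3) (h3 : f (b 3) = z • b 2) :
    LinearMap.det f = z * z := by
  rw [← LinearMap.det_toMatrix b]
  have : LinearMap.toMatrix b b f = !![0,z,0,0; 1,0,0,0; 0,0,0,z; 0,0,1,0] := by
    ext i j
    rw [LinearMap.toMatrix_apply]
    fin_cases j
    · simp only [Fin.zero_eta, h0, Module.Basis.repr_self]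
      fin_cases i <;> simp
    · simp only [Fin.mk_one, h1, map_smul, Module.Basis.repr_self]
      fin_cases i <;> simp
    · simp only [Fin.reduceFinMk, h2, Module.Basis.repr_self]
      fin_cases i <;> simp
    · simp only [Fin.reduceFinMk, h3, map_smul, Module.Basis.repr_self]
      fin_cases i <;> simp
  rw [this]
  simp [Matrix.det_succ_row_zero, Fin.sum_univ_succ, Fin.succAbove]

end

variable {F : Type*} [Field F] [Fintype F]

/-- P4-I2C.  If `x² = z • 1` with `z` a non-square then `det x = z²`. -/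
theorem det_of_sq_eq_nonsquare (h2 : (2 : F) ≠ 0) (x : Matrix (Fin 4) (Fin 4) F) (z : F)
    (hx : x * x = z • 1) (hz : ¬ IsSquare z) : x.det = z * z := by
  have hV : Module.finrank F (Fin 4 → F) = 4 := by simp
  have hf : ∀ u, Matrix.toLin' x (Matrix.toLin' x u) = (0 : F) • Matrix.toLin' x u - (-z) • u := by
    intro u
    rw [← LinearMap.comp_apply, ← Matrix.toLin'_mul, hx]
    simp
  have hroot : ∀ r : F, r * r - 0 * r + (-z) ≠ 0 := by
    intro r hr
    apply hz
    refine ⟨r, ?_⟩
    linear_combination -hr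
  obtain ⟨b, h0, h1, h2', h3⟩ := i2c_exists_basis hV (Matrix.toLin' x) 0 (-z) hroot hf
  rw [← LinearMap.det_toLin']
  apply i2c_det_core b _ z h0 _ h2'
  · rw [h3]; simp
  · rw [h1]; simp

end Cfsg.Agent.Lib.Helper14.P4
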