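import Mathlib
import Cfsg.Agent.Lib.Helper14.P4Defs
import Cfsg.Agent.Lib.Helper44.SfrRat

/-!
# S6000 hive, leaf P4-I5A: conjugacy of elements of order 5 in `GL 4 F` when `Φ₅` is irreducible.
-/

set_option autoImplicit false

namespace Cfsg.Agent.Lib.Helper14.P4

open Matrix Polynomial

section
variable {F : Type*} [Field F]

/-- transport: a linear equivalence intertwining the two operators gives a conjugating element -/
theorem i5a_conj_of_equiv (x y : GL (Fin 4) F)
    (φ : (Fin 4 → F) ≃ₗ[F] (Fin 4 → F))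
    (h : ∀ v, φ (Matrix.toLin' (x : Matrix (Fin 4) (Fin 4) F) v) =
      Matrix.toLin' (y : Matrix (Fin 4) (Fin 4) F) (φ v)) :
    ∃ g : GL (Fin 4) F, g⁻¹ * x * g = y := by
  have h1 : LinearMap.toMatrix' φ.symm.toLinearMap * LinearMap.toMatrix' φ.toLinearMap = 1 := by
    rw [← LinearMap.toMatrix'_comp]; simp
  have h2 : LinearMap.toMatrix' φ.toLinearMap * LinearMap.toMatrix' φ.symm.toLinearMap = 1 := by
    rw [← LinearMap.toMatrix'_comp]; simp
  refine ⟨⟨LinearMap.toMatrix' φ.symm.toLinearMap, LinearMap.toMatrix' φ.toLinearMap, h1, h2⟩, ?_⟩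
  apply Units.ext
  have hx : (x : Matrix (Fin 4) (Fin 4) F) =
      LinearMap.toMatrix' (Matrix.toLin' (x : Matrix (Fin 4) (Fin 4) F)) := by simp
  have hy : (y : Matrix (Fin 4) (Fin 4) F) =
      LinearMap.toMatrix' (Matrix.toLin' (y : Matrix (Fin 4) (Fin 4) F)) := by simp
  show LinearMap.toMatrix' φ.toLinearMap * (x : Matrix (Fin 4) (Fin 4) F) *
    LinearMap.toMatrix' φ.symm.toLinearMap = (y : Matrix (Fin 4) (Fin 4) F)
  rw [hx, hy, ← LinearMap.toMatrix'_comp, ← LinearMap.toMatrix'_comp]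
  congr 1
  apply LinearMap.ext
  intro v
  simp only [LinearMap.comp_apply, LinearEquiv.coe_coe]
  rw [h]
  simp

/-- the conjugating equivalence between two bases with the same action -/
theorem i5a_equiv_of_bases {V : Type*} [AddCommGroup V] [Module F V] {ι : Type*}
    (b c : Module.Basis ι F V) (f g : Module.End F V)
    (h : ∀ i, (b.equiv c (Equiv.refl ι)) (f (b i)) = g (c i)) :
    ∃ φ : V ≃ₗ[F] V, ∀ v, φ (f v) = g (φ v) := by
  refine ⟨b.equiv c (Equiv.refl ι), ?_⟩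
  have : (b.equiv c (Equiv.refl ι)).toLinearMap ∘ₗ f = g ∘ₗ (b.equiv c (Equiv.refl ι)).toLinearMap := by
    apply b.ext
    intro i
    simp only [LinearMap.comp_apply, LinearEquiv.coe_coe]
    rw [h i]
    simp
  intro v
  exact LinearMap.congr_fun this v

/-- a nonzero vector killed by `Φ₅(f)` -/
theorem i5a_exists_vec {V : Type*} [AddCommGroup V] [Module F V]
    (f : Module.End F V) (hf : f ^ 5 = 1) (hf1 : f ≠ 1) :
    ∃ v : V, v ≠ 0 ∧ aeval f (cyclotomic 5 F) v = 0 := by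
  have : ∃ a, f a ≠ a := by
    by_contra hcon
    push Not at hcon
    exact hf1 (LinearMap.ext hcon)
  obtain ⟨a, ha⟩ := this
  refine ⟨f a - a, sub_ne_zero.2 ha, ?_⟩
  haveI : Fact (Nat.Prime 5) := ⟨by norm_num⟩
  have h1 : aeval f (cyclotomic 5 F * (X - 1)) a = 0 := by
    rw [cyclotomic_prime_mul_X_sub_one]
    simp [hf]
  rw [map_mul, Module.End.mul_apply] at h1
  simpa using h1

/-- the top iterate -/
theorem i5a_pow_four {V : Type*} [AddCommGroup V] [Module F V]
    (f : Module.End F V) (v : V) (hv : aeval f (cyclotomic 5 F) v = 0) :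
    f (f (f (f v))) = -(v + f v + f (f v) + f (f (f v))) := by
  haveI : Fact (Nat.Prime 5) := ⟨by norm_num⟩
  rw [cyclotomic_prime] at hv
  simp only [Finset.sum_range_succ, Finset.sum_range_zero, map_add, map_pow, aeval_X, pow_zero,
    zero_add, pow_one, LinearMap.add_apply, map_one, Module.End.one_apply] at hv
  have e2 : (f ^ 2) v = f (f v) := by rw [pow_two]; rfl
  have e3 : (f ^ 3) v = f (f (f v)) := by rw [pow_succ, pow_two]; rfl
  have e4 : (f ^ 4) v = f (f (f (f v))) := by rw [pow_succ, pow_succ, pow_two]; rfl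
  rw [e2, e3, e4] at hv
  exact eq_neg_of_add_eq_zero_right hv

/-- the cyclic basis -/
theorem i5a_exists_basis {V : Type*} [AddCommGroup V] [Module F V]
    (hV : Module.finrank F V = 4) (hirr : Irreducible (cyclotomic 5 F))
    (f : Module.End F V) (hf : f ^ 5 = 1) (hf1 : f ≠ 1) :
    ∃ b : Module.Basis (Fin 4) F V, f (b 0) = b 1 ∧ f (b 1) = b 2 ∧ f (b 2) = b 3 ∧
      f (b 3) = -(b 0 + b 1 + b 2 + b 3) := by
  obtain ⟨v, hv0, hv⟩ := i5a_exists_vec f hf hf1
  have hli := Cfsg.Agent.Lib.Helper44.Sfr.linearIndependent_pow_apply f _ hirr v hv0 hv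
  have hnd : (cyclotomic 5 F).natDegree = 4 := by
    rw [natDegree_cyclotomic]; decide
  rw [hnd] at hli
  have hcard : Fintype.card (Fin 4) = Module.finrank F V := by simp [hV]
  refine ⟨basisOfLinearIndependentOfCardEqFinrank hli hcard, ?_⟩
  simp only [coe_basisOfLinearIndependentOfCardEqFinrank]
  have e2 : (f ^ 2) v = f (f v) := by rw [pow_two]; rfl
  have e3 : (f ^ 3) v = f (f (f v)) := by rw [pow_succ, pow_two]; rfl
  refine ⟨?_, ?_, ?_, ?_⟩
  · simp
  · simp [e2]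
  · simp [e2, e3]
  · simp only [Fin.val_zero, pow_zero, Module.End.one_apply, Fin.val_one, pow_one]
    show f ((f ^ 3) v) = -(v + f v + (f ^ 2) v + (f ^ 3) v)
    rw [e2, e3]
    exact i5a_pow_four f v hv

/-- the abstract statement -/
theorem i5a_core {V : Type*} [AddCommGroup V] [Module F V]
    (hV : Module.finrank F V = 4) (hirr : Irreducible (cyclotomic 5 F))
    (f g : Module.End F V) (hf : f ^ 5 = 1) (hg : g ^ 5 = 1) (hf1 : f ≠ 1) (hg1 : g ≠ 1) :
    ∃ φ : V ≃ₗ[F] V, ∀ v, φ (f v) = g (φ v) := by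
  obtain ⟨b, hb0, hb1, hb2, hb3⟩ := i5a_exists_basis hV hirr f hf hf1
  obtain ⟨c, hc0, hc1, hc2, hc3⟩ := i5a_exists_basis hV hirr g hg hg1
  apply i5a_equiv_of_bases b c f g
  intro i
  fin_cases i
  · simp [hb0, hc0]
  · simp [hb1, hc1]
  · simp [hb2, hc2]
  · simp [hb3, hc3]

end

section
variable {F : Type*} [Field F]

/-- from `GL` to operators -/
theorem i5a_toLin_pow (z : GL (Fin 4) F) (n : ℕ) (hz : z ^ n = 1) :
    (Matrix.toLin' (z : Matrix (Fin 4) (Fin 4) F)) ^ n = 1 := by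
  have h1 : ((z ^ n : GL (Fin 4) F) : Matrix (Fin 4) (Fin 4) F) = 1 := by rw [hz]; rfl
  rw [Units.val_pow_eq_pow_val] at h1
  have h2 := congrArg (Matrix.toLinAlgEquiv' : Matrix (Fin 4) (Fin 4) F ≃ₐ[F] _) h1
  rw [map_pow, map_one] at h2
  exact h2

theorem i5a_toLin_ne_one (z : GL (Fin 4) F) (hz : z ≠ 1) :
    Matrix.toLin' (z : Matrix (Fin 4) (Fin 4) F) ≠ 1 := by
  intro h
  apply hz
  apply Units.ext
  have h2 : Matrix.toLin' (z : Matrix (Fin 4) (Fin 4) F) = Matrix.toLin' (1 : Matrix (Fin 4) (Fin 4) F) := by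
    rw [h, Matrix.toLin'_one]; rfl
  exact Matrix.toLin'.injective h2

end

variable {F : Type*} [Field F] [Fintype F]

/-- P4-I5A.  When the 5th cyclotomic polynomial is irreducible over `F`, all elements of order 5 of
`GL 4 F` are conjugate. -/
theorem conj_of_pow_five (h5 : (5 : F) ≠ 0) (hirr : Irreducible (Polynomial.cyclotomic 5 F))
    (x y : GL (Fin 4) F) (hx : x ^ 5 = 1) (hy : y ^ 5 = 1) (hx1 : x ≠ 1) (hy1 : y ≠ 1) :
    ∃ g : GL (Fin 4) F, g⁻¹ * x * g = y := by
  have hV : Module.finrank F (Fin 4 → F) = 4 := by simp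
  obtain ⟨φ, hφ⟩ := i5a_core hV hirr _ _ (i5a_toLin_pow x 5 hx) (i5a_toLin_pow y 5 hy)
    (i5a_toLin_ne_one x hx1) (i5a_toLin_ne_one y hy1)
  exact i5a_conj_of_equiv x y φ hφ

end Cfsg.Agent.Lib.Helper14.P4
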