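import Mathlib
import Cfsg.Agent.Lib.Helper14.P4Defs
import Cfsg.Agent.Lib.Helper10.P4I5A
import Cfsg.Agent.Lib.Helper10.P4I2C

/-!
# S6000 hive, leaf P4-I3A: conjugacy of elements of order 3 in `GL 4 F` of the same type when `F` has
no primitive cube root of unity.
-/

set_option autoImplicit false

namespace Cfsg.Agent.Lib.Helper14.P4

open Matrix

section
variable {F : Type*} [Field F] {V : Type*} [AddCommGroup V] [Module F V]

/-- type A: both operators satisfy `f² + f + 1 = 0` -/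
theorem i3a_typeA (hV : Module.finrank F V = 4) (hω : ∀ w : F, w * w + w + 1 ≠ 0)
    (f g : Module.End F V) (hf : ∀ u, f (f u) + f u + u = 0) (hg : ∀ u, g (g u) + g u + u = 0) :
    ∃ φ : V ≃ₗ[F] V, ∀ v, φ (f v) = g (φ v) := by
  have hroot : ∀ r : F, r * r - (-1) * r + 1 ≠ 0 := by
    intro r hr
    apply hω r
    linear_combination hr
  have hf' : ∀ u, f (f u) = (-1 : F) • f u - (1 : F) • u := by
    intro u
    rw [neg_one_smul, one_smul]
    have := hf u
    rw [add_assoc, add_eq_zero_iff_eq_neg] at this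
    rw [this]; abel
  have hg' : ∀ u, g (g u) = (-1 : F) • g u - (1 : F) • u := by
    intro u
    rw [neg_one_smul, one_smul]
    have := hg u
    rw [add_assoc, add_eq_zero_iff_eq_neg] at this
    rw [this]; abel
  obtain ⟨b, hb0, hb1, hb2, hb3⟩ := i2c_exists_basis hV f (-1) 1 hroot hf'
  obtain ⟨c, hc0, hc1, hc2, hc3⟩ := i2c_exists_basis hV g (-1) 1 hroot hg'
  apply i5a_equiv_of_bases b c f g
  intro i
  fin_cases i
  · simp [hb0, hc0]
  · simp [hb1, hc1]
  · simp [hb2, hc2]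
  · simp [hb3, hc3]

/-- a vector outside the span of three vectors, in dimension 4 -/
theorem i3a_exists_not_mem_span (hV : Module.finrank F V = 4) (a b c : V) :
    ∃ w : V, w ∉ Submodule.span F ({a, b, c} : Set V) := by
  classical
  by_contra hcon
  push Not at hcon
  have htop : Submodule.span F ({a, b, c} : Set V) = ⊤ := by
    rw [eq_top_iff]; intro w _; exact hcon w
  have h1 := finrank_span_finset_le_card (R := F) ({a, b, c} : Finset V)
  have hcoe : ((({a, b, c} : Finset V)) : Set V) = {a, b, c} := by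
    ext z; simp
  rw [hcoe] at h1
  unfold Set.finrank at h1
  rw [htop, finrank_top, hV] at h1
  have h2 : ({a, b, c} : Finset V).card ≤ 3 := Finset.card_le_three
  omega

/-- type B: the basis `u₁, u₂, v, f v` -/
theorem i3a_typeB_basis (hV : Module.finrank F V = 4) (h3 : (3 : F) ≠ 0)
    (hω : ∀ w : F, w * w + w + 1 ≠ 0) (f : Module.End F V) (hf : ∀ u, f (f (f u)) = u)
    (hf1 : ∃ a, f a ≠ a) (hfP : ∃ a, f (f a) + f a + a ≠ 0) :
    ∃ b : Module.Basis (Fin 4) F V, f (b 0) = b 0 ∧ f (b 1) = b 1 ∧ f (b 2) = b 3 ∧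
      f (b 3) = -b 3 - b 2 := by
  have hroot : ∀ r : F, r * r - (-1) * r + 1 ≠ 0 := by
    intro r hr
    apply hω r
    linear_combination hr
  -- the operator `P`
  set P : Module.End F V := f * f + f + 1 with hP
  have hPapp : ∀ u, P u = f (f u) + f u + u := by
    intro u; simp [hP]
  have hfixP : ∀ u, f (P u) = P u := by
    intro u
    rw [hPapp, map_add, map_add, hf]; abel
  have hPfix : ∀ u, f u = u → P u = (3 : F) • u := by
    intro u hu
    rw [hPapp, hu, hu]; module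
  have hPf : ∀ u, P u = 0 → P (f u) = 0 := by
    intro u hu
    rw [hPapp] at hu ⊢
    rw [← map_add, ← map_add, hu, map_zero]
  have hquad : ∀ u, P u = 0 → f (f u) = (-1 : F) • f u - (1 : F) • u := by
    intro u hu
    rw [hPapp, add_assoc, add_eq_zero_iff_eq_neg] at hu
    rw [hu]; module
  -- the vector `v`
  obtain ⟨a, ha⟩ := hf1
  set v : V := f a - a with hv
  have hv0 : v ≠ 0 := sub_ne_zero.2 ha
  have hPv : P v = 0 := by
    rw [hPapp, hv, map_sub, map_sub, hf]; abel
  have hPfv : P (f v) = 0 := hPf v hPv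
  have hqv := hquad v hPv
  -- `ker P = span {v, f v}`
  have hker : ∀ w, P w = 0 → w ∈ Submodule.span F ({v, f v} : Set V) := by
    intro w hw
    by_contra hwS
    have hli := i2c_linearIndependent f (-1) 1 hroot v w hqv (hquad w hw) hv0 hwS
    have hcard : Fintype.card (Fin 4) = Module.finrank F V := by simp [hV]
    have hP0 : P = 0 := by
      apply (basisOfLinearIndependentOfCardEqFinrank hli hcard).ext
      intro i
      rw [coe_basisOfLinearIndependentOfCardEqFinrank]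
      fin_cases i
      · exact hPv
      · exact hPfv
      · exact hw
      · exact hPf w hw
    obtain ⟨a', ha'⟩ := hfP
    apply ha'
    rw [← hPapp, hP0]; rfl
  -- `u₁`
  obtain ⟨w₁, hw₁⟩ := i2c_exists_not_mem_span hV v (f v)
  set u₁ : V := P w₁ with hu₁
  have hu₁0 : u₁ ≠ 0 := fun h => hw₁ (hker w₁ h)
  have hfu₁ : f u₁ = u₁ := hfixP w₁
  -- `u₂`
  obtain ⟨w₂, hw₂⟩ := i3a_exists_not_mem_span hV u₁ v (f v)
  set u₂ : V := P w₂ with hu₂
  have hfu₂ : f u₂ = u₂ := hfixP w₂
  have hWS : Submodule.span F ({v, f v} : Set V) ≤ Submodule.span F ({u₁, v, f v} : Set V) := by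
    apply Submodule.span_mono
    intro z hz
    exact Set.mem_insert_of_mem _ hz
  have hu₂S : u₂ ∉ Submodule.span F ({u₁, v, f v} : Set V) := by
    intro hmem
    apply hw₂
    have hq : P ((3 : F) • w₂ - u₂) = 0 := by
      rw [map_sub, map_smul, hPfix u₂ hfu₂, sub_self]
    have h1 := hWS (hker _ hq)
    have h2 := Submodule.add_mem _ h1 hmem
    rw [sub_add_cancel] at h2
    have h4 := Submodule.smul_mem _ (3 : F)⁻¹ h2
    rwa [smul_smul, inv_mul_cancel₀ h3, one_smul] at h4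
  -- independence
  have hli : LinearIndependent F ![u₁, u₂, v, f v] := by
    rw [Fintype.linearIndependent_iff]
    intro c hc
    have hc' : c 0 • u₁ + c 1 • u₂ + c 2 • v + c 3 • f v = 0 := by
      rw [← hc, Fin.sum_univ_four]; rfl
    have h1 : c 1 = 0 := by
      by_contra hne
      apply hu₂S
      rw [Submodule.mem_span_triple]
      refine ⟨-(c 1)⁻¹ * c 0, -(c 1)⁻¹ * c 2, -(c 1)⁻¹ * c 3, ?_⟩
      have h5 : c 1 • u₂ = -(c 0 • u₁ + c 2 • v + c 3 • f v) := by
        rw [eq_neg_iff_add_eq_zero, ← hc']; abel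
      have h6 : u₂ = (c 1)⁻¹ • (c 1 • u₂) := by
        rw [smul_smul, inv_mul_cancel₀ hne, one_smul]
      rw [h6, h5]; module
    rw [h1, zero_smul, add_zero] at hc'
    have h0 : c 0 = 0 := by
      have h7 := congrArg P hc'
      rw [map_add, map_add, map_smul, map_smul, map_smul, hPv, hPfv, hPfix u₁ hfu₁, map_zero,
        smul_zero, smul_zero, add_zero, add_zero, smul_smul] at h7
      rcases smul_eq_zero.1 h7 with h8 | h8
      · rcases mul_eq_zero.1 h8 with h9 | h9
        · exact h9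
        · exact absurd h9 h3
      · exact absurd h8 hu₁0
    rw [h0, zero_smul, zero_add] at hc'
    have h23 := i2c_pair_eq_zero f (-1) 1 hroot v hqv hv0 (c 2) (c 3) hc'
    intro i
    fin_cases i
    · exact h0
    · exact h1
    · exact h23.1
    · exact h23.2
  have hcard : Fintype.card (Fin 4) = Module.finrank F V := by simp [hV]
  refine ⟨basisOfLinearIndependentOfCardEqFinrank hli hcard, ?_⟩
  simp only [coe_basisOfLinearIndependentOfCardEqFinrank]
  refine ⟨hfu₁, hfu₂, rfl, ?_⟩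
  show f (f v) = -f v - v
  rw [hqv]; module

/-- type B: conjugacy -/
theorem i3a_typeB (hV : Module.finrank F V = 4) (h3 : (3 : F) ≠ 0)
    (hω : ∀ w : F, w * w + w + 1 ≠ 0) (f g : Module.End F V)
    (hf : ∀ u, f (f (f u)) = u) (hg : ∀ u, g (g (g u)) = u)
    (hf1 : ∃ a, f a ≠ a) (hg1 : ∃ a, g a ≠ a)
    (hfP : ∃ a, f (f a) + f a + a ≠ 0) (hgP : ∃ a, g (g a) + g a + a ≠ 0) :
    ∃ φ : V ≃ₗ[F] V, ∀ v, φ (f v) = g (φ v) := by
  obtain ⟨b, hb0, hb1, hb2, hb3⟩ := i3a_typeB_basis hV h3 hω f hf hf1 hfP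
  obtain ⟨c, hc0, hc1, hc2, hc3⟩ := i3a_typeB_basis hV h3 hω g hg hg1 hgP
  apply i5a_equiv_of_bases b c f g
  intro i
  fin_cases i
  · simp [hb0, hc0]
  · simp [hb1, hc1]
  · simp [hb2, hc2]
  · simp [hb3, hc3]

end

section
variable {F : Type*} [Field F]

theorem i3a_quad_iff (M : Matrix (Fin 4) (Fin 4) F) :
    M * M + M + 1 = 0 ↔
      ∀ u, Matrix.toLin' M (Matrix.toLin' M u) + Matrix.toLin' M u + u = 0 := by
  have key : ∀ u, Matrix.toLin' (M * M + M + 1) u =
      Matrix.toLin' M (Matrix.toLin' M u) + Matrix.toLin' M u + u := by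
    intro u
    rw [map_add, map_add, Matrix.toLin'_mul, Matrix.toLin'_one]; rfl
  constructor
  · intro h u; rw [← key, h, map_zero]; rfl
  · intro h
    apply Matrix.toLin'.injective
    apply LinearMap.ext
    intro u
    rw [key, h, map_zero]; rfl

theorem i3a_cube (z : GL (Fin 4) F) (hz : z ^ 3 = 1) (u : Fin 4 → F) :
    Matrix.toLin' (z : Matrix (Fin 4) (Fin 4) F) (Matrix.toLin' (z : Matrix (Fin 4) (Fin 4) F)
      (Matrix.toLin' (z : Matrix (Fin 4) (Fin 4) F) u)) = u := by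
  have h := i5a_toLin_pow z 3 hz
  have h2 := LinearMap.congr_fun h u
  rw [pow_succ, pow_two] at h2
  exact h2

theorem i3a_exists_moved (z : GL (Fin 4) F) (hz : z ≠ 1) :
    ∃ a, Matrix.toLin' (z : Matrix (Fin 4) (Fin 4) F) a ≠ a := by
  by_contra hcon
  push Not at hcon
  exact i5a_toLin_ne_one z hz (LinearMap.ext hcon)

end

variable {F : Type*} [Field F] [Fintype F]

/-- P4-I3A.  Conjugacy of elements of order 3 when `F` has no primitive cube root of unity. -/
theorem conj_of_pow_three (h3 : (3 : F) ≠ 0) (hω : ∀ w : F, w * w + w + 1 ≠ 0)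
    (x y : GL (Fin 4) F) (hx : x ^ 3 = 1) (hy : y ^ 3 = 1) (hx1 : x ≠ 1) (hy1 : y ≠ 1)
    (hxy : (x : Matrix (Fin 4) (Fin 4) F) * (x : Matrix (Fin 4) (Fin 4) F) +
        (x : Matrix (Fin 4) (Fin 4) F) + 1 = 0 ↔
      (y : Matrix (Fin 4) (Fin 4) F) * (y : Matrix (Fin 4) (Fin 4) F) +
        (y : Matrix (Fin 4) (Fin 4) F) + 1 = 0) :
    ∃ g : GL (Fin 4) F, g⁻¹ * x * g = y := by
  have hV : Module.finrank F (Fin 4 → F) = 4 := by simp
  by_cases hA : (x : Matrix (Fin 4) (Fin 4) F) * (x : Matrix (Fin 4) (Fin 4) F) +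
        (x : Matrix (Fin 4) (Fin 4) F) + 1 = 0
  · have hB := hxy.1 hA
    obtain ⟨φ, hφ⟩ := i3a_typeA hV hω _ _ ((i3a_quad_iff _).1 hA) ((i3a_quad_iff _).1 hB)
    exact i5a_conj_of_equiv x y φ hφ
  · have hB : ¬ ((y : Matrix (Fin 4) (Fin 4) F) * (y : Matrix (Fin 4) (Fin 4) F) +
        (y : Matrix (Fin 4) (Fin 4) F) + 1 = 0) := fun h => hA (hxy.2 h)
    rw [i3a_quad_iff] at hA hB
    push Not at hA hB
    obtain ⟨φ, hφ⟩ := i3a_typeB hV h3 hω _ _ (i3a_cube x hx) (i3a_cube y hy)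
      (i3a_exists_moved x hx1) (i3a_exists_moved y hy1) hA hB
    exact i5a_conj_of_equiv x y φ hφ

end Cfsg.Agent.Lib.Helper14.P4
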