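import Mathlib
import Cfsg.Agent.Lib.Helper10.Replacement
import Cfsg.Agent.Lib.Helper10.Thompson

set_option autoImplicit false

namespace Cfsg.Agent.Lib.Helper10

open scoped commutatorElement
open Cfsg

variable {G : Type*} [Group G]

/-- a `p`-group `P` acting on a nontrivial `p`-group `X` has `[X, P] < X` -/
theorem eq_bot_of_le_commutator_pgroup [Finite G] {p : ℕ} [Fact p.Prime] {X P : Subgroup G}
    (hX : IsPGroup p X) (hP : IsPGroup p P) (hPX : P ≤ Subgroup.normalizer (X : Set G))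
    (h : X ≤ ⁅X, P⁆) : X = ⊥ := by
  have hQ : IsPGroup p (X ⊔ P : Subgroup G) := hX.to_sup_of_normal_left' hP hPX
  have hnil : Group.IsNilpotent ↥(X ⊔ P) := hQ.isNilpotent
  obtain ⟨n, hn⟩ := (Subgroup.isNilpotent_iff_lowerCentralSeries (X ⊔ P)).mp hnil
  have key : ∀ k, X ≤ (X ⊔ P).lowerCentralSeries k := by
    intro k
    induction k with
    | zero => exact le_sup_left
    | succ k ih =>
      rw [Subgroup.lowerCentralSeries_succ]
      exact h.trans (Subgroup.commutator_mono ih le_sup_right)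
  rw [eq_bot_iff, ← hn]
  exact key n

/-- nilpotent action: if `V = [V,A] C_V(A)` and `A` acts as a `p`-group then `[V,A] = 1` -/
theorem ReplCtx.commutator_eq_bot_of_sup_fix [Finite G] {p : ℕ} [Fact p.Prime] {V A : Subgroup G}
    (h : ReplCtx V A) (hVp : IsPGroup p V) {P : Subgroup G} (hP : IsPGroup p P) (hPA : P ≤ A)
    (hred : ∀ x ∈ V, ∀ a ∈ A, ∃ y ∈ P, ⁅x, a⁆ = ⁅x, y⁆)
    (hV : V ≤ ⁅V, A⁆ ⊔ (V ⊓ Subgroup.centralizer (A : Set G))) : ⁅V, A⁆ = ⊥ := by
  have hXV : ⁅V, A⁆ ≤ V := h.commutator_le le_rfl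
  have hW : ⁅V ⊓ Subgroup.centralizer (A : Set G), A⁆ = ⊥ := by
    rw [Subgroup.commutator_eq_bot_iff_le_centralizer]
    exact inf_le_right
  have h1 : ⁅V, A⁆ ≤ ⁅⁅V, A⁆, A⁆ := by
    calc ⁅V, A⁆ ≤ ⁅⁅V, A⁆ ⊔ (V ⊓ Subgroup.centralizer (A : Set G)), A⁆ :=
          Subgroup.commutator_mono hV le_rfl
      _ = ⁅⁅V, A⁆, A⁆ ⊔ ⁅V ⊓ Subgroup.centralizer (A : Set G), A⁆ :=
          h.commutator_sup hXV inf_le_left
      _ = ⁅⁅V, A⁆, A⁆ := by rw [hW, sup_bot_eq]
  have h2 : ⁅⁅V, A⁆, A⁆ ≤ ⁅⁅V, A⁆, P⁆ := by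
    rw [Subgroup.commutator_le]
    intro x hx a ha
    obtain ⟨y, hy, e⟩ := hred x (hXV hx) a ha
    rw [e]
    exact Subgroup.commutator_mem_commutator hx hy
  exact eq_bot_of_le_commutator_pgroup (hVp.to_le hXV) hP
    (hPA.trans (Subgroup.normalizer_commutator_ge_right V A)) (h1.trans h2)

/-- the join of two commuting elementary abelian subgroups is elementary abelian -/
theorem elemAb_sup {p : ℕ} {A B : Subgroup G} (hA : IsElementaryAbelian p A)
    (hB : IsElementaryAbelian p B) (hAB : ∀ a ∈ A, ∀ b ∈ B, a * b = b * a) :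
    IsElementaryAbelian p (A ⊔ B) := by
  have h : A ⊔ B = Subgroup.closure ((A : Set G) ∪ (B : Set G)) := by
    rw [Subgroup.closure_union, Subgroup.closure_eq, Subgroup.closure_eq]
  rw [h]
  apply elemAb_closure
  · rintro a (ha | ha) b (hb | hb)
    · exact elemAb_comm hA a ha b hb
    · exact hAB a ha b hb
    · exact (hAB b hb a ha).symm
    · exact elemAb_comm hB a ha b hb
  · rintro a (ha | ha)
    · exact hA.2 a ha
    · exact hB.2 a ha

/-- an elementary abelian subgroup of maximal order contains every elementary abelian subgroup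
centralizing it -/
theorem le_of_maxElemAb_of_le_centralizer [Finite G] {p : ℕ} {A C : Subgroup G}
    (hA : A ∈ maxElementaryAbelianSubgroups p G) (hC : IsElementaryAbelian p C)
    (hCA : C ≤ Subgroup.centralizer (A : Set G)) : C ≤ A := by
  have hB : IsElementaryAbelian p (A ⊔ C) := elemAb_sup hA.1 hC
    (fun a ha c hc => Subgroup.mem_centralizer_iff.mp (hCA hc) a ha)
  have hcard := hA.2 _ hB
  have heq : A = A ⊔ C := Subgroup.eq_of_le_of_card_ge le_sup_left hcard
  rw [heq]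
  exact le_sup_right

end Cfsg.Agent.Lib.Helper10
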