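import Mathlib
import Cfsg.Prelude.Def_Transfer
import Cfsg.Prelude.Def_Local
import Cfsg.Prelude.Def_PLocal
import Cfsg.Prelude.Def_LocalEven
import Cfsg.Agent.Lib.Helper10.CoprimeOp
import Cfsg.Agent.Lib.Helper51.S4Section
import Cfsg.Agent.Lib.Helper51.InvolvesT
import Cfsg.Agent.Lib.Helper38.SLCard
import Cfsg.Agent.Lib.Helper53.SolvPSolv
import Cfsg.Agent.Lib.Helper84.PCore
import Cfsg.Agent.Lib.Helper30.PPrimeCore
import Cfsg.Agent.Lib.Helper22.Fitting

set_option autoImplicit false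
open Cfsg

/-! `S₄`-free solvable groups: Thompson factorization, and normality of `J(S)` when `S` has class
at most two. -/

namespace Cfsg.Agent.Lib.Helper10

open scoped commutatorElement
open Cfsg.Agent.Lib.Helper10.FFHyp

universe u

section pull

variable {K : Type*} [Group K] (W : Subgroup K) [W.Normal]

/-- the subgroup of `W` corresponding to a subgroup of `holV W` -/
def pullV (U' : Subgroup (Hol W)) : Subgroup K :=
  (U'.comap (SemidirectProduct.inl : ↥W →* Hol W)).map W.subtype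

omit [W.Normal] in
theorem mem_pullV {U' : Subgroup (Hol W)} {x : K} :
    x ∈ pullV W U' ↔ ∃ w : ↥W, (SemidirectProduct.inl w : Hol W) ∈ U' ∧ (w : K) = x := by
  unfold pullV
  rw [Subgroup.mem_map]
  constructor
  · rintro ⟨w, hw, rfl⟩
    exact ⟨w, hw, rfl⟩
  · rintro ⟨w, hw, rfl⟩
    exact ⟨w, hw, rfl⟩

omit [W.Normal] in
theorem card_pullV {U' : Subgroup (Hol W)} (hU' : U' ≤ holV W) :
    Nat.card (pullV W U') = Nat.card U' := by
  unfold pullV
  rw [Subgroup.card_map_of_injective W.subtype_injective]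
  have h1 : (U'.comap (SemidirectProduct.inl : ↥W →* Hol W)).map SemidirectProduct.inl = U' := by
    apply Subgroup.map_comap_eq_self
    intro y hy
    obtain ⟨w, rfl⟩ := mem_holV.mp (hU' hy)
    exact ⟨w, rfl⟩
  conv_rhs => rw [← h1]
  exact (Subgroup.card_map_of_injective SemidirectProduct.inl_injective).symm

theorem conj_mem_pullV {U' : Subgroup (Hol W)} {k : K}
    (hk : holπ W k ∈ Subgroup.normalizer (U' : Set (Hol W))) {x : K} (hx : x ∈ pullV W U') :
    k * x * k⁻¹ ∈ pullV W U' := by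
  obtain ⟨w, hw, rfl⟩ := (mem_pullV W).mp hx
  have h1 := (Subgroup.mem_normalizer_iff.mp hk _).mp hw
  rw [holπ_conj] at h1
  exact (mem_pullV W).mpr ⟨_, h1, by rw [MulAut.conjNormal_apply]⟩

theorem mem_normalizer_pullV {U' : Subgroup (Hol W)} {k : K}
    (hk : holπ W k ∈ Subgroup.normalizer (U' : Set (Hol W))) :
    k ∈ Subgroup.normalizer (pullV W U' : Set K) := by
  rw [Subgroup.mem_normalizer_iff]
  intro x
  constructor
  · exact conj_mem_pullV W hk
  · intro hx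
    have hk' : holπ W k⁻¹ ∈ Subgroup.normalizer (U' : Set (Hol W)) := by
      rw [map_inv]; exact Subgroup.inv_mem _ hk
    have := conj_mem_pullV W hk' hx
    have e : k⁻¹ * (k * x * k⁻¹) * k⁻¹⁻¹ = x := by group
    rwa [e] at this

theorem holπ_mem_centralizer_of_pullV {U' : Subgroup (Hol W)} (hU' : U' ≤ holV W) {k : K}
    (hk : ∀ x ∈ pullV W U', k * x * k⁻¹ = x) :
    holπ W k ∈ Subgroup.centralizer (U' : Set (Hol W)) := by
  rw [Subgroup.mem_centralizer_iff]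
  intro y hy
  obtain ⟨w, rfl⟩ := mem_holV.mp (hU' hy)
  have h1 := hk (w : K) ((mem_pullV W).mpr ⟨w, hy, rfl⟩)
  have h2 : k * (w : K) = (w : K) * k := by
    calc k * (w : K) = (k * w * k⁻¹) * k := by group
      _ = w * k := by rw [h1]
  exact ((holπ_conj_eq_iff W).mpr h2).symm

end pull

section tf

variable {K : Type u} [Group K] [Finite K]

/-- `J(K)` maps onto a group generated by best offenders -/
theorem gen_map_holπ {p : ℕ} [Fact p.Prime] (W : Subgroup K) [W.Normal]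
    (hWe : IsElementaryAbelian p W) :
    (thompsonSubgroup p K).map (holπ W) =
      ⨆ A : {A : Subgroup (Hol W) // A ≤ (thompsonSubgroup p K).map (holπ W) ∧
        IsBestOffenderOn p (holV W) A}, (A : Subgroup (Hol W)) := by
  have hBOA : ∀ A ∈ maxElementaryAbelianSubgroups p K,
      A.map (holπ W) ≤ (thompsonSubgroup p K).map (holπ W) ∧
        IsBestOffenderOn p (holV W) (A.map (holπ W)) := by
    intro A hA
    exact ⟨Subgroup.map_mono (maxElemAb_le_thompson hA),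
      isBestOffenderOn_map_holπ W (Cfsg.Agent.S0606.result W hWe A hA)⟩
  apply le_antisymm
  · rw [Subgroup.map_le_iff_le_comap]
    unfold thompsonSubgroup
    apply sSup_le
    intro A hA
    rw [← Subgroup.map_le_iff_le_comap]
    exact le_iSup (fun A : {A : Subgroup (Hol W) // A ≤ (sSup (maxElementaryAbelianSubgroups p K)).map
      (holπ W) ∧ IsBestOffenderOn p (holV W) A} => (A : Subgroup (Hol W))) ⟨A.map (holπ W), hBOA A hA⟩
  · exact iSup_le (fun A => A.2.1)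

/-- if the Thompson factorization fails in a `2`-solvable group with trivial odd core, then `S₄`
is involved -/
theorem involves_S4_of_not_TF (hsep : IsPSolvable 2 K) (hO : pPrimeCore 2 K = ⊥)
    (hnf : ¬ IsThompsonFactorizable 2 K) : Involves (Equiv.Perm (Fin 4)) K := by
  haveI : Fact (Nat.Prime 2) := ⟨Nat.prime_two⟩
  haveI : Fact (Nat.Prime 3) := ⟨Nat.prime_three⟩
  have hc := Cfsg.Agent.Lib.Helper76.centralizer_pCore_le_of_isPSolvable hsep hO
  obtain ⟨hWn, hWe, hWD⟩ := Cfsg.Agent.S0601.result (G := K) (p := 2) hc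
  have hJC := (not_congr (Cfsg.Agent.S0608.result (G := K) (p := 2) hO)).mp hnf
  obtain ⟨W, hW⟩ : ∃ W : Subgroup K, W = ⨆ S : Sylow 2 K,
      omegaOne 2 ((S : Subgroup K) ⊓ Subgroup.centralizer ((S : Subgroup K) : Set K)) := ⟨_, rfl⟩
  rw [← hW] at hWn hWe hWD hJC
  haveI := hWn
  have hOq : pCore 2 (K ⧸ Subgroup.centralizer (W : Set K)) = ⊥ :=
    Cfsg.Agent.S0618.pCore_quotient_eq_bot _ hWD
  haveI hJn : (thompsonSubgroup 2 K).Normal := Cfsg.Agent.S0618.thompsonSubgroup_normal 2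
  have hff := ffHyp_map_holπ W hWe hsep hOq (thompsonSubgroup 2 K)
  have hS3 := gen_map_holπ W hWe
  obtain ⟨H', hH'⟩ : ∃ H' : Subgroup (Hol W), H' = (thompsonSubgroup 2 K).map (holπ W) := ⟨_, rfl⟩
  rw [← hH'] at hff hS3
  have hH1 : H' ≠ ⊥ := by
    intro hbot
    apply hJC
    intro x hx
    rw [← holπ_eq_one_iff W, ← Subgroup.mem_bot, ← hbot, hH']
    exact Subgroup.mem_map_of_mem _ hx
  obtain ⟨A', hA'1⟩ : ∃ A' : {A : Subgroup (Hol W) // A ≤ H' ∧ IsBestOffenderOn 2 (holV W) A},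
      (A' : Subgroup (Hol W)) ≠ ⊥ := by
    by_contra hcon
    push Not at hcon
    apply hH1
    rw [hS3, eq_bot_iff]
    exact iSup_le (fun A' => (hcon A').le)
  obtain ⟨B, hBA', hB⟩ := exists_isMinBO A'.2.2 hA'1
  have hBH : B ≤ H' := hBA'.trans A'.2.1
  obtain ⟨-, ⟨e⟩, hcardU, hfaith, -⟩ := hff.ffE_facts hBH hB
  obtain ⟨E', hE'⟩ : ∃ E' : Subgroup (Hol W), E' = ffE 2 H' B := ⟨_, rfl⟩
  rw [← hE'] at e hcardU hfaith
  have hE'H : E' ≤ H' := by rw [hE']; exact FFHyp.ffE_le hBH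
  have hE'N : E' ≤ Subgroup.normalizer ((holV W : Subgroup (Hol W)) : Set (Hol W)) :=
    hE'H.trans hff.norm
  obtain ⟨U', hU'⟩ : ∃ U' : Subgroup (Hol W), U' = ⁅holV W, E'⁆ := ⟨_, rfl⟩
  rw [← hU'] at hcardU hfaith
  have hU'V : U' ≤ holV W := by
    rw [hU']
    exact Cfsg.Agent.Lib.Helper24.commutator_le_of_le_normalizer _ _ hE'N
  have hE'NU : E' ≤ Subgroup.normalizer (U' : Set (Hol W)) := by
    intro g hg
    rw [mem_normalizer_iff_cj_eq, hU', cj_commutator (hE'N hg)]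
    congr 1
    exact map_conj_eq_of_mem_normalizer (Subgroup.le_normalizer hg)
  have hcardE : Nat.card E' = 6 := by
    rw [Nat.card_congr e.toEquiv, Cfsg.Agent.Lib.Helper38.card_SL2, ZMod.card]
    norm_num
  obtain ⟨U, hU⟩ : ∃ U : Subgroup K, U = pullV W U' := ⟨_, rfl⟩
  have hU4 : Nat.card U = 4 := by
    rw [hU, card_pullV W hU'V, hcardU]; norm_num
  -- the key claim
  have key : ∀ g : K, holπ W g ∈ E' → holπ W g ≠ 1 →
      g ∈ Subgroup.normalizer (U : Set K) ∧ ∃ x ∈ U, g * x * g⁻¹ ≠ x := by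
    intro g hg hg1
    refine ⟨by rw [hU]; exact mem_normalizer_pullV W (hE'NU hg), ?_⟩
    by_contra hcon
    push Not at hcon
    apply hg1
    rw [hU] at hcon
    have h1 := holπ_mem_centralizer_of_pullV W hU'V hcon
    have h2 : holπ W g ∈ E' ⊓ Subgroup.centralizer (U' : Set (Hol W)) := ⟨hg, h1⟩
    rw [hfaith] at h2
    exact Subgroup.mem_bot.mp h2
  -- elements of order 3 and 2
  haveI : Finite ↥E' := inferInstance
  obtain ⟨r', hr'⟩ := exists_prime_orderOf_dvd_card' (G := ↥E') 3 (by rw [hcardE]; norm_num)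
  obtain ⟨t', ht'⟩ := exists_prime_orderOf_dvd_card' (G := ↥E') 2 (by rw [hcardE]; norm_num)
  have hlift : ∀ y : ↥E', ∃ g : K, holπ W g = (y : Hol W) := by
    intro y
    have h1 : (y : Hol W) ∈ H' := hE'H y.2
    rw [hH'] at h1
    obtain ⟨g, -, hg⟩ := h1
    exact ⟨g, hg⟩
  obtain ⟨r₀, hr₀⟩ := hlift r'
  obtain ⟨t₀, ht₀⟩ := hlift t'
  obtain ⟨a, b, hb, hab⟩ := Nat.exists_eq_two_pow_mul_odd (orderOf_pos r₀).ne'
  obtain ⟨a', b', hb', hab'⟩ := Nat.exists_eq_two_pow_mul_odd (orderOf_pos t₀).ne'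
  have hr'1 : ∀ m : ℕ, (r' : Hol W) ^ (2 ^ m) ≠ 1 := by
    intro m h
    have h1 : r' ^ (2 ^ m) = 1 := Subtype.ext (by rw [Subgroup.coe_pow, h]; rfl)
    have h2 := orderOf_dvd_of_pow_eq_one h1
    rw [hr'] at h2
    have h3 := Nat.Prime.dvd_of_dvd_pow Nat.prime_three h2
    omega
  have ht'1 : (t' : Hol W) ^ b' ≠ 1 := by
    intro h
    have h1 : t' ^ b' = 1 := Subtype.ext (by rw [Subgroup.coe_pow, h]; rfl)
    have h2 := orderOf_dvd_of_pow_eq_one h1
    rw [ht'] at h2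
    obtain ⟨c, hc⟩ := hb'
    omega
  obtain ⟨hrN, hrX⟩ := key (r₀ ^ (2 ^ a)) (by rw [map_pow, hr₀]; exact E'.pow_mem r'.2 _)
    (by rw [map_pow, hr₀]; exact hr'1 a)
  obtain ⟨htN, htX⟩ := key (t₀ ^ b') (by rw [map_pow, ht₀]; exact E'.pow_mem t'.2 _)
    (by rw [map_pow, ht₀]; exact ht'1)
  have hrodd : Odd (orderOf (r₀ ^ (2 ^ a))) := by
    apply Odd.of_dvd_nat hb
    apply orderOf_dvd_of_pow_eq_one
    rw [← pow_mul, ← hab, pow_orderOf_eq_one]
  have ht2 : ∃ k : ℕ, (t₀ ^ b') ^ (2 ^ k) = 1 := by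
    refine ⟨a', ?_⟩
    rw [← pow_mul, mul_comm, ← hab', pow_orderOf_eq_one]
  exact Cfsg.Agent.Lib.Helper51.involves_S4_of_four U hU4 _ _ hrN htN hrodd ht2 hrX htX

end tf

section class2

variable {G : Type*} [Group G]

/-- nilpotency class at most two, elementwise -/
def Class2 (S : Subgroup G) : Prop :=
  ∀ x ∈ S, ∀ y ∈ S, ∀ z ∈ S, ⁅⁅x, y⁆, z⁆ = 1

theorem class2_of_lcs (S : Subgroup G) (h : S.lowerCentralSeries 2 = ⊥) : Class2 S := by
  intro x hx y hy z hz
  have h1 : ⁅⁅x, y⁆, z⁆ ∈ S.lowerCentralSeries 2 := by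
    rw [show (2 : ℕ) = 0 + 1 + 1 from rfl, Subgroup.lowerCentralSeries_succ,
      Subgroup.lowerCentralSeries_succ, Subgroup.lowerCentralSeries_zero]
    exact Subgroup.commutator_mem_commutator (Subgroup.commutator_mem_commutator hx hy) hz
  rw [h] at h1
  exact Subgroup.mem_bot.mp h1

/-- in a group of class at most two, commutators with involutions lie in `Ω₁(Z(S))` -/
theorem comm_mem_omegaZ {S : Subgroup G} (hcl : Class2 S) {s a : G} (hs : s ∈ S) (ha : a ∈ S)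
    (ha2 : a ^ 2 = 1) :
    ⁅s, a⁆ ∈ omegaOne 2 (S ⊓ Subgroup.centralizer (S : Set G)) := by
  have hcS : ⁅s, a⁆ ∈ S := by
    rw [commutatorElement_def]
    exact S.mul_mem (S.mul_mem (S.mul_mem hs ha) (S.inv_mem hs)) (S.inv_mem ha)
  have hcC : ∀ z ∈ S, ⁅s, a⁆ * z = z * ⁅s, a⁆ := fun z hz =>
    commutatorElement_eq_one_iff_mul_comm.mp (hcl s hs a ha z hz)
  have hca := hcC a ha
  have e1 : s * a * s⁻¹ = ⁅s, a⁆ * a := by rw [commutatorElement_def]; group
  have e2 : (s * a * s⁻¹) * (s * a * s⁻¹) = 1 := by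
    calc (s * a * s⁻¹) * (s * a * s⁻¹) = s * (a * a) * s⁻¹ := by group
      _ = 1 := by rw [← pow_two, ha2]; group
  have e3 : ⁅s, a⁆ ^ 2 = 1 := by
    calc ⁅s, a⁆ ^ 2 = ⁅s, a⁆ * ⁅s, a⁆ * a ^ 2 := by rw [ha2, mul_one, pow_two]
      _ = ⁅s, a⁆ * (⁅s, a⁆ * a) * a := by rw [pow_two]; group
      _ = ⁅s, a⁆ * (a * ⁅s, a⁆) * a := by rw [hca]
      _ = (⁅s, a⁆ * a) * (⁅s, a⁆ * a) := by group
      _ = 1 := by rw [← e1, e2]
  unfold omegaOne
  apply Subgroup.subset_closure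
  refine ⟨⟨hcS, ?_⟩, e3⟩
  show ⁅s, a⁆ ∈ Subgroup.centralizer (S : Set G)
  rw [Subgroup.mem_centralizer_iff]
  intro z hz
  exact (hcC z hz).symm

theorem omegaZ_elemAb (S : Subgroup G) :
    IsElementaryAbelian 2 (omegaOne 2 (S ⊓ Subgroup.centralizer (S : Set G))) := by
  unfold omegaOne
  apply elemAb_closure
  · rintro x ⟨hx, -⟩ y ⟨hy, -⟩
    exact (Subgroup.mem_centralizer_iff.mp hy.2 x hx.1)
  · rintro x ⟨-, hx⟩
    exact hx

end class2

section central

variable {G : Type*} [Group G]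

/-- the elements acting trivially on `F/Z`, for a normal subgroup `F` and a central subgroup `Z` -/
def stabSub (F Z : Subgroup G) [F.Normal] (hZ : ∀ z ∈ Z, ∀ g : G, g * z = z * g) : Subgroup G where
  carrier := {g | ∀ f ∈ F, g * f * g⁻¹ * f⁻¹ ∈ Z}
  one_mem' := by
    intro f _
    have : (1 : G) * f * 1⁻¹ * f⁻¹ = 1 := by group
    rw [this]; exact Z.one_mem
  mul_mem' := by
    intro g h hg hh f hf
    have e : (g * h) * f * (g * h)⁻¹ * f⁻¹ =
        g * (h * f * h⁻¹ * f⁻¹) * g⁻¹ * (g * f * g⁻¹ * f⁻¹) := by group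
    rw [e]
    have h1 : g * (h * f * h⁻¹ * f⁻¹) * g⁻¹ = h * f * h⁻¹ * f⁻¹ := by
      rw [hZ _ (hh f hf) g]; group
    rw [h1]
    exact Z.mul_mem (hh f hf) (hg f hf)
  inv_mem' := by
    intro g hg f hf
    have hf' : g⁻¹ * f * g ∈ F := by
      have := ‹F.Normal›.conj_mem f hf g⁻¹
      simpa using this
    have e : g⁻¹ * f * g⁻¹⁻¹ * f⁻¹ = (g * (g⁻¹ * f * g) * g⁻¹ * (g⁻¹ * f * g)⁻¹)⁻¹ := by group
    rw [e]
    exact Z.inv_mem (hg _ hf')

theorem stabSub_normal (F Z : Subgroup G) [F.Normal] (hZ : ∀ z ∈ Z, ∀ g : G, g * z = z * g) :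
    (stabSub F Z hZ).Normal := by
  refine ⟨fun g hg k f hf => ?_⟩
  have hf' : k⁻¹ * f * k ∈ F := by
    have := ‹F.Normal›.conj_mem f hf k⁻¹
    simpa using this
  have e : (k * g * k⁻¹) * f * (k * g * k⁻¹)⁻¹ * f⁻¹ =
      k * (g * (k⁻¹ * f * k) * g⁻¹ * (k⁻¹ * f * k)⁻¹) * k⁻¹ := by group
  rw [e, hZ _ (hg _ hf') k]
  have : g * (k⁻¹ * f * k) * g⁻¹ * (k⁻¹ * f * k)⁻¹ * k * k⁻¹ =
      g * (k⁻¹ * f * k) * g⁻¹ * (k⁻¹ * f * k)⁻¹ := by group
  rw [this]
  exact hg _ hf'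

theorem stabSub_sq_mem_centralizer (F Z : Subgroup G) [F.Normal]
    (hZ : ∀ z ∈ Z, ∀ g : G, g * z = z * g) (hZ2 : ∀ z ∈ Z, z ^ 2 = 1) {g : G}
    (hg : g ∈ stabSub F Z hZ) : g ^ 2 ∈ Subgroup.centralizer (F : Set G) := by
  rw [Subgroup.mem_centralizer_iff]
  intro f hf
  have hz := hg f hf
  have h1 : g * f * g⁻¹ = (g * f * g⁻¹ * f⁻¹) * f := by group
  have h2 : g ^ 2 * f * (g ^ 2)⁻¹ = f := by
    calc g ^ 2 * f * (g ^ 2)⁻¹ = g * (g * f * g⁻¹) * g⁻¹ := by rw [pow_two]; group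
      _ = g * ((g * f * g⁻¹ * f⁻¹) * f) * g⁻¹ := by rw [← h1]
      _ = (g * (g * f * g⁻¹ * f⁻¹)) * f * g⁻¹ := by group
      _ = ((g * f * g⁻¹ * f⁻¹) * g) * f * g⁻¹ := by rw [hZ _ hz g]
      _ = (g * f * g⁻¹ * f⁻¹) * (g * f * g⁻¹) := by group
      _ = (g * f * g⁻¹ * f⁻¹) * ((g * f * g⁻¹ * f⁻¹) * f) := by rw [← h1]
      _ = (g * f * g⁻¹ * f⁻¹) ^ 2 * f := by rw [pow_two]; group
      _ = f := by rw [hZ2 _ hz, one_mul]
  calc f * g ^ 2 = (g ^ 2 * f * (g ^ 2)⁻¹) * g ^ 2 := by rw [h2]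
    _ = g ^ 2 * f := by group

/-- if `Ω₁(Z(S))` is central and `S` has class at most two, the involutions of `S` lie in `O₂(G)` -/
theorem mem_pCore_of_central [Finite G] (S : Sylow 2 G) (hcl : Class2 (S : Subgroup G))
    (hcF : Subgroup.centralizer (pCore 2 G : Set G) ≤ pCore 2 G)
    (hC : Subgroup.centralizer ((omegaOne 2 ((S : Subgroup G) ⊓
      Subgroup.centralizer ((S : Subgroup G) : Set G)) : Subgroup G) : Set G) = ⊤)
    {a : G} (ha : a ∈ (S : Subgroup G)) (ha2 : a ^ 2 = 1) : a ∈ pCore 2 G := by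
  haveI : Fact (Nat.Prime 2) := ⟨Nat.prime_two⟩
  haveI hFn : (pCore 2 G).Normal := Cfsg.Agent.Lib.Helper22.pCore_normal' 2 G
  have hFS : pCore 2 G ≤ (S : Subgroup G) := Cfsg.Agent.Lib.Helper84.pCore_le_sylow S
  have hF2 : IsPGroup 2 (pCore 2 G) := Cfsg.Agent.Lib.Helper84.pCore_isPGroup 2 G
  obtain ⟨Z, hZdef⟩ : ∃ Z : Subgroup G, Z = omegaOne 2 ((S : Subgroup G) ⊓
      Subgroup.centralizer ((S : Subgroup G) : Set G)) := ⟨_, rfl⟩
  rw [← hZdef] at hC
  have hZ : ∀ z ∈ Z, ∀ g : G, g * z = z * g := by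
    intro z hz g
    have hg : g ∈ Subgroup.centralizer (Z : Set G) := by rw [hC]; exact Subgroup.mem_top g
    exact (Subgroup.mem_centralizer_iff.mp hg z hz).symm
  have hZ2 : ∀ z ∈ Z, z ^ 2 = 1 := by
    rw [hZdef]; exact (omegaZ_elemAb (S : Subgroup G)).2
  have hX2 : IsPGroup 2 (stabSub (pCore 2 G) Z hZ) := by
    intro g
    have h1 := hcF (stabSub_sq_mem_centralizer (pCore 2 G) Z hZ hZ2 g.2)
    obtain ⟨k, hk⟩ := hF2 ⟨(g : G) ^ 2, h1⟩
    refine ⟨k + 1, ?_⟩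
    apply Subtype.ext
    have h2 : ((g : G) ^ 2) ^ 2 ^ k = 1 := by
      have := congrArg Subtype.val hk
      simpa using this
    rw [Subgroup.coe_pow, pow_succ, mul_comm, pow_mul]
    exact h2
  have hXF : stabSub (pCore 2 G) Z hZ ≤ pCore 2 G :=
    le_sSup ⟨stabSub_normal (pCore 2 G) Z hZ, hX2⟩
  apply hXF
  intro f hf
  have h1 := comm_mem_omegaZ hcl (hFS hf) ha ha2
  rw [← hZdef] at h1
  have h2 : a * f * a⁻¹ * f⁻¹ = ⁅f, a⁆⁻¹ := by rw [commutatorElement_def]; group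
  rw [h2]
  exact Z.inv_mem h1

end central

section main

/-- In a solvable `S₄`-free group with trivial odd core whose Sylow `2`-subgroup `S` has class at
most two, `J(S)` is normal. -/
theorem thompson_normal_aux : ∀ (n : ℕ) (G : Type u) [Group G] [Finite G], Nat.card G = n →
    Group.IsSolvable G → pPrimeCore 2 G = ⊥ → ¬ Involves (Equiv.Perm (Fin 4)) G →
    ∀ S : Sylow 2 G, Class2 (S : Subgroup G) →
    Subgroup.normalizer (thompsonSubgroupOf 2 (S : Subgroup G) : Set G) = ⊤ := by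
  intro n
  induction n using Nat.strong_induction_on with
  | _ n ih =>
  intro G _ _ hn hsol hO hS4 S hcl
  haveI : Fact (Nat.Prime 2) := ⟨Nat.prime_two⟩
  have hsep : IsPSolvable 2 G := Cfsg.Agent.Lib.Helper53.isPSolvable_of_isSolvable 2 hsol
  have hcF := Cfsg.Agent.Lib.Helper76.centralizer_pCore_le_of_isPSolvable hsep hO
  haveI hFn : (pCore 2 G).Normal := Cfsg.Agent.Lib.Helper22.pCore_normal' 2 G
  have hFS : pCore 2 G ≤ (S : Subgroup G) := Cfsg.Agent.Lib.Helper84.pCore_le_sylow S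
  have hF2 : IsPGroup 2 (pCore 2 G) := Cfsg.Agent.Lib.Helper84.pCore_isPGroup 2 G
  by_cases hC : Subgroup.centralizer ((omegaOne 2 ((S : Subgroup G) ⊓
      Subgroup.centralizer ((S : Subgroup G) : Set G)) : Subgroup G) : Set G) = ⊤
  · -- `Ω₁(Z(S))` is central: `J(S) ≤ O₂(G)`
    have hJF : thompsonSubgroupOf 2 (S : Subgroup G) ≤ pCore 2 G := by
      rw [thompsonSubgroupOf_eq_sSup]
      apply sSup_le
      intro A hA a ha
      exact mem_pCore_of_central S hcl hcF hC (hA.1 ha) (hA.2.1.2 a ha)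
    have hJeq := thompsonSubgroupOf_eq_of_le 2 hJF hFS
    rw [eq_top_iff]
    intro g _
    rw [mem_normalizer_iff_cj_eq, ← hJeq]
    have h1 := map_thompsonSubgroupOf 2 (pCore 2 G) (MulAut.conj g)
    have h2 : (pCore 2 G).map (MulAut.conj g).toMonoidHom = pCore 2 G :=
      map_conj_eq_of_mem_normalizer (by
        rw [Subgroup.normalizer_eq_top_iff.mpr hFn]; exact Subgroup.mem_top g)
    rw [h2] at h1
    exact h1
  · -- `C = C_G(Ω₁(Z(S)))` is proper
    obtain ⟨C, hCdef⟩ : ∃ C : Subgroup G, C = Subgroup.centralizer ((omegaOne 2 ((S : Subgroup G) ⊓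
      Subgroup.centralizer ((S : Subgroup G) : Set G)) : Subgroup G) : Set G) := ⟨_, rfl⟩
    rw [← hCdef] at hC
    have hTF : IsThompsonFactorizable 2 G := by
      by_contra h
      exact hS4 (involves_S4_of_not_TF hsep hO h)
    have hSC : (S : Subgroup G) ≤ C := by
      intro s hs
      rw [hCdef, Subgroup.mem_centralizer_iff]
      intro z hz
      have hz' := omegaOne_le 2 _ hz
      exact (Subgroup.mem_centralizer_iff.mp hz'.2 s hs).symm
    have hFC : pCore 2 G ≤ C := hFS.trans hSC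
    -- the odd core of `C` is trivial
    have hOC : pPrimeCore 2 ↥C = ⊥ := by
      rw [← Subgroup.map_eq_bot_iff_of_injective _ C.subtype_injective, eq_bot_iff]
      have hcop : (Nat.card ((pPrimeCore 2 ↥C).map C.subtype)).Coprime (Nat.card (pCore 2 G)) := by
        rw [Subgroup.card_map_of_injective C.subtype_injective]
        obtain ⟨k, hk⟩ := hF2.exists_card_eq
        rw [hk]
        exact Nat.Coprime.pow_right k (Cfsg.Agent.Lib.Helper30.pPrimeCore_card_coprime 2)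
      have hinf := (Subgroup.disjoint_of_coprime_natCard hcop).eq_bot
      have hle : (pPrimeCore 2 ↥C).map C.subtype ≤ Subgroup.centralizer (pCore 2 G : Set G) := by
        rintro _ ⟨o, ho, rfl⟩
        rw [Subgroup.mem_centralizer_iff]
        intro f hf
        have h1 : (o : G) * f * (o : G)⁻¹ * f⁻¹ ∈ (pPrimeCore 2 ↥C).map C.subtype := by
          have h2 : (⟨f, hFC hf⟩ : ↥C) * o⁻¹ * (⟨f, hFC hf⟩ : ↥C)⁻¹ ∈ pPrimeCore 2 ↥C :=
            (Cfsg.pPrimeCore_normal 2 ↥C).conj_mem _ (Subgroup.inv_mem _ ho) _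
          refine ⟨o * ((⟨f, hFC hf⟩ : ↥C) * o⁻¹ * (⟨f, hFC hf⟩ : ↥C)⁻¹),
            Subgroup.mul_mem _ ho h2, ?_⟩
          simp only [Subgroup.subtype_apply, Subgroup.coe_mul, Subgroup.coe_inv]
          group
        have h3 : (o : G) * f * (o : G)⁻¹ * f⁻¹ ∈ pCore 2 G :=
          Subgroup.mul_mem _ (hFn.conj_mem f hf _) (Subgroup.inv_mem _ hf)
        have h4 : (o : G) * f * (o : G)⁻¹ * f⁻¹ ∈
            (pPrimeCore 2 ↥C).map C.subtype ⊓ pCore 2 G := ⟨h1, h3⟩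
        rw [hinf, Subgroup.mem_bot] at h4
        calc f * (o : G) = ((o : G) * f * (o : G)⁻¹ * f⁻¹)⁻¹ * (o : G) * f := by group
          _ = (o : G) * f := by rw [h4]; group
      intro x hx
      have h5 : x ∈ (pPrimeCore 2 ↥C).map C.subtype ⊓ pCore 2 G := ⟨hx, hcF (hle hx)⟩
      rwa [hinf] at h5
    -- induction
    have hlt : Nat.card ↥C < n := by
      rw [← hn]
      exact lt_of_le_of_ne (Subgroup.card_le_card_group C) (fun h => hC (C.eq_top_of_card_eq h))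
    have hS4C : ¬ Involves (Equiv.Perm (Fin 4)) ↥C := fun h =>
      hS4 (Cfsg.Agent.Lib.Helper51.involves_of_injective C.subtype C.subtype_injective h)
    have hclC : Class2 ((S.subtype hSC : Sylow 2 ↥C) : Subgroup ↥C) := by
      intro x hx y hy z hz
      rw [Sylow.coe_subtype, Subgroup.mem_subgroupOf] at hx hy hz
      apply Subtype.ext
      have := hcl _ hx _ hy _ hz
      simpa [commutatorElement_def] using this
    haveI := hsol
    have hIH := ih _ hlt ↥C rfl inferInstance hOC hS4C (S.subtype hSC) hclC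
    have hJmap : (thompsonSubgroupOf 2 ((S.subtype hSC : Sylow 2 ↥C) : Subgroup ↥C)).map C.subtype =
        thompsonSubgroupOf 2 (S : Subgroup G) := by
      rw [map_thompsonSubgroupOf_of_injOn 2 (f := C.subtype)
        (fun x _ hx => C.subtype_injective (by rw [hx, map_one])), Sylow.coe_subtype,
        Subgroup.map_subgroupOf_eq_of_le hSC]
    have hCN : C ≤ Subgroup.normalizer (thompsonSubgroupOf 2 (S : Subgroup G) : Set G) := by
      intro c hc
      rw [← hJmap]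
      apply Subgroup.le_normalizer_map C.subtype
      refine ⟨⟨c, hc⟩, ?_, rfl⟩
      rw [hIH]; exact Subgroup.mem_top _
    rw [eq_top_iff]
    intro g _
    obtain ⟨x, hx, c, hc, m, hm, rfl⟩ := hTF S g
    rw [hO, Subgroup.mem_bot] at hx
    rw [hx, one_mul]
    rw [← hCdef] at hc
    exact Subgroup.mul_mem _ (hCN hc) hm

end main

end Cfsg.Agent.Lib.Helper10
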