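import Mathlib
import Cfsg.Prelude.Def_ClassicalGeometry
import Cfsg.Prelude.Def_GeometricClasses
import Cfsg.Agent.Lib.Helper59.TqDefs
import Cfsg.Agent.Lib.Helper5.HyDefs
import Cfsg.Agent.Lib.Helper33.HyT1

/-! # TQ-TWOFIX sub-hive (helper67; Tq hive of helper59, S5973 + S5987), leaf TWOFIX-TYPE (helper10):
`q ≡ 3 (mod 4)`: a nondegenerate symmetric space with an isometry `f`, `f² = -1`, of dimension `2 n`
is of plus type iff `n` is even.  The complex orthogonal basis (TWOFIX-CB) enters as a hypothesis in
`twofix_type_of_cb`. -/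

set_option autoImplicit false

namespace Cfsg.Agent.Lib.Helper59.Tq

open Module
open Cfsg.Agent.Lib.Helper2.BG Cfsg.Agent.Lib.Helper99 Cfsg.Agent.Lib.Helper48.Ti
open Cfsg.Agent.Lib.Helper5.Hy

section twofix_abs

variable {F V : Type*} [Field F] [Fintype F] [AddCommGroup V] [Module F V] [FiniteDimensional F V]
variable {B : V →ₗ[F] V →ₗ[F] F}

omit [FiniteDimensional F V] in
theorem twofix_type_two_ne (hq3 : Fintype.card F % 4 = 3) : (2 : F) ≠ 0 := by
  apply Ring.two_ne_zero
  intro h
  have := FiniteField.even_card_iff_char_two.mp h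
  omega

omit [Fintype F] [FiniteDimensional F V] in
theorem twofix_type_self (h2 : (2 : F) ≠ 0) (hs : ∀ u v, B u v = B v u)
    {f : Module.End F V} (hf : Isom B f) (hff : f * f = -1) (v : V) : B v (f v) = 0 := by
  have h1 : B (f v) (f (f v)) = B v (f v) := hf v (f v)
  have h3 : f (f v) = -v := by
    have := congrArg (fun g : Module.End F V => g v) hff
    simpa using this
  rw [h3, map_neg, hs (f v) v] at h1
  have h4 : (2 : F) * B v (f v) = 0 := by
    rw [two_mul]
    nth_rewrite 1 [← h1]
    ring
  exact (mul_eq_zero.mp h4).resolve_left h2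

omit [FiniteDimensional F V] in
theorem twofix_type_isSquare_neg_one_pow (hq3 : Fintype.card F % 4 = 3) (n : ℕ) :
    IsSquare ((-1 : F) ^ n) ↔ Even n := by
  constructor
  · intro h
    by_contra hodd
    rw [Nat.not_even_iff_odd] at hodd
    rw [hodd.neg_one_pow] at h
    exact (FiniteField.isSquare_neg_one_iff.mp h) hq3
  · intro h
    rw [h.neg_one_pow]
    exact ⟨1, by ring⟩

/-- TWOFIX-TYPE modulo the complex orthogonal basis -/
theorem twofix_type_of_cb (hq3 : Fintype.card F % 4 = 3) (hs : ∀ u v, B u v = B v u) (hV : Nd B ⊤)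
    {f : Module.End F V} (hf : Isom B f) (hff : f * f = -1) (n : ℕ)
    (hn : finrank F V = 2 * n)
    (hcb : ∃ (n : ℕ) (v : Fin n → V), finrank F V = 2 * n ∧ (∀ j, B (v j) (v j) ≠ 0) ∧
      (∀ j k, j ≠ k → B (v j) (v k) = 0 ∧ B (v j) (f (v k)) = 0) ∧
      Submodule.span F (Set.range v ∪ Set.range (fun j => f (v j))) = ⊤) :
    Plus B ⊤ ↔ Even n := by
  classical
  have h2 := twofix_type_two_ne (F := F) hq3
  obtain ⟨n', v, hn', hc, horth, hspan⟩ := hcb
  have hnn : n' = n := by omega
  subst hnn
  rcases Nat.eq_zero_or_pos n' with h0 | hpos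
  · subst h0
    constructor
    · intro _; exact ⟨0, rfl⟩
    · intro _
      refine ⟨⊥, bot_le, ?_, ?_⟩
      · intro u hu w _
        rw [(Submodule.mem_bot F).mp hu, map_zero, LinearMap.zero_apply]
      · rw [finrank_bot, finrank_top, hn]
  · set w : Fin n' ⊕ Fin n' → V := Sum.elim v (fun j => f (v j)) with hw
    have hrange : Set.range w = Set.range v ∪ Set.range (fun j => f (v j)) := Set.Sum.elim_range _ _
    have hcard : Fintype.card (Fin n' ⊕ Fin n') = finrank F V := by
      rw [Fintype.card_sum, Fintype.card_fin, hn]; ring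
    set b := basisOfTopLeSpanOfCardEqFinrank w (by rw [hrange, hspan]) hcard with hb
    have hbw : ∀ i, b i = w i := fun i => by rw [hb, coe_basisOfTopLeSpanOfCardEqFinrank]
    set b' : Basis (Fin n' ⊕ Fin n') F (⊤ : Submodule F V) :=
      b.map (Submodule.topEquiv (R := F) (M := V)).symm with hb'
    have hb'w : ∀ i, ((b' i : (⊤ : Submodule F V)) : V) = w i := fun i => by
      rw [hb', Basis.map_apply, hbw]; rfl
    have hiff := t1_plus_iff_disc h2 hs hV n' hpos (by rw [finrank_top, hn]) b'
    rw [hiff]
    set d : Fin n' ⊕ Fin n' → F := Sum.elim (fun j => B (v j) (v j)) (fun j => B (v j) (v j)) with hd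
    have hG : LinearMap.BilinForm.toMatrix b' (LinearMap.BilinForm.restrict B ⊤) = Matrix.diagonal d := by
      ext i j
      rw [LinearMap.BilinForm.toMatrix_apply]
      show B ((b' i : (⊤ : Submodule F V)) : V) ((b' j : (⊤ : Submodule F V)) : V) = _
      rw [hb'w, hb'w]
      rcases i with i | i <;> rcases j with j | j
      · by_cases hij : i = j
        · subst hij; simp [hw, hd]
        · rw [Matrix.diagonal_apply_ne _ (by simpa using hij)]
          exact (horth i j hij).1
      · rw [Matrix.diagonal_apply_ne _ (by simp)]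
        show B (v i) (f (v j)) = 0
        by_cases hij : i = j
        · subst hij; exact twofix_type_self h2 hs hf hff _
        · exact (horth i j hij).2
      · rw [Matrix.diagonal_apply_ne _ (by simp)]
        show B (f (v i)) (v j) = 0
        rw [hs]
        by_cases hij : j = i
        · subst hij; exact twofix_type_self h2 hs hf hff _
        · exact (horth j i hij).2
      · show B (f (v i)) (f (v j)) = _
        rw [hf]
        by_cases hij : i = j
        · subst hij; simp [hd]
        · rw [Matrix.diagonal_apply_ne _ (by simpa using hij)]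
          exact (horth i j hij).1
    rw [hG, Matrix.det_diagonal, Fintype.prod_sum_type]
    simp only [hd, Sum.elim_inl, Sum.elim_inr]
    set P := ∏ j, B (v j) (v j) with hP
    have hP0 : P ≠ 0 := Finset.prod_ne_zero_iff.mpr (fun j _ => hc j)
    have hm1 : ((-1 : F) ^ n') ≠ 0 := pow_ne_zero _ (neg_ne_zero.mpr one_ne_zero)
    rw [t1_isSquare_mul (mul_ne_zero hP0 hP0) hm1, ← twofix_type_isSquare_neg_one_pow hq3]
    constructor
    · intro h; exact h.mp ⟨P, rfl⟩
    · intro h; exact ⟨fun _ => h, fun _ => ⟨P, rfl⟩⟩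

end twofix_abs

end Cfsg.Agent.Lib.Helper59.Tq
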