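import Mathlib
import Cfsg.Prelude.Def_ClassicalGeometry
import Cfsg.Prelude.Def_GeometricClasses
import Cfsg.Agent.Lib.Helper59.TqDefs
import Cfsg.Agent.Lib.Helper5.HyDefs
import Cfsg.Agent.Lib.Helper10.TqTwofixTYPE
import Cfsg.Agent.Lib.Helper69.HqSQM2

/-! # TQ-TWOFIX sub-hive (helper67; Tq hive of helper59, S5973 + S5987), leaf TWOFIX-TYPE (helper10):
the exact `twofix_type`, from helper69's `Cfsg.Agent.Lib.Helper15.Hq.sq_neg_type` (HQ-SQM2):
`Plus B W ↔ IsSquare (-1) ∨ 4 ∣ finrank W` for an invariant nondegenerate `W`. -/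

set_option autoImplicit false

namespace Cfsg.Agent.Lib.Helper59.Tq

open Module
open Cfsg.Agent.Lib.Helper2.BG Cfsg.Agent.Lib.Helper99 Cfsg.Agent.Lib.Helper48.Ti
open Cfsg.Agent.Lib.Helper5.Hy

section twofix_abs

variable {F V : Type*} [Field F] [Fintype F] [AddCommGroup V] [Module F V] [FiniteDimensional F V]
variable {B : V →ₗ[F] V →ₗ[F] F}

/-- TWOFIX-TYPE (`q ≡ 3 (mod 4)`): the type of a space with an isometry `f`, `f² = -1`:
plus type iff `dim V / 2` is even. -/
theorem twofix_type (hq3 : Fintype.card F % 4 = 3) (hs : ∀ u v, B u v = B v u) (hV : Nd B ⊤)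
    {f : Module.End F V} (hf : Isom B f) (hff : f * f = -1) (n : ℕ)
    (hn : finrank F V = 2 * n) :
    Plus B ⊤ ↔ Even n := by
  have h2 := twofix_type_two_ne (F := F) hq3
  have hInv : Inv f (⊤ : Submodule F V) := fun v _ => Submodule.mem_top
  rw [Cfsg.Agent.Lib.Helper15.Hq.sq_neg_type h2 hs hf hff hInv hV, finrank_top, hn]
  have hm1 : ¬ IsSquare (-1 : F) := fun h => (FiniteField.isSquare_neg_one_iff.mp h) hq3
  constructor
  · rintro (h | h)
    · exact absurd h hm1
    · rw [Nat.even_iff]; omega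
  · intro h
    right
    rw [Nat.even_iff] at h; omega

end twofix_abs

end Cfsg.Agent.Lib.Helper59.Tq
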