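import Cfsg.Agent.Lib.Helper6.Uni.Defs

/-! # S2314 hive, leaf UNI-R1: the restricted (B,N)-pair of a parabolic subgroup (helper10) -/

set_option autoImplicit false

namespace Cfsg.Agent.Lib.Helper6.Uni

open Cfsg Cfsg.Agent.Lib.Helper6 Cfsg.Agent.Lib.Helper6.St

universe u

section R
variable {G : Type u} [Group G]

theorem r1_closure_le_N (P : Cfsg.BNPair G) (J : Set G) (hJ : J ⊆ P.S) :
    Subgroup.closure J ≤ P.N :=
  (Subgroup.closure_le _).2 (fun _ hx => P.subset (hJ hx))

theorem r1_NJ_le_N (P : Cfsg.BNPair G) (J : Set G) (hJ : J ⊆ P.S) :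
    Subgroup.closure J ⊔ (P.B ⊓ P.N) ≤ P.N :=
  sup_le (r1_closure_le_N P J hJ) inf_le_right

theorem r1_B_le (P : Cfsg.BNPair G) (J : Set G) : P.B ≤ P.parabolic J := le_sup_left

theorem r1_closure_le (P : Cfsg.BNPair G) (J : Set G) : Subgroup.closure J ≤ P.parabolic J :=
  le_sup_right

theorem r1_NJ_le (P : Cfsg.BNPair G) (J : Set G) :
    Subgroup.closure J ⊔ (P.B ⊓ P.N) ≤ P.parabolic J :=
  sup_le (r1_closure_le P J) (inf_le_left.trans (r1_B_le P J))

/-- the closure of the preimage of `J ⊆ K` in `↥K` is the `subgroupOf` of the closure. -/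
theorem r1_closure_preimage (K : Subgroup G) (J : Set G) (hJ : J ⊆ (K : Set G)) :
    Subgroup.closure (Subtype.val ⁻¹' J : Set ↥K) = (Subgroup.closure J).subgroupOf K := by
  have h1 : (Subgroup.closure (Subtype.val ⁻¹' J : Set ↥K)).map K.subtype = Subgroup.closure J := by
    rw [MonoidHom.map_closure]
    congr 1
    ext x
    constructor
    · rintro ⟨y, hy, rfl⟩
      exact hy
    · intro hx
      exact ⟨⟨x, hJ hx⟩, hx, rfl⟩
  rw [← h1]
  unfold Subgroup.subgroupOf
  rw [Subgroup.comap_map_eq_self_of_injective K.subtype_injective]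

/-- UNI-R1. `(B, N_J, J)` is a (B,N)-pair of `P_J`. -/
theorem exists_restrict (P : Cfsg.BNPair G) (J : Set G) (hJ : J ⊆ P.S) :
    ∃ Q : Cfsg.BNPair ↥(P.parabolic J), Q.B = rB P J ∧ Q.N = rN P J ∧ Q.S = rS P J := by
  have hBle := r1_B_le P J
  have hNJle := r1_NJ_le P J
  have hNJN := r1_NJ_le_N P J hJ
  have hJsub : J ⊆ ((P.parabolic J : Subgroup G) : Set G) :=
    fun x hx => r1_closure_le P J (Subgroup.subset_closure hx)
  have hS : Subgroup.closure (rS P J) = (Subgroup.closure J).subgroupOf (P.parabolic J) :=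
    r1_closure_preimage (P.parabolic J) J hJsub
  refine ⟨{ B := rB P J
            N := rN P J
            S := rS P J
            sup_eq_top := ?_
            conj_mem := ?_
            subset := ?_
            sq_mem := ?_
            inj := ?_
            closure_sup := ?_
            mul_mem_union := ?_
            conj_ne := ?_ }, rfl, rfl, rfl⟩
  · -- sup_eq_top
    rw [eq_top_iff]
    rintro ⟨x, hx⟩ -
    have hx' : x ∈ P.B ⊔ (Subgroup.closure J ⊔ (P.B ⊓ P.N)) := by
      have : P.parabolic J ≤ P.B ⊔ (Subgroup.closure J ⊔ (P.B ⊓ P.N)) :=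
        sup_le le_sup_left (le_sup_left.trans le_sup_right)
      exact this hx
    unfold rB rN
    rw [← Subgroup.subgroupOf_sup hBle hNJle]
    exact Subgroup.mem_subgroupOf.2 hx'
  · -- conj_mem
    rintro n hn t ⟨htB, htN⟩
    have hn' : (n : G) ∈ P.N := hNJN (Subgroup.mem_subgroupOf.1 hn)
    have htB' : (t : G) ∈ P.B := Subgroup.mem_subgroupOf.1 htB
    have htN' : (t : G) ∈ P.N := hNJN (Subgroup.mem_subgroupOf.1 htN)
    have := P.conj_mem (n : G) hn' (t : G) ⟨htB', htN'⟩
    exact Subgroup.mem_subgroupOf.2 (by simpa using this)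
  · -- subset
    intro s hs
    have hs' : (s : G) ∈ J := hs
    exact Subgroup.mem_subgroupOf.2 (le_sup_left (a := Subgroup.closure J) (Subgroup.subset_closure hs'))
  · -- sq_mem
    intro s hs
    have hs' : (s : G) ∈ J := hs
    have := P.sq_mem (s : G) (hJ hs')
    exact Subgroup.mem_subgroupOf.2 (by simpa using this)
  · -- inj
    intro s hs s' hs' h
    have h1 : (s : G) ∈ J := hs
    have h2 : (s' : G) ∈ J := hs'
    have h3 : ((s : G))⁻¹ * (s' : G) ∈ P.B := by
      have := Subgroup.mem_subgroupOf.1 h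
      simpa using this
    exact Subtype.ext (P.inj (s : G) (hJ h1) (s' : G) (hJ h2) h3)
  · -- closure_sup
    rw [hS]
    unfold rB rN
    rw [show (P.B.subgroupOf (P.parabolic J)) ⊓ ((Subgroup.closure J ⊔ (P.B ⊓ P.N)).subgroupOf (P.parabolic J))
        = (P.B ⊓ (Subgroup.closure J ⊔ (P.B ⊓ P.N))).subgroupOf (P.parabolic J) from
      (Subgroup.comap_inf _ _ _).symm]
    rw [← Subgroup.subgroupOf_sup (r1_closure_le P J) (inf_le_left.trans hBle)]
    congr 1
    apply le_antisymm
    · exact sup_le le_sup_left inf_le_right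
    · exact sup_le le_sup_left (le_sup_of_le_right (le_inf inf_le_left le_sup_right))
  · -- mul_mem_union
    intro s hs n hn b hb
    have hs' : (s : G) ∈ J := hs
    have hn' : (n : G) ∈ P.N := hNJN (Subgroup.mem_subgroupOf.1 hn)
    have hb' : (b : G) ∈ P.B := Subgroup.mem_subgroupOf.1 hb
    have := P.mul_mem_union (s : G) (hJ hs') (n : G) hn' (b : G) hb'
    rcases this with h | h
    · left
      rw [DoubleCoset.mem_doubleCoset] at h ⊢
      obtain ⟨x, hx, y, hy, hxy⟩ := h
      refine ⟨⟨x, hBle hx⟩, Subgroup.mem_subgroupOf.2 hx, ⟨y, hBle hy⟩, Subgroup.mem_subgroupOf.2 hy, ?_⟩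
      apply Subtype.ext
      simpa using hxy
    · right
      rw [DoubleCoset.mem_doubleCoset] at h ⊢
      obtain ⟨x, hx, y, hy, hxy⟩ := h
      refine ⟨⟨x, hBle hx⟩, Subgroup.mem_subgroupOf.2 hx, ⟨y, hBle hy⟩, Subgroup.mem_subgroupOf.2 hy, ?_⟩
      apply Subtype.ext
      simpa using hxy
  · -- conj_ne
    intro s hs heq
    have hs' : (s : G) ∈ J := hs
    apply P.conj_ne (s : G) (hJ hs')
    ext g
    constructor
    · rintro ⟨b, hb, rfl⟩
      have hb2 : (⟨b, hBle hb⟩ : ↥(P.parabolic J)) ∈ ((rB P J : Subgroup ↥(P.parabolic J)) : Set _) :=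
        Subgroup.mem_subgroupOf.2 hb
      have h1 : s * ⟨b, hBle hb⟩ * s ∈ ((rB P J : Subgroup ↥(P.parabolic J)) : Set _) := by
        rw [← heq]
        exact ⟨_, hb2, rfl⟩
      have := Subgroup.mem_subgroupOf.1 h1
      simpa using this
    · intro hg
      have hg2 : (⟨g, hBle hg⟩ : ↥(P.parabolic J)) ∈ ((rB P J : Subgroup ↥(P.parabolic J)) : Set _) :=
        Subgroup.mem_subgroupOf.2 hg
      rw [← heq] at hg2
      obtain ⟨b, hb, hbe⟩ := hg2
      refine ⟨(b : G), Subgroup.mem_subgroupOf.1 hb, ?_⟩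
      have := congrArg Subtype.val hbe
      simpa using this

end R

end Cfsg.Agent.Lib.Helper6.Uni
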