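import Cfsg.Agent.Lib.Helper10.UniR6Core
import Cfsg.Agent.Lib.Helper55.UniR2
import Cfsg.Agent.Lib.Helper55.UniR3
import Cfsg.Agent.Lib.Helper17.UniR5
import Cfsg.Agent.Lib.Helper17.UniR4
import Cfsg.Agent.Lib.Helper6.Uni.Top

/-! # S2314 hive, leaf UNI-R6: `eqn_J` (helper10) — instantiation of `r6_core` -/

set_option autoImplicit false

namespace Cfsg.Agent.Lib.Helper6.Uni

open Cfsg Cfsg.Agent.Lib.Helper6 Cfsg.Agent.Lib.Helper6.St

universe u

section R
variable {G : Type u} [Group G]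

open Classical in
/-- UNI-R6. The recursion `[E_J]`: `∑_{K ⊆ J} (-1)^|K| |P_J : P_K| #{p-elts of P_K} = |U|`. -/
theorem eqn_J [Fintype G] (P : Cfsg.BNPair G) (T : Finset G) (hT : (↑T : Set G) = P.S) (p : ℕ) [Fact p.Prime]
    (U : Subgroup G)
    (hUB : U ≤ P.B) (hUp : IsPGroup p U) (hUn : P.B ≤ Subgroup.normalizer (U : Set G))
    (hUH : U ⊔ (P.B ⊓ P.N) = P.B) (hUs : ¬ p ∣ U.index)
    (J : Finset G) (hJ : J ⊆ T) (V : Subgroup G) (hVU : V ≤ U)
    (hVn : P.parabolic (↑J : Set G) ≤ Subgroup.normalizer (V : Set G))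
    (n1 : G) (hn1 : n1 ∈ Subgroup.closure (↑J : Set G) ⊔ (P.B ⊓ P.N))
    (hbig : Nat.card U * Nat.card P.B ≤ Nat.card V * Nat.card (C P n1)) :
    ∑ K ∈ J.powerset, (-1 : ℂ) ^ K.card *
        (((P.parabolic (↑K : Set G)).relIndex (P.parabolic (↑J : Set G)) : ℂ) *
          (npe p (P.parabolic (↑K : Set G)) : ℂ)) =
      (Nat.card U : ℂ) := by
  haveI : Fintype ↥(P.parabolic (↑J : Set G)) := Fintype.ofFinite _
  refine r6_core P T hT p U hUB hUp hUn hUH hUs J hJ V hVU hVn n1 hn1 hbig ?_ ?_ ?_ ?_ ?_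
  · intro Q T' hT' U' V' hV'n h1 h2 h3 h4 h5 h6 n1' hn1' hbig'
    haveI := hV'n
    exact top_sum Q T' hT' p U' V' h1 h2 h3 h4 h5 h6 n1' hn1' hbig'
  · intro K hKJ
    exact rB_sup_closure P (↑J : Set G) K hKJ
  · intro K M hKM
    exact npe_subgroupOf p K M hKM
  · intro Q hB n
    exact card_C_restrict P (↑J : Set G) Q hB n
  · intro f
    exact sum_powerset_subtype (fun x => x ∈ P.parabolic (↑J : Set G)) J
      (fun x hx => (le_sup_right : Subgroup.closure (↑J : Set G) ≤ P.parabolic (↑J : Set G))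
        (Subgroup.subset_closure (Finset.mem_coe.2 hx))) f

end R

end Cfsg.Agent.Lib.Helper6.Uni
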