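import Cfsg.Agent.Lib.Helper10.UniR1

/-! # S2314 hive, leaf UNI-R6 (core): the recursion `[E_J]` from `top_sum` applied to the restricted
(B,N)-pair of `P_J`.  The leaves A5, R2, R3, R4, R5 enter as hypotheses (`r6_core`); the final
`eqn_J` is the instantiation (file `UniR6.lean`). (helper10) -/

set_option autoImplicit false

namespace Cfsg.Agent.Lib.Helper6.Uni

open Cfsg Cfsg.Agent.Lib.Helper6 Cfsg.Agent.Lib.Helper6.St

universe u

section R
variable {G : Type u} [Group G]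

theorem r6_card_subgroupOf {H K : Subgroup G} (h : H ≤ K) :
    Nat.card ↥(H.subgroupOf K) = Nat.card ↥H :=
  Nat.card_congr (Subgroup.subgroupOfEquivOfLe h).toEquiv

theorem r6_parabolic_mono (P : Cfsg.BNPair G) {K J : Set G} (h : K ⊆ J) :
    P.parabolic K ≤ P.parabolic J :=
  sup_le_sup_left (Subgroup.closure_mono h) _

open Classical in
/-- UNI-R6, with the leaves it uses as hypotheses. -/
theorem r6_core (P : Cfsg.BNPair G) (T : Finset G) (hT : (↑T : Set G) = P.S) (p : ℕ) [Fact p.Prime]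
    (U : Subgroup G)
    (hUB : U ≤ P.B) (hUp : IsPGroup p U) (hUn : P.B ≤ Subgroup.normalizer (U : Set G))
    (hUH : U ⊔ (P.B ⊓ P.N) = P.B) (hUs : ¬ p ∣ U.index)
    (J : Finset G) (hJ : J ⊆ T) (V : Subgroup G) (hVU : V ≤ U)
    (hVn : P.parabolic (↑J : Set G) ≤ Subgroup.normalizer (V : Set G))
    (n1 : G) (hn1 : n1 ∈ Subgroup.closure (↑J : Set G) ⊔ (P.B ⊓ P.N))
    (hbig : Nat.card U * Nat.card P.B ≤ Nat.card V * Nat.card (C P n1))
    -- A5
    (hA5 : ∀ (Q : Cfsg.BNPair ↥(P.parabolic (↑J : Set G))) (T' : Finset ↥(P.parabolic (↑J : Set G))),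
      (↑T' : Set ↥(P.parabolic (↑J : Set G))) = Q.S →
      ∀ (U' V' : Subgroup ↥(P.parabolic (↑J : Set G))), V'.Normal →
      U' ≤ Q.B → IsPGroup p U' → Q.B ≤ Subgroup.normalizer (U' : Set ↥(P.parabolic (↑J : Set G))) →
      U' ⊔ (Q.B ⊓ Q.N) = Q.B → ¬ p ∣ U'.index → V' ≤ U' →
      ∀ n1' : ↥(P.parabolic (↑J : Set G)), n1' ∈ Q.N →
      Nat.card U' * Nat.card Q.B ≤ Nat.card V' * Nat.card (C Q n1') →
      ∑ J' ∈ T'.powerset, (-1 : ℂ) ^ J'.card *
        (((Q.parabolic (↑J' : Set ↥(P.parabolic (↑J : Set G)))).index : ℂ) *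
          (npe p (Q.parabolic (↑J' : Set ↥(P.parabolic (↑J : Set G)))) : ℂ)) = (Nat.card U' : ℂ))
    -- R2
    (hR2 : ∀ K : Set G, K ⊆ (↑J : Set G) →
      rB P (↑J : Set G) ⊔ Subgroup.closure (Subtype.val ⁻¹' K : Set ↥(P.parabolic (↑J : Set G))) =
        (P.parabolic K).subgroupOf (P.parabolic (↑J : Set G)))
    -- R3
    (hR3 : ∀ K M : Subgroup G, K ≤ M → npe p (K.subgroupOf M) = npe p K)
    -- R4
    (hR4 : ∀ (Q : Cfsg.BNPair ↥(P.parabolic (↑J : Set G))), Q.B = rB P (↑J : Set G) →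
      ∀ n : ↥(P.parabolic (↑J : Set G)), Nat.card (C Q n) = Nat.card (C P (n : G)))
    -- R5
    (hR5 : ∀ f : Finset G → ℂ,
      ∑ K' ∈ (J.subtype (fun x => x ∈ P.parabolic (↑J : Set G))).powerset,
        f (K'.map (Function.Embedding.subtype (fun x => x ∈ P.parabolic (↑J : Set G)))) =
      ∑ K ∈ J.powerset, f K) :
    ∑ K ∈ J.powerset, (-1 : ℂ) ^ K.card *
        (((P.parabolic (↑K : Set G)).relIndex (P.parabolic (↑J : Set G)) : ℂ) *
          (npe p (P.parabolic (↑K : Set G)) : ℂ)) =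
      (Nat.card U : ℂ) := by
  set PJ : Subgroup G := P.parabolic (↑J : Set G) with hPJ
  have hJS : (↑J : Set G) ⊆ P.S := by
    rw [← hT]
    exact Finset.coe_subset.2 hJ
  obtain ⟨Q, hQB, hQN, hQS⟩ := exists_restrict P (↑J : Set G) hJS
  have hBle : P.B ≤ PJ := r1_B_le P _
  have hNJle : Subgroup.closure (↑J : Set G) ⊔ (P.B ⊓ P.N) ≤ PJ := r1_NJ_le P _
  have hUle : U ≤ PJ := hUB.trans hBle
  have hVle : V ≤ PJ := hVU.trans hUle
  -- the data
  set T' : Finset ↥PJ := J.subtype (fun x => x ∈ PJ) with hT'def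
  have hT' : (↑T' : Set ↥PJ) = Q.S := by
    rw [hQS]
    ext x
    simp only [hT'def, Finset.mem_coe, Finset.mem_subtype, rS]
    exact Iff.rfl
  set U' : Subgroup ↥PJ := U.subgroupOf PJ with hU'
  set V' : Subgroup ↥PJ := V.subgroupOf PJ with hV'
  have hV'n : V'.Normal := by
    constructor
    intro v hv g
    have hg : (g : G) ∈ Subgroup.normalizer (V : Set G) := hVn g.2
    have hv' : (v : G) ∈ V := Subgroup.mem_subgroupOf.1 hv
    have := (Subgroup.mem_normalizer_iff.1 hg (v : G)).1 hv'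
    exact Subgroup.mem_subgroupOf.2 (by simpa using this)
  have hUB' : U' ≤ Q.B := by
    rw [hQB]
    intro x hx
    exact Subgroup.mem_subgroupOf.2 (hUB (Subgroup.mem_subgroupOf.1 hx))
  have hUp' : IsPGroup p U' := hUp.comap_subtype
  have hUn' : Q.B ≤ Subgroup.normalizer (U' : Set ↥PJ) := by
    rw [hQB]
    intro b hb
    have hb' : (b : G) ∈ Subgroup.normalizer (U : Set G) := hUn (Subgroup.mem_subgroupOf.1 hb)
    rw [Subgroup.mem_normalizer_iff]
    intro h
    have := Subgroup.mem_normalizer_iff.1 hb' (h : G)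
    constructor
    · intro hh
      exact Subgroup.mem_subgroupOf.2 (by simpa using this.1 (Subgroup.mem_subgroupOf.1 hh))
    · intro hh
      have h2 : (b : G) * (h : G) * (b : G)⁻¹ ∈ U := by
        have := Subgroup.mem_subgroupOf.1 hh
        simpa using this
      exact Subgroup.mem_subgroupOf.2 (this.2 h2)
  have hUH' : U' ⊔ (Q.B ⊓ Q.N) = Q.B := by
    rw [hQB, hQN]
    unfold rB rN
    rw [show (P.B.subgroupOf (P.parabolic (↑J : Set G))) ⊓
        ((Subgroup.closure (↑J : Set G) ⊔ (P.B ⊓ P.N)).subgroupOf (P.parabolic (↑J : Set G)))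
        = (P.B ⊓ (Subgroup.closure (↑J : Set G) ⊔ (P.B ⊓ P.N))).subgroupOf (P.parabolic (↑J : Set G)) from
      (Subgroup.comap_inf _ _ _).symm]
    rw [hU', ← Subgroup.subgroupOf_sup hUle (inf_le_left.trans hBle)]
    congr 1
    apply le_antisymm
    · exact sup_le hUB inf_le_left
    · calc P.B = U ⊔ (P.B ⊓ P.N) := hUH.symm
        _ ≤ U ⊔ (P.B ⊓ (Subgroup.closure (↑J : Set G) ⊔ (P.B ⊓ P.N))) :=
          sup_le_sup_left (le_inf inf_le_left le_sup_right) _
  have hUs' : ¬ p ∣ U'.index := by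
    intro h
    apply hUs
    have h1 : U.relIndex PJ * PJ.index = U.index := Subgroup.relIndex_mul_index hUle
    have h2 : U'.index = U.relIndex PJ := rfl
    rw [← h1, ← h2]
    exact Dvd.dvd.mul_right h _
  have hVU' : V' ≤ U' := by
    intro x hx
    exact Subgroup.mem_subgroupOf.2 (hVU (Subgroup.mem_subgroupOf.1 hx))
  set n1' : ↥PJ := ⟨n1, hNJle hn1⟩ with hn1'def
  have hn1' : n1' ∈ Q.N := by
    rw [hQN]
    exact Subgroup.mem_subgroupOf.2 hn1
  have hcU : Nat.card U' = Nat.card U := r6_card_subgroupOf hUle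
  have hcV : Nat.card V' = Nat.card V := r6_card_subgroupOf hVle
  have hcB : Nat.card Q.B = Nat.card P.B := by
    rw [hQB]
    exact r6_card_subgroupOf hBle
  have hcC : Nat.card (C Q n1') = Nat.card (C P n1) := hR4 Q hQB n1'
  have hbig' : Nat.card U' * Nat.card Q.B ≤ Nat.card V' * Nat.card (C Q n1') := by
    rw [hcU, hcV, hcB, hcC]
    exact hbig
  have key := hA5 Q T' hT' U' V' hV'n hUB' hUp' hUn' hUH' hUs' hVU' n1' hn1' hbig'
  rw [hcU] at key
  rw [← key]
  rw [← hR5 (fun K => (-1 : ℂ) ^ K.card *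
        (((P.parabolic (↑K : Set G)).relIndex PJ : ℂ) * (npe p (P.parabolic (↑K : Set G)) : ℂ)))]
  apply Finset.sum_congr rfl
  intro K' hK'
  have hK'sub : K' ⊆ T' := Finset.mem_powerset.1 hK'
  set K : Finset G := K'.map (Function.Embedding.subtype (fun x => x ∈ PJ)) with hK
  have hKJ : (↑K : Set G) ⊆ (↑J : Set G) := by
    intro x hx
    have hx' : x ∈ K := hx
    rw [hK, Finset.mem_map] at hx'
    obtain ⟨y, hy, rfl⟩ := hx'
    have := hK'sub hy
    rw [hT'def, Finset.mem_subtype] at this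
    exact this
  have hpre : (↑K' : Set ↥PJ) = (Subtype.val ⁻¹' (↑K : Set G) : Set ↥PJ) := by
    ext x
    simp only [Finset.mem_coe, Set.mem_preimage, hK, Finset.mem_map,
      Function.Embedding.coe_subtype]
    constructor
    · intro hx
      exact ⟨x, hx, rfl⟩
    · rintro ⟨y, hy, hyx⟩
      have : y = x := Subtype.ext hyx
      exact this ▸ hy
  have hpar : Q.parabolic (↑K' : Set ↥PJ) = (P.parabolic (↑K : Set G)).subgroupOf PJ := by
    unfold Cfsg.BNPair.parabolic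
    rw [hQB, hpre]
    exact hR2 (↑K : Set G) hKJ
  have hcard : K.card = K'.card := Finset.card_map _
  show (-1 : ℂ) ^ K.card *
        (((P.parabolic (↑K : Set G)).relIndex PJ : ℂ) * (npe p (P.parabolic (↑K : Set G)) : ℂ))
      = (-1 : ℂ) ^ K'.card * (((Q.parabolic (↑K' : Set ↥PJ)).index : ℂ) *
          (npe p (Q.parabolic (↑K' : Set ↥PJ)) : ℂ))
  rw [hpar, hcard, hR3 _ _ (r6_parabolic_mono P hKJ)]
  rfl

end R

end Cfsg.Agent.Lib.Helper6.Uni
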