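import Mathlib
import Cfsg.Prelude.Def_Solvable
import Cfsg.Agent.Lib.Helper96.ZStarElt

set_option autoImplicit false
set_option linter.style.haveILetI false

open Cfsg
open Cfsg.Agent.Lib.Helper96.ZStarDep Cfsg.Agent.Lib.Helper96.ZStarElt

universe u

namespace Cfsg.Agent.Lib.Helper10.ZStarAut

/-- product over an orbit is fixed -/
theorem orbit_prod_fixed {Γ X : Type*} [Group Γ] [CommGroup X] [Finite X] [MulDistribMulAction Γ X]
    (x : X) : ∃ z : X, (∀ γ : Γ, γ • z = z) ∧
      ∀ {B : Type*} [CommGroup B] (ψ : X →* B), (∀ (γ : Γ) (y : X), ψ (γ • y) = ψ y) →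
        ψ z = ψ x ^ Nat.card (MulAction.orbit Γ x) := by
  classical
  haveI : Fintype (MulAction.orbit Γ x) := Fintype.ofFinite _
  refine ⟨∏ y : MulAction.orbit Γ x, (y : X), ?_, ?_⟩
  · intro γ
    rw [Finset.smul_prod']
    have : ∀ y : MulAction.orbit Γ x, γ • (y : X) = ((γ • y : MulAction.orbit Γ x) : X) := fun y => rfl
    simp_rw [this]
    exact Equiv.prod_comp (MulAction.toPerm γ) (fun y : MulAction.orbit Γ x => (y : X))
  · intro B _ ψ hψ
    rw [map_prod]
    have : ∀ y : MulAction.orbit Γ x, ψ (y : X) = ψ x := by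
      rintro ⟨y, γ, rfl⟩
      exact hψ γ x
    simp_rw [this]
    rw [Finset.prod_const, Finset.card_univ, Nat.card_eq_fintype_card]

variable {G : Type u} [Group G]

/-- the semidirect product of `G` with the cyclic group generated by the automorphism `α` -/
abbrev Ghat (α : MulAut G) : Type u :=
  G ⋊[(Subgroup.zpowers α).subtype] ↥(Subgroup.zpowers α)

instance [Finite G] (α : MulAut G) : Finite (Ghat α) :=
  Finite.of_equiv _ SemidirectProduct.equivProd.symm

theorem zpow_apply_eq {α : MulAut G} {P : Subgroup G} (hfix : ∀ x ∈ P, α x = x) (k : ℤ) :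
    ∀ x ∈ P, (α ^ k) x = x := by
  have hfix' : ∀ x ∈ P, α⁻¹ x = x := by
    intro x hx
    have := hfix x hx
    calc α⁻¹ x = α⁻¹ (α x) := by rw [this]
      _ = x := by rw [← MulAut.mul_apply, inv_mul_cancel, MulAut.one_apply]
  induction k using Int.induction_on with
  | zero => intro x _; simp
  | succ n ih =>
    intro x hx
    rw [zpow_add_one, MulAut.mul_apply, hfix x hx]
    exact ih x hx
  | pred n ih =>
    intro x hx
    rw [zpow_sub_one, MulAut.mul_apply, hfix' x hx]
    exact ih x hx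

theorem apply_eq_of_mem_zpowers {α : MulAut G} {P : Subgroup G} (hfix : ∀ x ∈ P, α x = x)
    (a : ↥(Subgroup.zpowers α)) {x : G} (hx : x ∈ P) : (a : MulAut G) x = x := by
  obtain ⟨a, ha⟩ := a
  obtain ⟨k, rfl⟩ := Subgroup.mem_zpowers_iff.mp ha
  exact zpow_apply_eq hfix k x hx

/-- the subgroup `P × ⟨α⟩` of the semidirect product, for `α` fixing `P` elementwise -/
def Phat (α : MulAut G) (P : Subgroup G) (hfix : ∀ x ∈ P, α x = x) : Subgroup (Ghat α) where
  carrier := {x | x.left ∈ P}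
  one_mem' := by
    show (1 : Ghat α).left ∈ P
    rw [SemidirectProduct.one_left]; exact P.one_mem
  mul_mem' := by
    intro x y hx hy
    show (x * y).left ∈ P
    rw [SemidirectProduct.mul_left]
    apply P.mul_mem hx
    have : ((Subgroup.zpowers α).subtype x.right) y.left = y.left :=
      apply_eq_of_mem_zpowers hfix x.right hy
    rw [this]; exact hy
  inv_mem' := by
    intro x hx
    show (x⁻¹).left ∈ P
    rw [SemidirectProduct.inv_left]
    have : ((Subgroup.zpowers α).subtype x.right⁻¹) x.left⁻¹ = x.left⁻¹ :=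
      apply_eq_of_mem_zpowers hfix x.right⁻¹ (P.inv_mem hx)
    rw [this]; exact P.inv_mem hx

theorem mem_Phat {α : MulAut G} {P : Subgroup G} {hfix : ∀ x ∈ P, α x = x} {x : Ghat α} :
    x ∈ Phat α P hfix ↔ x.left ∈ P := Iff.rfl


/-- `Phat ≃ P × ⟨α⟩` -/
def phatEquiv (α : MulAut G) (P : Subgroup G) (hfix : ∀ x ∈ P, α x = x) :
    ↥(Phat α P hfix) ≃ ↥P × ↥(Subgroup.zpowers α) where
  toFun x := (⟨x.1.left, x.2⟩, x.1.right)
  invFun y := ⟨⟨y.1.1, y.2⟩, y.1.2⟩
  left_inv x := by
    apply Subtype.ext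
    rfl
  right_inv y := rfl

variable [Finite G]

theorem card_Phat (α : MulAut G) (P : Subgroup G) (hfix : ∀ x ∈ P, α x = x) :
    Nat.card ↥(Phat α P hfix) = Nat.card P * Nat.card (Subgroup.zpowers α) := by
  rw [Nat.card_congr (phatEquiv α P hfix), Nat.card_prod]

theorem index_Phat (α : MulAut G) (P : Subgroup G) (hfix : ∀ x ∈ P, α x = x) :
    (Phat α P hfix).index = P.index := by
  have h1 := (Phat α P hfix).index_mul_card
  have h2 := P.index_mul_card
  rw [card_Phat, SemidirectProduct.card, ← h2] at h1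
  have hpos : 0 < Nat.card P * Nat.card (Subgroup.zpowers α) :=
    Nat.mul_pos Nat.card_pos Nat.card_pos
  apply Nat.eq_of_mul_eq_mul_right hpos
  rw [h1]; ring

theorem isPGroup_Phat (α : MulAut G) (h2 : ∃ j : ℕ, orderOf α = 2 ^ j) (P : Subgroup G)
    (hP : IsPGroup 2 P) (hfix : ∀ x ∈ P, α x = x) : IsPGroup 2 ↥(Phat α P hfix) := by
  haveI : Fact (Nat.Prime 2) := ⟨Nat.prime_two⟩
  obtain ⟨j, hj⟩ := h2
  obtain ⟨k, hk⟩ := hP.exists_card_eq
  apply IsPGroup.of_card (n := k + j)
  rw [card_Phat, hk, Nat.card_zpowers, hj, pow_add]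

theorem Phat_comm (α : MulAut G) (P : Subgroup G) (hab : ∀ x ∈ P, ∀ y ∈ P, x * y = y * x)
    (hfix : ∀ x ∈ P, α x = x) : ∀ x ∈ Phat α P hfix, ∀ y ∈ Phat α P hfix, x * y = y * x := by
  intro x hx y hy
  have e1 : ((Subgroup.zpowers α).subtype x.right) y.left = y.left :=
    apply_eq_of_mem_zpowers hfix x.right hy
  have e2 : ((Subgroup.zpowers α).subtype y.right) x.left = x.left :=
    apply_eq_of_mem_zpowers hfix y.right hx
  apply SemidirectProduct.ext
  · rw [SemidirectProduct.mul_left, SemidirectProduct.mul_left, e1, e2]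
    exact hab _ hx _ hy
  · rw [SemidirectProduct.mul_right, SemidirectProduct.mul_right]
    obtain ⟨a, ha⟩ := x.right
    obtain ⟨b, hb⟩ := y.right
    apply Subtype.ext
    show a * b = b * a
    obtain ⟨m, rfl⟩ := Subgroup.mem_zpowers_iff.mp ha
    obtain ⟨n, rfl⟩ := Subgroup.mem_zpowers_iff.mp hb
    rw [← zpow_add, ← zpow_add, add_comm]


/-- a normal subgroup of odd order of the semidirect product is trivial when `O(G) = 1` and
`α` has `2`-power order -/
theorem odd_normal_eq_bot (hcore : Cfsg.pPrimeCore 2 G = ⊥) (α : MulAut G)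
    (h2 : ∃ j : ℕ, orderOf α = 2 ^ j) (M : Subgroup (Ghat α)) (hMn : M.Normal)
    (hModd : Odd (Nat.card M)) : M = ⊥ := by
  haveI : Fact (Nat.Prime 2) := ⟨Nat.prime_two⟩
  obtain ⟨j, hj⟩ := h2
  have hA : IsPGroup 2 ↥(Subgroup.zpowers α) := by
    apply IsPGroup.of_card (n := j)
    rw [Nat.card_zpowers, hj]
  -- `M` maps trivially to `⟨α⟩`
  have hright : ∀ g ∈ M, (g : Ghat α).right = 1 := by
    intro g hg
    have h1 : Nat.card (M.map SemidirectProduct.rightHom) ∣ Nat.card M :=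
      Subgroup.card_map_dvd _ _
    obtain ⟨k, hk⟩ := (hA.to_subgroup (M.map SemidirectProduct.rightHom)).exists_card_eq
    have h3 : Nat.card (M.map SemidirectProduct.rightHom) = 1 := by
      rcases k with _ | k
      · simpa using hk
      · exfalso
        have : 2 ∣ Nat.card M := dvd_trans (by rw [hk, pow_succ]; exact dvd_mul_left _ _) h1
        exact (Nat.not_even_iff_odd.mpr hModd) (even_iff_two_dvd.mpr this)
    have h4 : M.map SemidirectProduct.rightHom = ⊥ := Subgroup.eq_bot_of_card_eq _ h3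
    have h5 : SemidirectProduct.rightHom g ∈ M.map SemidirectProduct.rightHom :=
      Subgroup.mem_map_of_mem _ hg
    rw [h4, Subgroup.mem_bot] at h5
    exact h5
  -- the preimage in `G`
  have hN0 : M.comap (SemidirectProduct.inl : G →* Ghat α) ≤ Cfsg.pPrimeCore 2 G := by
    apply le_sSup
    refine ⟨hMn.comap _, ?_⟩
    have h1 : Nat.card (M.comap (SemidirectProduct.inl : G →* Ghat α)) ∣ Nat.card M :=
      Subgroup.card_comap_dvd_of_injective M _ SemidirectProduct.inl_injective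
    have h2 : Odd (Nat.card (M.comap (SemidirectProduct.inl : G →* Ghat α))) :=
      Odd.of_dvd_nat hModd h1
    exact Nat.Coprime.symm (Nat.coprime_two_left.mpr h2)
  rw [hcore] at hN0
  rw [eq_bot_iff]
  intro g hg
  have h1 := hright g hg
  have h2 : g = SemidirectProduct.inl g.left := by
    apply SemidirectProduct.ext
    · simp
    · simp [h1]
  have h3 : g.left ∈ M.comap (SemidirectProduct.inl : G →* Ghat α) := by
    rw [Subgroup.mem_comap, ← h2]; exact hg
  have h4 := hN0 h3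
  rw [Subgroup.mem_bot] at h4 ⊢
  rw [h2, h4, map_one]


/-- **Glauberman**: with the Z*-theorem, a `2`-power order automorphism of a group with `O(G) = 1`
and abelian Sylow `2`-subgroups that centralizes a Sylow `2`-subgroup is inner. -/
theorem inner_of_zstar (hZ : ZStarHyp.{u}) (hcore : Cfsg.pPrimeCore 2 G = ⊥) (P : Sylow 2 G)
    (hab : IsMulCommutative (P : Subgroup G)) (α : MulAut G) (h2 : ∃ j : ℕ, orderOf α = 2 ^ j)
    (hfix : ∀ x ∈ (P : Subgroup G), α x = x) : ∃ g : G, ∀ x : G, α x = g * x * g⁻¹ := by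
  haveI : Fact (Nat.Prime 2) := ⟨Nat.prime_two⟩
  obtain ⟨Q, hQ⟩ : ∃ Q : Subgroup (Ghat α), Q = Phat α (P : Subgroup G) hfix := ⟨_, rfl⟩
  have hmemQ : ∀ x : Ghat α, x ∈ Q ↔ x.left ∈ (P : Subgroup G) := by
    intro x; rw [hQ]; exact Iff.rfl
  have hQp : IsPGroup 2 Q := hQ ▸ isPGroup_Phat α h2 P P.isPGroup' hfix
  have hidx : ¬ 2 ∣ Q.index := by rw [hQ, index_Phat]; exact P.not_dvd_index
  have hcomm : ∀ x ∈ Q, ∀ y ∈ Q, x * y = y * x := by
    rw [hQ]
    apply Phat_comm
    intro x hx y hy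
    have := hab.is_comm.comm ⟨x, hx⟩ ⟨y, hy⟩
    exact congrArg Subtype.val this
  obtain ⟨S, hS⟩ : ∃ S : Sylow 2 (Ghat α), (S : Subgroup (Ghat α)) = Q :=
    ⟨hQp.toSylow hidx, IsPGroup.toSylow_coe _ _⟩
  haveI hScomm : IsMulCommutative (S : Subgroup (Ghat α)) :=
    ⟨⟨fun a b => Subtype.ext (hcomm a (hS ▸ a.2) b (hS ▸ b.2))⟩⟩
  -- the acting group and the commutative group acted upon
  obtain ⟨N, hN⟩ : ∃ N : Subgroup (Ghat α), N = Subgroup.normalizer (Q : Set (Ghat α)) := ⟨_, rfl⟩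
  have hQN : Q ≤ N := hN ▸ Subgroup.le_normalizer
  letI instX : CommGroup ↥Q :=
    { (inferInstance : Group ↥Q) with
      mul_comm := fun a b => Subtype.ext (hcomm a a.2 b b.2) }
  letI instA : CommGroup ↥(Subgroup.zpowers α) :=
    { (inferInstance : Group ↥(Subgroup.zpowers α)) with
      mul_comm := by
        rintro ⟨a, ha⟩ ⟨b, hb⟩
        apply Subtype.ext
        show a * b = b * a
        obtain ⟨m, rfl⟩ := Subgroup.mem_zpowers_iff.mp ha
        obtain ⟨n, rfl⟩ := Subgroup.mem_zpowers_iff.mp hb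
        rw [← zpow_add, ← zpow_add, add_comm] }
  have hconj : ∀ n ∈ N, ∀ x ∈ Q, n * x * n⁻¹ ∈ Q := by
    intro n hn x hx
    rw [hN] at hn
    exact (Subgroup.mem_normalizer_iff.mp hn x).mp hx
  letI instAct : MulDistribMulAction ↥N ↥Q :=
    { smul := fun n x => ⟨(n : Ghat α) * x * (n : Ghat α)⁻¹, hconj n n.2 x x.2⟩
      one_smul := fun x => Subtype.ext (by show (1 : Ghat α) * x * (1 : Ghat α)⁻¹ = x; group)
      mul_smul := fun n m x => Subtype.ext (by
        show ((n : Ghat α) * m) * x * ((n : Ghat α) * m)⁻¹ = n * (m * x * (m : Ghat α)⁻¹) * (n : Ghat α)⁻¹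
        group)
      smul_mul := fun n x y => Subtype.ext (by
        show (n : Ghat α) * (x * y) * (n : Ghat α)⁻¹ =
          (n * x * (n : Ghat α)⁻¹) * (n * y * (n : Ghat α)⁻¹)
        group)
      smul_one := fun n => Subtype.ext (by
        show (n : Ghat α) * 1 * (n : Ghat α)⁻¹ = 1
        group) }
  have hsmul : ∀ (n : ↥N) (x : ↥Q), ((n • x : ↥Q) : Ghat α) = (n : Ghat α) * x * (n : Ghat α)⁻¹ :=
    fun _ _ => rfl
  -- the element `t = α` of `Q`
  obtain ⟨a, ha⟩ : ∃ a : ↥(Subgroup.zpowers α), (a : MulAut G) = α :=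
    ⟨⟨α, Subgroup.mem_zpowers α⟩, rfl⟩
  have htQ : (SemidirectProduct.inr a : Ghat α) ∈ Q := by
    rw [hmemQ, SemidirectProduct.left_inr]; exact Subgroup.one_mem _
  obtain ⟨z, hzfix, hzψ⟩ := orbit_prod_fixed.{u, u, u} (Γ := ↥N) (X := ↥Q) ⟨SemidirectProduct.inr a, htQ⟩
  -- invariance, in the ambient group
  have hzfix' : ∀ n ∈ N, n * (z : Ghat α) * n⁻¹ = z := by
    intro n hn
    have := hzfix ⟨n, hn⟩
    exact congrArg Subtype.val this
  -- the image in `⟨α⟩`
  obtain ⟨m, hm⟩ : ∃ m : ℕ, m = Nat.card (MulAction.orbit ↥N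
      (⟨SemidirectProduct.inr a, htQ⟩ : ↥Q)) := ⟨_, rfl⟩
  have hzright : (z : Ghat α).right = a ^ m := by
    have h1 := hzψ ((SemidirectProduct.rightHom : Ghat α →* ↥(Subgroup.zpowers α)).comp Q.subtype)
      (by
        intro γ y
        show SemidirectProduct.rightHom ((γ : Ghat α) * (y : Ghat α) * (γ : Ghat α)⁻¹) =
          SemidirectProduct.rightHom (y : Ghat α)
        rw [map_mul, map_mul, map_inv, mul_comm, inv_mul_cancel_left])
    rw [← hm] at h1
    have h2 : ((SemidirectProduct.rightHom : Ghat α →* ↥(Subgroup.zpowers α)).comp Q.subtype)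
        (⟨SemidirectProduct.inr a, htQ⟩ : ↥Q) = a := by
      show SemidirectProduct.rightHom (SemidirectProduct.inr a : Ghat α) = a
      exact SemidirectProduct.rightHom_inr a
    rw [h2] at h1
    exact h1
  -- `m` is odd
  have hmodd : Odd m := by
    have h1 : m * Nat.card (MulAction.stabilizer ↥N (⟨SemidirectProduct.inr a, htQ⟩ : ↥Q)) =
        Nat.card N := by
      rw [hm, Nat.card_coe_set_eq, ← MulAction.index_stabilizer]
      exact Subgroup.index_mul_card _
    have h2 : Q.subgroupOf N ≤ MulAction.stabilizer ↥N (⟨SemidirectProduct.inr a, htQ⟩ : ↥Q) := by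
      intro n hn
      rw [MulAction.mem_stabilizer_iff]
      apply Subtype.ext
      rw [hsmul]
      show (n : Ghat α) * SemidirectProduct.inr a * (n : Ghat α)⁻¹ = SemidirectProduct.inr a
      rw [hcomm n (Subgroup.mem_subgroupOf.mp hn) _ htQ, mul_inv_cancel_right]
    have h3 : Nat.card (Q.subgroupOf N) ∣
        Nat.card (MulAction.stabilizer ↥N (⟨SemidirectProduct.inr a, htQ⟩ : ↥Q)) :=
      Subgroup.card_dvd_of_le h2
    have h4 : Nat.card (Q.subgroupOf N) = Nat.card Q :=
      Nat.card_congr (Subgroup.subgroupOfEquivOfLe hQN).toEquiv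
    rw [h4] at h3
    obtain ⟨c, hc⟩ := h3
    have h5 : Nat.card N ∣ Nat.card (Ghat α) := Subgroup.card_subgroup_dvd_card N
    obtain ⟨d, hd⟩ := h5
    have h6 := Q.index_mul_card
    have h7 : m * c * d * Nat.card Q = Q.index * Nat.card Q := by
      rw [h6, hd, ← h1, hc]; ring
    have h8 : m * c * d = Q.index := Nat.eq_of_mul_eq_mul_right Nat.card_pos h7
    have h9 : m ∣ Q.index := ⟨c * d, by rw [← h8]; ring⟩
    rcases Nat.even_or_odd m with he | ho
    · exact absurd (dvd_trans (even_iff_two_dvd.mp he) h9) hidx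
    · exact ho
  -- `z` has no other conjugate in `S`
  have hzS : (z : Ghat α) ∈ (S : Subgroup (Ghat α)) := hS ▸ z.2
  have hwc : ∀ g : Ghat α, g * (z : Ghat α) * g⁻¹ ∈ (S : Subgroup (Ghat α)) →
      g * (z : Ghat α) * g⁻¹ = z := by
    intro g hg
    obtain ⟨n, hn, hn'⟩ := Sylow.conj_eq_normalizer_conj_of_mem S (z : Ghat α) g⁻¹ hzS
      (by rw [inv_inv]; exact hg)
    rw [inv_inv] at hn'
    rw [hn']
    have hn2 : n⁻¹ ∈ N := by
      rw [hN, ← hS]; exact Subgroup.inv_mem _ hn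
    have := hzfix' n⁻¹ hn2
    rwa [inv_inv] at this
  -- the Z*-theorem
  obtain ⟨M, hMn, hModd, hM⟩ := zstar_elt hZ _ (Ghat α) rfl (z : Ghat α)
    (isTwoElt_of_mem S.2 hzS) (wcElt_of_sylow S (z : Ghat α) hwc)
  have hMbot : M = ⊥ := odd_normal_eq_bot hcore α h2 M hMn hModd
  have hcentral : ∀ g : Ghat α, (z : Ghat α) * g = g * z := by
    intro g
    have := hM g
    rw [hMbot, Subgroup.mem_bot] at this
    calc (z : Ghat α) * g = ((z : Ghat α) * g * (z : Ghat α)⁻¹ * g⁻¹) * (g * z) := by group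
      _ = g * z := by rw [this, one_mul]
  -- read off the action of `α ^ m`
  obtain ⟨y, hy⟩ : ∃ y : G, y = (z : Ghat α).left := ⟨_, rfl⟩
  have hpow : ∀ x : G, (α ^ m) x = y⁻¹ * x * y := by
    intro x
    have h1 := congrArg SemidirectProduct.left (hcentral (SemidirectProduct.inl x))
    rw [SemidirectProduct.mul_left, SemidirectProduct.mul_left, SemidirectProduct.left_inl,
      SemidirectProduct.right_inl, map_one, MulAut.one_apply, hzright, ← hy] at h1
    have h2 : ((Subgroup.zpowers α).subtype (a ^ m)) x = (α ^ m) x := by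
      rw [map_pow]
      show ((a : MulAut G) ^ m) x = (α ^ m) x
      rw [ha]
    rw [h2] at h1
    calc (α ^ m) x = y⁻¹ * (y * (α ^ m) x) := by group
      _ = y⁻¹ * (x * y) := by rw [h1]
      _ = y⁻¹ * x * y := by group
  have hpow' : α ^ m = MulAut.conj y⁻¹ := by
    ext x
    rw [hpow x, MulAut.conj_apply, inv_inv]
  obtain ⟨j, hj⟩ := h2
  have hcop : m.Coprime (orderOf α) := by
    rw [hj]
    exact Nat.Coprime.pow_right j (Nat.coprime_two_right.mpr hmodd)
  obtain ⟨k, hk⟩ := exists_pow_eq_self_of_coprime hcop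
  refine ⟨(y⁻¹) ^ k, ?_⟩
  intro x
  have h3 : α = MulAut.conj ((y⁻¹) ^ k) := by
    rw [map_pow, ← hpow', hk]
  calc α x = (MulAut.conj ((y⁻¹) ^ k)) x := by rw [← h3]
    _ = (y⁻¹) ^ k * x * ((y⁻¹) ^ k)⁻¹ := MulAut.conj_apply _ _

end Cfsg.Agent.Lib.Helper10.ZStarAut
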